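import Mathlib
import Cfsg.Agent.Lib.ThreeTransp.QuadDecomp

/-!
Opposite minimal quadratic elements when there is no normal unipotent subgroup, the torus of an
opposite pair, and the transitivity of the flag group on the opposite classes of a class.
-/

set_option autoImplicit false
set_option linter.unusedSectionVars false

namespace CfsgLib.Flavell

open Cfsg CfsgLib.ThreeTransp

variable {k : Type*} [Field k] {M : Type*} [AddCommGroup M] [Module k M] [FiniteDimensional k M]
variable {G : Subgroup (LinearMap.GeneralLinearGroup k M)}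

local notation "GLM" => LinearMap.GeneralLinearGroup k M
local notation "EndM" => Module.End k M

theorem isPGroup_of_unipotentOn {p : ℕ} [Fact p.Prime] [CharP k p] {H : Subgroup GLM} (h : IsUnipotentOn H) :
    IsPGroup p H := by
  obtain ⟨n, hn⟩ := h
  intro g
  refine ⟨n, Subtype.ext (Units.ext ?_)⟩
  set y : EndM := ((g : GLM) : EndM) - 1 with hy
  have hyn : y ^ n = 0 := by
    have := hn (List.replicate n (g : GLM)) (fun x hx => by rw [List.eq_of_mem_replicate hx]; exact g.2)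
      (List.length_replicate)
    simpa [hy, List.map_map, Function.comp_def, ← List.map_eq_flatMap] using this
  have hpn : y ^ (p ^ n) = 0 :=
    pow_eq_zero_of_le (Nat.lt_pow_self (Fact.out : p.Prime).one_lt).le hyn
  have hp0 : (p : EndM) = 0 := by
    rw [← map_natCast (algebraMap k EndM), CharP.cast_eq_zero, map_zero]
  have e : ((g : GLM) : EndM) = 1 + y := by rw [hy, add_sub_cancel]
  obtain ⟨r, hr⟩ := (Commute.one_left y).exists_add_pow_prime_pow_eq (Fact.out : p.Prime) n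
  rw [Subgroup.coe_pow, Units.val_pow_eq_pow_val, e, hr, hpn, one_pow, hp0]
  simp

/-- `G` has no non-trivial normal `p`-subgroup. -/
def NoPCore (p : ℕ) {X : Type*} [Group X] (G : Subgroup X) : Prop :=
  ∀ N : Subgroup X, N ≤ G → G ≤ Subgroup.normalizer (N : Set X) → IsPGroup p N → N = ⊥

variable {p : ℕ} [Fact p.Prime] [CharP k p] {a b u : Module.End k M}

theorem exists_linked' (h2 : (2 : k) ≠ 0) (h3 : Nat.card k ≠ 3) (hG : NoPCore p G)
    (ha : QMin G a) : ∃ g ∈ G, Linked (eConj g a) a := by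
  by_contra hcon
  push Not at hcon
  set S : Set GLM := {s | ∃ g ∈ G, s = qel (eConj g a)} with hS
  have hSG : S ⊆ G := by rintro _ ⟨g, hg, rfl⟩; exact (ha.1.conj hg).mem
  have hconj : ∀ g ∈ G, ∀ s ∈ S, g * s * g⁻¹ ∈ S := by
    rintro g hg _ ⟨h, hh, rfl⟩
    exact ⟨g * h, mul_mem hg hh, by rw [qel_conj (eConj_sq ha.sq), eConj_comp]⟩
  have hnil : UNil S := by
    refine uNil_of_pairs ?_ fun s hs => hconj s (hSG hs)
    rintro _ ⟨g, hg, rfl⟩ _ ⟨h, hh, rfl⟩
    refine uNil_pair_of_nilpotent (eConj_sq ha.sq) (eConj_sq ha.sq) ?_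
    by_contra hz
    have hl := linked_of_not_nilpotent h2 h3 (ha.conj hg) (ha.conj hh) hz
    refine hcon (h⁻¹ * g) (mul_mem (inv_mem hh) hg) ?_
    have := linked_eConj (g := h⁻¹) hl
    rwa [eConj_comp, eConj_comp, inv_mul_cancel, eConj_one] at this
  have hN := hG (Subgroup.closure S) ((Subgroup.closure_le _).2 hSG)
    (fun g hg => conjBy_eq_self_iff.1 (by
      refine le_antisymm ?_ ?_
      · rw [conjBy, MonoidHom.map_closure, Subgroup.closure_le]
        rintro _ ⟨s, hs, rfl⟩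
        exact Subgroup.subset_closure (hconj g hg s hs)
      · rw [Subgroup.closure_le]
        intro s hs
        refine mem_conjBy.2 (Subgroup.subset_closure ?_)
        simpa using hconj g⁻¹ (inv_mem hg) s hs))
    (isPGroup_of_unipotentOn (unipotent_of_uNil hnil))
  have h1 : qel a ∈ Subgroup.closure S :=
    Subgroup.subset_closure ⟨1, one_mem G, by rw [eConj_one]⟩
  rw [hN, Subgroup.mem_bot] at h1
  exact qel_ne_one ha.sq ha.2.1 h1

theorem exists_common_linked' (h2 : (2 : k) ≠ 0) (h3 : Nat.card k ≠ 3) (hG : NoPCore p G)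
    (ha : QMin G a) (hb : QMin G b) (hl : ¬ Linked a b) (hne : a * b ≠ b * a) :
    ∃ u, QMin G u ∧ Linked u a ∧ Linked u (eps a b) := by
  have hq := (eps_data h2 h3 ha hb hl hne).1
  obtain ⟨t1, t2⟩ := pair_triple h2 h3 ha hb hl
  obtain ⟨g₀, hg₀, hlu⟩ := exists_linked' h2 h3 hG hq
  set u := eConj g₀ (eps a b) with hu
  have hum : QMin G u := hq.conj hg₀
  have hc : ∀ s : k, eConj (qel (s • b)) a = a - s • eps a b := by
    intro s
    rw [eConj, qel_inv (smul_sq_zero hb.sq s), qel_val (smul_sq_zero hb.sq s),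
      qel_val (by rw [neg_mul_neg]; exact smul_sq_zero hb.sq s), eps, add_mul, one_mul, mul_add,
      mul_one, mul_neg, smul_mul_assoc, add_mul, smul_mul_smul_comm, t2, smul_zero, add_zero,
      mul_smul_comm, smul_sub]
    abel
  obtain ⟨s, hs⟩ : ∃ s : k, Linked u (a - s • eps a b) := by
    by_contra hcon
    push Not at hcon
    have h0 : ∀ s : k, (a - s • eps a b) * u * (a - s • eps a b) = 0 := fun s => by
      rw [← hc]
      exact (pair_triple h2 h3 (ha.conj (hb.1.2 s)) hum fun h => hcon s (by rw [← hc]; exact h.symm)).1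
    have k0 := h0 0
    have k1 := h0 1
    have k2 := h0 (-1)
    rw [zero_smul, sub_zero] at k0
    rw [one_smul] at k1
    rw [neg_smul, one_smul, sub_neg_eq_add] at k2
    have e : (2 : k) • (eps a b * u * eps a b) = (a - eps a b) * u * (a - eps a b) +
        (a + eps a b) * u * (a + eps a b) - (2 : k) • (a * u * a) := by
      rw [two_smul, two_smul]; noncomm_ring
    rw [k0, k1, k2, smul_zero, add_zero, sub_zero, smul_eq_zero] at e
    have e0 := e.resolve_left h2
    refine hq.2.1 (LinearMap.ext fun v => ?_)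
    have h1 : u (eps a b v) ∈ LinearMap.range u ⊓ LinearMap.ker (eps a b) :=
      ⟨⟨_, rfl⟩, LinearMap.congr_fun e0 v⟩
    rw [hlu.1, Submodule.mem_bot] at h1
    have h4 : eps a b v ∈ LinearMap.range (eps a b) ⊓ LinearMap.ker u := ⟨⟨v, rfl⟩, h1⟩
    rw [hlu.2, Submodule.mem_bot] at h4
    exact h4
  have hg : qel (s • b) ∈ G := hb.1.2 s
  refine ⟨eConj (qel (s • b))⁻¹ u, hum.conj (inv_mem hg), ?_, ?_⟩
  · have h := linked_eConj (g := (qel (s • b))⁻¹) hs
    rwa [← hc, eConj_comp (qel (s • b))⁻¹ (qel (s • b)), inv_mul_cancel, eConj_one] at h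
  · have h := linked_eConj (g := (qel (s • b))⁻¹) hlu
    have e : eConj (qel (s • b))⁻¹ (eps a b) = eps a b := by
      have n1 : b * eps a b = 0 := by rw [eps, mul_sub, ← mul_assoc, ← mul_assoc, t2, hb.sq]; simp
      have n2 : eps a b * b = 0 := by rw [eps, sub_mul, mul_assoc a b b, hb.sq, t2]; simp
      rw [eConj, inv_inv, qel_inv (smul_sq_zero hb.sq s), qel_val (smul_sq_zero hb.sq s),
        qel_val (by rw [neg_mul_neg]; exact smul_sq_zero hb.sq s), add_mul, one_mul, neg_mul,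
        smul_mul_assoc, n1, smul_zero, neg_zero, add_zero, mul_add, mul_one, mul_smul_comm, n2,
        smul_zero, add_zero]
    rwa [e] at h

/-- Opposite classes are conjugate inside the group they generate. -/
theorem linked_conj (h2 : (2 : k) ≠ 0) (h3 : Nat.card k ≠ 3) (ha : QMin G a) (hb : QMin G b)
    (hl : Linked a b) :
    ∃ g ∈ eGrp G a ha ⊔ eGrp G b hb, conjBy (eGrp G a ha) g = eGrp G b hb := by
  obtain ⟨β, hβ, hβ1, he⟩ := linked_exists_partner h2 h3 ha hb hl (qel_self_mem_eGrp ha)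
    (qel_ne_one ha.sq ha.2.1)
  have h := linked_conj_eq ha hb (qel_self_mem_eGrp ha) hβ (qel_ne_one ha.sq ha.2.1) hβ1 he
  exact ⟨qel a * β⁻¹, mul_mem (Subgroup.mem_sup_left (qel_self_mem_eGrp ha))
      (inv_mem (Subgroup.mem_sup_right hβ)),
    by rw [conjBy_mul, h, conjBy_conjBy_inv]⟩

theorem exists_torus (h2 : (2 : k) ≠ 0) (h3 : Nat.card k ≠ 3) (ha : QMin G a) (hb : QMin G b)
    (hl : Linked a b) {l : k} (hl0 : l ≠ 0) :
    ∃ h : GLM, h ∈ eGrp G a ha ⊔ eGrp G b hb ∧ (h : EndM) * a = l • a ∧ (h : EndM) * b = l⁻¹ • b ∧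
      ∀ v ∈ LinearMap.ker a ⊓ LinearMap.ker b, (h : EndM) v = v := by
  obtain ⟨D⟩ := exists_pairData ha.sq hb.sq
  obtain ⟨-, hA, hB, htop, hmap⟩ := pair_structure h2 h3 ha hb D (not_nilpotent_of_linked ha hl)
  rw [mul_sub, mul_one, sub_eq_zero] at hA hB
  let d : Matrix.SpecialLinearGroup (Fin 2) D.R :=
    ⟨!![algebraMap k D.R l, 0; 0, algebraMap k D.R l⁻¹], by
      rw [Matrix.det_fin_two_of, mul_zero, sub_zero, ← map_mul, mul_inv_cancel₀ hl0, map_one]⟩
  have hd : (d : Matrix (Fin 2) (Fin 2) D.R) = !![algebraMap k D.R l, 0; 0, algebraMap k D.R l⁻¹] := rfl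
  have hmem : D.rho d ∈ eGrp G a ha ⊔ eGrp G b hb := by
    have : D.rho d ∈ pH a b := hmap ▸ ⟨d, by rw [htop]; trivial, rfl⟩
    refine (Subgroup.closure_le _).2 ?_ this
    rintro _ (⟨c, rfl⟩ | ⟨c, rfl⟩)
    · exact Subgroup.mem_sup_left (qel_mem_eGrp ha (Submodule.smul_mem _ c (self_mem_eSpace ha)))
    · exact Subgroup.mem_sup_right (qel_mem_eGrp hb (Submodule.smul_mem _ c (self_mem_eSpace hb)))
  have pa : D.pi * a = a := by rw [D.comm_pi_a.eq]; exact hA.symm
  have pb : D.pi * b = b := by rw [D.comm_pi_b.eq]; exact hB.symm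
  have e12 : a = D.Phi !![0, 1; 0, 0] := by rw [D.Phi_e12, D.phi_one]; exact hA
  have e21 : b = D.Phi !![0, 0; AdjoinRoot.root D.P * 1, 0] := by rw [D.Phi_e21, D.phi_one]; exact hB
  refine ⟨D.rho d, hmem, ?_, ?_, ?_⟩
  · rw [D.rho_val, add_mul, sub_mul, one_mul, pa, sub_self, zero_add]
    refine (congrArg (D.Phi (d : Matrix (Fin 2) (Fin 2) D.R) * ·) e12).trans ?_
    show D.Phi _ * D.Phi _ = l • a
    rw [← D.Phi_mul, hd,
      show !![algebraMap k D.R l, 0; 0, algebraMap k D.R l⁻¹] * !![0, 1; 0, 0] =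
        !![0, algebraMap k D.R l; 0, 0] from by simp]
    rw [D.Phi_e12, D.phi_algebraMap, mul_smul_comm, ← hA]
  · rw [D.rho_val, add_mul, sub_mul, one_mul, pb, sub_self, zero_add]
    refine (congrArg (D.Phi (d : Matrix (Fin 2) (Fin 2) D.R) * ·) e21).trans ?_
    show D.Phi _ * D.Phi _ = l⁻¹ • b
    rw [← D.Phi_mul, hd,
      show !![algebraMap k D.R l, 0; 0, algebraMap k D.R l⁻¹] * !![0, 0; AdjoinRoot.root D.P * 1, 0] =
        !![0, 0; AdjoinRoot.root D.P * algebraMap k D.R l⁻¹, 0] from by simp [mul_comm]]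
    rw [D.Phi_e21, D.phi_algebraMap, mul_smul_comm, ← hB]
  · intro v hv
    have hz : D.z v = 0 := by
      show a (b v) + b (a v) = 0
      rw [LinearMap.mem_ker.1 hv.1, LinearMap.mem_ker.1 hv.2, map_zero, map_zero, add_zero]
    have hpv : D.pi v = 0 := by
      have e : D.pi = D.phi D.rinv * D.z := by
        rw [← D.phi_pi D.rinv, mul_assoc, D.comm_pi_z.eq, ← D.phi_root, ← D.phi_mul, mul_comm,
          D.root_rinv, D.phi_one]
      rw [e, Module.End.mul_apply, hz, map_zero]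
    have hP : D.Phi (d : Matrix (Fin 2) (Fin 2) D.R) v = 0 := by
      rw [← D.Phi_pi, Module.End.mul_apply, hpv, map_zero]
    rw [D.rho_val, LinearMap.add_apply, LinearMap.sub_apply, Module.End.one_apply, hpv, sub_zero, hP,
      add_zero]

/-- The flag group of a class. -/
abbrev flagGrp (a : Module.End k M) (ha : a * a = 0) : Subgroup GLM :=
  coreGroup (LinearMap.range a) (LinearMap.ker a) (range_le_ker_of_sq ha)

theorem isPGroup_flagGrp (ha : a * a = 0) : IsPGroup p (flagGrp a ha) := by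
  refine isPGroup_of_unipotentOn ⟨3, fun l hl hlen => ?_⟩
  obtain ⟨x, y, z, rfl⟩ := List.length_eq_three.1 hlen
  obtain ⟨x1, x2, x3⟩ := hl x (by simp)
  obtain ⟨y1, y2, y3⟩ := hl y (by simp)
  obtain ⟨z1, z2, z3⟩ := hl z (by simp)
  suffices h : udif x * (udif y * udif z) = 0 by
    simpa [udif, mul_assoc] using h
  refine LinearMap.ext fun m => ?_
  exact x3 (y2 ⟨_, z1 ⟨m, rfl⟩, rfl⟩)

theorem torus_flag (hb : QMin G b) (ha : QMin G a) (hl : Linked a b) {l : k}
    {h : GLM} (e1 : (h : EndM) * a = l • a) (e2 : (h : EndM) * b = l⁻¹ • b)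
    (e3 : ∀ v ∈ LinearMap.ker a ⊓ LinearMap.ker b, (h : EndM) v = v) :
    (∀ m ∈ LinearMap.range a, (h : EndM) m = l • m) ∧
    (∀ m ∈ LinearMap.ker a, (h : EndM) m - m ∈ LinearMap.range a) ∧
    (∀ m, (h : EndM) m - l⁻¹ • m ∈ LinearMap.ker a) ∧
    (∀ m, (h : EndM) m = l⁻¹ • m → l ≠ 1 → l * l ≠ 1 → m ∈ LinearMap.range b) ∧
    (∀ m, (h : EndM) m = m → l ≠ 1 → m ∈ LinearMap.ker a ⊓ LinearMap.ker b) := by
  have hA : ∀ m ∈ LinearMap.range a, (h : EndM) m = l • m := by
    rintro _ ⟨m, rfl⟩; exact LinearMap.congr_fun e1 m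
  have hB : ∀ m ∈ LinearMap.range b, (h : EndM) m = l⁻¹ • m := by
    rintro _ ⟨m, rfl⟩; exact LinearMap.congr_fun e2 m
  have hc := linked_inf ha hb hl
  have hsplit : ∀ m : M, ∃ c ∈ LinearMap.ker a ⊓ LinearMap.ker b, ∃ x ∈ LinearMap.range a,
      ∃ y ∈ LinearMap.range b, m = c + x + y := by
    intro m
    obtain ⟨c, hc', w, hw, rfl⟩ := Submodule.mem_sup.1
      (show m ∈ (LinearMap.ker a ⊓ LinearMap.ker b) ⊔ (LinearMap.range a ⊔ LinearMap.range b) by
        rw [hc.sup_eq_top]; trivial)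
    obtain ⟨x, hx, y, hy, rfl⟩ := Submodule.mem_sup.1 hw
    exact ⟨c, hc', x, hx, y, hy, by rw [add_assoc]⟩
  have hval : ∀ c ∈ LinearMap.ker a ⊓ LinearMap.ker b, ∀ x ∈ LinearMap.range a, ∀ y ∈ LinearMap.range b,
      (h : EndM) (c + x + y) = c + l • x + l⁻¹ • y := by
    intro c hc' x hx y hy
    rw [map_add, map_add, e3 c hc', hA x hx, hB y hy]
  have huniq : ∀ c ∈ LinearMap.ker a ⊓ LinearMap.ker b, ∀ x ∈ LinearMap.range a, ∀ y ∈ LinearMap.range b,
      c + x + y = 0 → c = 0 ∧ x = 0 ∧ y = 0 := by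
    intro c hc' x hx y hy hz
    have hxy : c = 0 := by
      refine (Submodule.mem_bot k).1 (hc.inf_eq_bot ▸ ⟨hc', ?_⟩)
      have : c = -(x + y) := eq_neg_of_add_eq_zero_left (by rw [← add_assoc]; exact hz)
      rw [this]
      exact neg_mem (Submodule.add_mem_sup hx hy)
    have hxy' : x + y = 0 := by rw [hxy, zero_add] at hz; exact hz
    have hy0 : y = 0 := by
      refine (Submodule.mem_bot k).1 (hl.2 ▸ ⟨hy, ?_⟩)
      rw [eq_neg_of_add_eq_zero_right hxy']
      exact neg_mem (range_le_ker_of_sq ha.sq hx)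
    rw [hy0, add_zero] at hxy'
    exact ⟨hxy, hxy', hy0⟩
  refine ⟨hA, fun m hm => ?_, fun m => ?_, fun m hm h1 h11 => ?_, fun m hm h1 => ?_⟩
  · obtain ⟨c, hc', x, hx, y, hy, rfl⟩ := hsplit m
    have hy0 : y = 0 := by
      refine (Submodule.mem_bot k).1 (hl.2 ▸ ⟨hy, ?_⟩)
      have : y = (c + x + y) - c - x := by abel
      rw [this]
      exact sub_mem (sub_mem hm hc'.1) (range_le_ker_of_sq ha.sq hx)
    rw [hval c hc' x hx y hy, hy0, smul_zero]
    have : c + l • x + 0 - (c + x + 0) = l • x - x := by abel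
    rw [this]
    exact sub_mem (Submodule.smul_mem _ _ hx) hx
  · obtain ⟨c, hc', x, hx, y, hy, rfl⟩ := hsplit m
    rw [hval c hc' x hx y hy, smul_add, smul_add]
    have : c + l • x + l⁻¹ • y - (l⁻¹ • c + l⁻¹ • x + l⁻¹ • y) = (c - l⁻¹ • c) + (l • x - l⁻¹ • x) := by abel
    rw [this]
    exact add_mem (sub_mem hc'.1 (Submodule.smul_mem _ _ hc'.1))
      (range_le_ker_of_sq ha.sq (sub_mem (Submodule.smul_mem _ _ hx) (Submodule.smul_mem _ _ hx)))
  · obtain ⟨c, hc', x, hx, y, hy, rfl⟩ := hsplit m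
    rw [hval c hc' x hx y hy, smul_add, smul_add] at hm
    have h0 : (1 - l⁻¹) • c + (l - l⁻¹) • x + 0 = 0 := by
      rw [sub_smul, sub_smul, one_smul, add_zero]
      have := sub_eq_zero.2 hm
      rw [← this]; abel
    obtain ⟨c0, x0, -⟩ := huniq _ (Submodule.smul_mem _ _ hc') _ (Submodule.smul_mem _ _ hx) 0
      (zero_mem _) h0
    have c00 : c = 0 := (smul_eq_zero.1 c0).resolve_left fun e => h1 (by
      rw [sub_eq_zero] at e; exact inv_eq_one.1 e.symm)
    have x00 : x = 0 := (smul_eq_zero.1 x0).resolve_left fun e => by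
      rw [sub_eq_zero] at e
      by_cases hl0 : l = 0
      · have := LinearMap.congr_fun e1
        refine ha.2.1 (LinearMap.ext fun v => ?_)
        have h' := this v
        rw [hl0, zero_smul, Module.End.mul_apply] at h'
        have h'' := congrArg ((h⁻¹ : GLM) : EndM) h'
        rw [← Module.End.mul_apply, Units.inv_mul, Module.End.one_apply, LinearMap.zero_apply, map_zero] at h''
        exact h''
      · exact h11 (by nth_rewrite 2 [e]; exact mul_inv_cancel₀ hl0)
    rw [c00, x00, zero_add, zero_add]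
    exact hy
  · obtain ⟨c, hc', x, hx, y, hy, rfl⟩ := hsplit m
    rw [hval c hc' x hx y hy] at hm
    have h0 : (0 : M) + (l - 1) • x + (l⁻¹ - 1) • y = 0 := by
      rw [sub_smul, sub_smul, one_smul, one_smul, zero_add]
      have := sub_eq_zero.2 hm
      rw [← this]; abel
    obtain ⟨-, x0, y0⟩ := huniq 0 (zero_mem _) _ (Submodule.smul_mem _ _ hx) _ (Submodule.smul_mem _ _ hy) h0
    rw [(smul_eq_zero.1 x0).resolve_left (sub_ne_zero.2 h1),
      (smul_eq_zero.1 y0).resolve_left (sub_ne_zero.2 fun e => h1 (inv_eq_one.1 e)), add_zero, add_zero]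
    exact hc'

/-- The flag group is transitive on the classes opposite to a class. -/
theorem linked_transitive [Finite GLM] (h2 : (2 : k) ≠ 0) (h3 : Nat.card k ≠ 3) {d : EndM}
    (ha : QMin G a) (hb : QMin G b) (hd : QMin G d) (hlb : Linked a b) (hld : Linked a d)
    {l : k} (hl0 : l ≠ 0) (hl1 : l ≠ 1) (hl2 : l * l ≠ 1) {T : Subgroup GLM}
    (hTa : eGrp G a ha ≤ T) (hTb : eGrp G b hb ≤ T) (hTd : eGrp G d hd ≤ T) :
    ∃ v ∈ flagGrp a ha.sq ⊓ T,
      LinearMap.range (eConj v b) = LinearMap.range d ∧ LinearMap.ker (eConj v b) = LinearMap.ker d := by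
  obtain ⟨h, hh, a1, a2, a3⟩ := exists_torus h2 h3 ha hb hlb hl0
  obtain ⟨h', hh', b1, b2, b3⟩ := exists_torus h2 h3 ha hd hld hl0
  obtain ⟨f1, f2, f3, f4, f5⟩ := torus_flag hb ha hlb a1 a2 a3
  obtain ⟨g1, g2, g3, g4, g5⟩ := torus_flag hd ha hld b1 b2 b3
  have hTh : h ∈ T := sup_le hTa hTb hh
  have hTh' : h' ∈ T := sup_le hTa hTd hh'
  have hinv : ∀ (W : Submodule k M), (∀ w ∈ W, (h : EndM) w ∈ W) → ∀ w ∈ W, ((h⁻¹ : GLM) : EndM) w ∈ W := by
    intro W hW w hw
    have hinj : Function.Injective (((h : EndM).restrict hW)) := fun x y e => Subtype.ext (by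
      have := congrArg ((h⁻¹ : GLM) : EndM) (congrArg Subtype.val e)
      simpa [← Module.End.mul_apply] using this)
    obtain ⟨x, hx⟩ := LinearMap.injective_iff_surjective.1 hinj ⟨w, hw⟩
    have e : (h : EndM) x.1 = w := congrArg Subtype.val hx
    rw [← e, ← Module.End.mul_apply, Units.inv_mul, Module.End.one_apply]
    exact x.2
  have hKi := hinv (LinearMap.ker a) fun w hw => by
    have := add_mem (range_le_ker_of_sq ha.sq (f2 w hw)) hw
    rwa [sub_add_cancel] at this
  have hAi := hinv (LinearMap.range a) fun w hw => by rw [f1 w hw]; exact Submodule.smul_mem _ _ hw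
  -- the quotient lies in the flag group
  have hq : h' * h⁻¹ ∈ flagGrp a ha.sq ⊓ T := by
    refine ⟨?_, mul_mem hTh' (T.inv_mem hTh)⟩
    have e : udif (h' * h⁻¹) = ((h' : EndM) - (h : EndM)) * ((h⁻¹ : GLM) : EndM) := by
      rw [udif, Units.val_mul, sub_mul, Units.mul_inv]
    refine ⟨?_, ?_, ?_⟩
    · rintro _ ⟨m, rfl⟩
      rw [e, Module.End.mul_apply, LinearMap.sub_apply]
      set w := ((h⁻¹ : GLM) : EndM) m
      have : (h' : EndM) w - (h : EndM) w = ((h' : EndM) w - l⁻¹ • w) - ((h : EndM) w - l⁻¹ • w) := by abel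
      rw [this]
      exact sub_mem (g3 w) (f3 w)
    · rintro _ ⟨m, hm, rfl⟩
      rw [e, Module.End.mul_apply, LinearMap.sub_apply]
      set w := ((h⁻¹ : GLM) : EndM) m
      have : (h' : EndM) w - (h : EndM) w = ((h' : EndM) w - w) - ((h : EndM) w - w) := by abel
      rw [this]
      exact sub_mem (g2 w (hKi m hm)) (f2 w (hKi m hm))
    · intro m hm
      rw [LinearMap.mem_ker, e, Module.End.mul_apply, LinearMap.sub_apply, f1 _ (hAi m hm), g1 _ (hAi m hm),
        sub_self]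
  -- `h` normalizes the flag group and centralizes nothing in it
  set U := flagGrp a ha.sq ⊓ T with hU
  have hnorm : ∀ v ∈ U, h * v * h⁻¹ ∈ U := by
    rintro v ⟨⟨v1, v2, v3⟩, vT⟩
    refine ⟨?_, mul_mem (mul_mem hTh vT) (T.inv_mem hTh)⟩
    have e : udif (h * v * h⁻¹) = (h : EndM) * udif v * ((h⁻¹ : GLM) : EndM) := by
      simp only [udif, Units.val_mul, sub_mul, mul_sub, mul_one, Units.mul_inv]
    refine ⟨?_, ?_, ?_⟩
    · rintro _ ⟨m, rfl⟩
      rw [e, Module.End.mul_apply, Module.End.mul_apply]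
      have hv := v1 ⟨((h⁻¹ : GLM) : EndM) m, rfl⟩
      have := add_mem (range_le_ker_of_sq ha.sq (f2 _ hv)) hv
      rwa [sub_add_cancel] at this
    · rintro _ ⟨m, hm, rfl⟩
      rw [e, Module.End.mul_apply, Module.End.mul_apply]
      have hv := v2 ⟨_, hKi m hm, rfl⟩
      rw [f1 _ hv]
      exact Submodule.smul_mem _ _ hv
    · intro m hm
      rw [LinearMap.mem_ker, e, Module.End.mul_apply, Module.End.mul_apply,
        LinearMap.mem_ker.1 (v3 (hAi m hm)), map_zero]
  have hfpf : ∀ v ∈ U, v * h = h * v → v = 1 := by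
    rintro v ⟨⟨v1, v2, v3⟩, -⟩ hcomm
    set y := udif v
    have hy : ∀ m, (h : EndM) (y m) = y ((h : EndM) m) := by
      intro m
      have := congrArg (fun g : GLM => (g : EndM) m) hcomm
      simp only [Units.val_mul, Module.End.mul_apply] at this
      show (h : EndM) (udif v m) = udif v ((h : EndM) m)
      simp only [udif, LinearMap.sub_apply, Module.End.one_apply, map_sub, this]
    refine Units.ext (sub_eq_zero.1 (LinearMap.ext fun m => ?_))
    show y m = 0
    obtain ⟨c, hc', w, hw, rfl⟩ := Submodule.mem_sup.1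
      (show m ∈ (LinearMap.ker a ⊓ LinearMap.ker b) ⊔ (LinearMap.range a ⊔ LinearMap.range b) by
        rw [(linked_inf ha hb hlb).sup_eq_top]; trivial)
    obtain ⟨x, hx, z, hz, rfl⟩ := Submodule.mem_sup.1 hw
    have yx : y x = 0 := v3 hx
    have yc : y c = 0 := by
      have h1 := v2 ⟨c, hc'.1, rfl⟩
      have h4 := hy c
      rw [a3 c hc', f1 _ h1] at h4
      have : (l - 1) • y c = 0 := by rw [sub_smul, one_smul, h4, sub_self]
      exact (smul_eq_zero.1 this).resolve_left (sub_ne_zero.2 hl1)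
    have yz : y z = 0 := by
      have hz' : (h : EndM) z = l⁻¹ • z := by obtain ⟨q, rfl⟩ := hz; exact LinearMap.congr_fun a2 q
      have h4 := hy z
      rw [hz', map_smul] at h4
      have h5 : y z ∈ LinearMap.range b := f4 _ h4 hl1 hl2
      exact (Submodule.mem_bot k).1 (hlb.2 ▸ ⟨h5, v1 ⟨z, rfl⟩⟩)
    rw [map_add, map_add, yc, yx, yz, add_zero, add_zero]
  -- surjectivity of the commutator map
  let f : U → U := fun v => ⟨v.1 * (h * v.1⁻¹ * h⁻¹), mul_mem v.2 (hnorm _ (inv_mem v.2))⟩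
  have hfinj : Function.Injective f := by
    intro v w e
    have e' : v.1 * (h * v.1⁻¹ * h⁻¹) = w.1 * (h * w.1⁻¹ * h⁻¹) := congrArg Subtype.val e
    refine Subtype.ext (inv_mul_eq_one.1 (hfpf _ (mul_mem (inv_mem v.2) w.2) ?_))
    calc v.1⁻¹ * w.1 * h = v.1⁻¹ * (w.1 * (h * w.1⁻¹ * h⁻¹)) * h * w.1 := by group
      _ = v.1⁻¹ * (v.1 * (h * v.1⁻¹ * h⁻¹)) * h * w.1 := by rw [e']
      _ = h * (v.1⁻¹ * w.1) := by group
  obtain ⟨v, hv⟩ := Finite.surjective_of_injective hfinj ⟨h' * h⁻¹, hq⟩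
  have hv' : v.1 * h * v.1⁻¹ = h' := by
    have := congrArg (fun g : U => (g : GLM) * h) hv
    simpa [f, mul_assoc] using this
  have heig : ∀ m, (h : EndM) (((v.1⁻¹ : GLM) : EndM) m) = ((v.1⁻¹ : GLM) : EndM) ((h' : EndM) m) := by
    intro m
    have e : h * v.1⁻¹ = v.1⁻¹ * h' := by rw [← hv']; group
    have := congrArg (fun g : GLM => (g : EndM) m) e
    simpa only [Units.val_mul, Module.End.mul_apply] using this
  refine ⟨v.1, v.2, ?_, ?_⟩
  · refine (Submodule.eq_of_le_of_finrank_le (fun m hm => ?_) ?_).symm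
    · rw [range_eConj]
      refine ⟨((v.1⁻¹ : GLM) : EndM) m, f4 _ ?_ hl1 hl2, ?_⟩
      · have hm' : (h' : EndM) m = l⁻¹ • m := by obtain ⟨q, rfl⟩ := hm; exact LinearMap.congr_fun b2 q
        rw [heig, hm', map_smul]
      · rw [← Module.End.mul_apply, Units.mul_inv, Module.End.one_apply]
    · show erk (eConj v.1 b) ≤ erk d
      rw [erk_eConj, erk_eq_of_qmin hb hd]
  · have hle : LinearMap.ker d ≤ LinearMap.ker (eConj v.1 b) := by
      intro m hm
      obtain ⟨c, hc', w, hw, rfl⟩ := Submodule.mem_sup.1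
        (show m ∈ (LinearMap.ker a ⊓ LinearMap.ker d) ⊔ (LinearMap.range a ⊔ LinearMap.range d) by
          rw [(linked_inf ha hd hld).sup_eq_top]; trivial)
      obtain ⟨x, hx, z, hz, rfl⟩ := Submodule.mem_sup.1 hw
      have hx0 : x = 0 := by
        refine (Submodule.mem_bot k).1 (hld.1 ▸ ⟨hx, ?_⟩)
        have : x = (c + (x + z)) - c - z := by abel
        rw [this]
        exact sub_mem (sub_mem hm hc'.2) (range_le_ker_of_sq hd.sq hz)
      rw [hx0, zero_add, mem_ker_eConj, map_add]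
      refine add_mem (f5 _ (by rw [heig, b3 c hc']) hl1).2 ?_
      refine range_le_ker_of_sq hb.sq (f4 _ ?_ hl1 hl2)
      have hz' : (h' : EndM) z = l⁻¹ • z := by obtain ⟨q, rfl⟩ := hz; exact LinearMap.congr_fun b2 q
      rw [heig, hz', map_smul]
    refine (Submodule.eq_of_le_of_finrank_le hle ?_).symm
    have h4 := LinearMap.finrank_range_add_finrank_ker (eConj v.1 b)
    have h5 := LinearMap.finrank_range_add_finrank_ker d
    have h6 : erk (eConj v.1 b) = erk d := by rw [erk_eConj, erk_eq_of_qmin hb hd]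
    simp only [erk] at h6
    omega

end CfsgLib.Flavell
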