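import Mathlib
import Cfsg.Agent.Lib.ThreeTransp.RankOne

/-!
Subgroup lemmas for coprime actions on families of commuting `p`-subgroups.
-/

set_option autoImplicit false
set_option linter.style.haveILetI false

namespace CfsgLib.Flavell

open Cfsg Subgroup CfsgLib.ThreeTransp
open scoped Pointwise

variable {X : Type*} [Group X]

theorem isPGroup_iSup_of_normalizing {p : ℕ} [Fact p.Prime] {ι : Type*} [Finite ι] (Q : ι → Subgroup X)
    (hQ : ∀ i, IsPGroup p (Q i)) (hn : ∀ i j, Q i ≤ normalizer (Q j : Set X)) :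
    IsPGroup p (⨆ i, Q i : Subgroup X) := by
  classical
  haveI := Fintype.ofFinite ι
  have key : ∀ s : Finset ι, IsPGroup p (⨆ i ∈ s, Q i : Subgroup X) := by
    intro s
    induction s using Finset.induction with
    | empty =>
      have e : (⨆ i ∈ (∅ : Finset ι), Q i) = ⊥ := le_bot_iff.1 (iSup₂_le fun i hi => absurd hi (Finset.notMem_empty i))
      rw [e]
      exact IsPGroup.of_bot
    | insert a s ha ih =>
      rw [Finset.iSup_insert]
      refine IsPGroup.to_sup_of_normal_left' (hQ a) ih (iSup₂_le fun i _ => hn i a)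
  have e : (⨆ i, Q i) = ⨆ i ∈ (Finset.univ : Finset ι), Q i :=
    le_antisymm (iSup_le fun i => le_iSup₂_of_le i (Finset.mem_univ i) le_rfl)
      (iSup₂_le fun i _ => le_iSup Q i)
  rw [e]
  exact key _

theorem le_normalizer_iSup {ι : Type*} (Q : ι → Subgroup X) (R : Subgroup X)
    (h : ∀ r ∈ R, ∀ i, ∃ j, conjBy (Q i) r = Q j) :
    R ≤ normalizer ((⨆ i, Q i : Subgroup X) : Set X) := by
  have hle : ∀ r ∈ R, conjBy (⨆ i, Q i) r ≤ ⨆ i, Q i := by
    intro r hr
    rw [conjBy, Subgroup.map_iSup]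
    refine iSup_le fun i => ?_
    obtain ⟨j, hj⟩ := h r hr i
    exact le_of_eq_of_le hj (le_iSup Q j)
  intro r hr
  refine conjBy_eq_self_iff.1 (le_antisymm (hle r hr) ?_)
  conv_lhs => rw [← conjBy_conjBy_inv (⨆ i, Q i) r]
  exact Subgroup.map_mono (hle r⁻¹ (inv_mem hr))

theorem conjBy_mono {A B : Subgroup X} (g : X) (h : A ≤ B) : conjBy A g ≤ conjBy B g :=
  Subgroup.map_mono h

theorem conjBy_eq_of_mem_normalizer {A : Subgroup X} {g : X} (h : g ∈ normalizer (A : Set X)) :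
    conjBy A g = A := conjBy_eq_self_iff.2 h

theorem isPGroup_conjBy {p : ℕ} {A : Subgroup X} (h : IsPGroup p A) (g : X) :
    IsPGroup p (conjBy A g) :=
  h.map _

theorem conjBy_centralize {A B : Subgroup X} (g : X) (h : ∀ a ∈ A, ∀ b ∈ B, a * b = b * a) :
    ∀ a ∈ conjBy A g, ∀ b ∈ conjBy B g, a * b = b * a := by
  rintro _ ⟨a, ha, rfl⟩ _ ⟨b, hb, rfl⟩
  rw [← map_mul, ← map_mul, h a ha b hb]

theorem le_normalizer_of_commute {A B : Subgroup X} (h : ∀ a ∈ A, ∀ b ∈ B, a * b = b * a) :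
    A ≤ normalizer (B : Set X) := fun a ha => conjBy_eq_self_iff.1 (conjBy_of_commute (h a ha))

theorem sup_commute {ι κ : Type*} {A : ι → Subgroup X} {B : κ → Subgroup X}
    (h : ∀ i j, ∀ a ∈ A i, ∀ b ∈ B j, a * b = b * a) :
    ∀ a ∈ (⨆ i, A i), ∀ b ∈ (⨆ j, B j), a * b = b * a := by
  have h1 : ∀ i, A i ≤ centralizer ((⨆ j, B j : Subgroup X) : Set X) := by
    intro i
    rw [Subgroup.le_centralizer_iff]
    refine iSup_le fun j b hb => Subgroup.mem_centralizer_iff.2 fun a ha => h i j a ha b hb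
  intro a ha b hb
  exact (Subgroup.mem_centralizer_iff.1 (iSup_le h1 ha) b hb).symm

theorem orbit_sup_isPGroup {p : ℕ} [Fact p.Prime] (R U : Subgroup X) [Finite R] (hU : IsPGroup p U)
    (h : ∀ r ∈ R, conjBy U r = U ∨ ∀ u ∈ U, ∀ v ∈ conjBy U r, u * v = v * u) :
    ∃ Q : Subgroup X, IsPGroup p Q ∧ R ≤ normalizer (Q : Set X) ∧ U ≤ Q ∧
      ∀ W : Subgroup X, U ≤ W → R ≤ normalizer (W : Set X) → Q ≤ W := by
  refine ⟨⨆ r : R, conjBy U (r : X), ?_, le_normalizer_iSup _ R fun r hr i =>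
    ⟨⟨r, hr⟩ * i, by rw [← conjBy_mul]; rfl⟩, ?_, ?_⟩
  · refine isPGroup_iSup_of_normalizing _ (fun r => isPGroup_conjBy hU _) fun i j => ?_
    rcases h _ (R.mul_mem (R.inv_mem j.2) i.2) with e | e
    · have : conjBy U (i : X) = conjBy U (j : X) := by
        conv_rhs => rw [← e]
        rw [← conjBy_mul, mul_inv_cancel_left]
      rw [this]
      exact le_normalizer
    · have e' := conjBy_centralize (j : X) e
      rw [← conjBy_mul, mul_inv_cancel_left] at e'
      exact le_normalizer_of_commute fun a ha b hb => (e' b hb a ha).symm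
  · exact le_iSup_of_le (1 : R) (le_of_eq (conjBy_one U).symm)
  · intro W hUW hRW
    refine iSup_le fun r => ?_
    rw [← conjBy_eq_of_mem_normalizer (hRW r.2)]
    exact conjBy_mono _ hUW

theorem exists_fixed_in_set {α : Type*} (act : X →* Equiv.Perm α) {r : ℕ} [Fact r.Prime] {R : Subgroup X}
    (hR : IsPGroup r R) (S : Set α) [Finite S] (hS : ∀ g ∈ R, ∀ x ∈ S, act g x ∈ S)
    (hd : ¬ r ∣ Nat.card S) : ∃ x ∈ S, ∀ g ∈ R, act g x = x := by
  letI : MulAction R S :=
    { smul := fun g x => ⟨act g x, hS g g.2 x x.2⟩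
      one_smul := fun x => Subtype.ext (by show act ((1 : R) : X) x = x; simp)
      mul_smul := fun g g' x => Subtype.ext (by
        show act ((g * g' : R) : X) x = act g (act g' x)
        simp) }
  obtain ⟨x, hx⟩ := hR.nonempty_fixed_point_of_prime_not_dvd_card S hd
  exact ⟨x, x.2, fun g hg => congrArg Subtype.val (hx ⟨g, hg⟩)⟩

/-- Conjugation of subgroups, as a permutation action. -/
def conjPerm : X →* Equiv.Perm (Subgroup X) where
  toFun g := ⟨fun A => conjBy A g, fun A => conjBy A g⁻¹,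
    fun A => conjBy_inv_conjBy A g, fun A => conjBy_conjBy_inv A g⟩
  map_one' := Equiv.ext fun A => conjBy_one A
  map_mul' g h := Equiv.ext fun A => conjBy_mul A g h

@[simp] theorem conjPerm_apply (g : X) (A : Subgroup X) : conjPerm g A = conjBy A g := rfl

theorem card_conjClass_dvd (T : Subgroup X) (A : Subgroup X) :
    Nat.card {B : Subgroup X | ∃ t ∈ T, B = conjBy A t} ∣ Nat.card T := by
  letI : MulAction T (Subgroup X) := MulAction.compHom _ (conjPerm.comp T.subtype)
  have h : {B : Subgroup X | ∃ t ∈ T, B = conjBy A t} = MulAction.orbit T A := by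
    ext B
    exact ⟨fun ⟨t, ht, e⟩ => ⟨⟨t, ht⟩, e.symm⟩, fun ⟨t, e⟩ => ⟨t, t.2, e.symm⟩⟩
  rw [h, Nat.card_coe_set_eq, ← MulAction.index_stabilizer]
  exact Subgroup.index_dvd_card _

end CfsgLib.Flavell
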