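import Mathlib
import Cfsg.Agent.Lib.Flavell.Pieces
import Cfsg.Agent.Lib.Flavell.Linked
import Cfsg.Agent.Lib.Coprime.Action

/-!
The intersection of the invariant Sylow subgroups, and elements of normal `p`-subgroups.
-/

set_option autoImplicit false
set_option linter.style.haveILetI false

namespace CfsgLib.Flavell

open Cfsg Subgroup CfsgLib.ThreeTransp

variable {X : Type*} [Group X] {p : ℕ} {G H R R₁ S U : Subgroup X} {g x c : X}

/-- An invariant `p`-subgroup of `G`. -/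
def IsInvP (p : ℕ) (G R S : Subgroup X) : Prop :=
  S ≤ G ∧ IsPGroup p S ∧ R ≤ Subgroup.normalizer (S : Set X)

/-- A maximal invariant `p`-subgroup of `G`. -/
def IsInvSyl (p : ℕ) (G R S : Subgroup X) : Prop := Maximal (IsInvP p G R) S

/-- The intersection of the maximal invariant `p`-subgroups of `G`. -/
def invCap (p : ℕ) (G R : Subgroup X) : Subgroup X :=
  G ⊓ ⨅ S : {S : Subgroup X // IsInvSyl p G R S}, (S : Subgroup X)

/-- `x` lies in a normal `p`-subgroup of `H`. -/
def InPCore (p : ℕ) (H : Subgroup X) (x : X) : Prop :=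
  ∃ N : Subgroup X, N ≤ H ∧ H ≤ Subgroup.normalizer (N : Set X) ∧ IsPGroup p N ∧ x ∈ N

theorem mem_invCap : g ∈ invCap p G R ↔ g ∈ G ∧ ∀ S, IsInvSyl p G R S → g ∈ S := by
  simp only [invCap, Subgroup.mem_inf, Subgroup.mem_iInf, Subtype.forall]

theorem invCap_le : invCap p G R ≤ G := inf_le_left

theorem invCap_le_invSyl (h : IsInvSyl p G R S) : invCap p G R ≤ S := fun _ hg => (mem_invCap.1 hg).2 S h

theorem exists_invSyl_ge [Finite X] (hU : IsInvP p G R U) : ∃ S, IsInvSyl p G R S ∧ U ≤ S := by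
  obtain ⟨S, hUS, hS⟩ := (Set.toFinite {V | IsInvP p G R V}).exists_le_maximal hU
  exact ⟨S, hS, hUS⟩

theorem isInvP_bot : IsInvP p G R ⊥ :=
  ⟨bot_le, IsPGroup.of_bot, fun _ _ => conjBy_eq_self_iff.1 (Subgroup.map_bot _)⟩

theorem isPGroup_invCap [Finite X] : IsPGroup p (invCap p G R) := by
  obtain ⟨S, hS, -⟩ := exists_invSyl_ge (p := p) (G := G) (R := R) isInvP_bot
  exact hS.1.2.1.to_le (invCap_le_invSyl hS)

/-- An element of the intersection generates a `p`-group with every invariant `p`-subgroup. -/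
theorem isPGroup_sup_of_mem [Finite X] (hU : IsInvP p G R U) (hg : g ∈ invCap p G R) :
    IsPGroup p (U ⊔ Subgroup.zpowers g : Subgroup X) := by
  obtain ⟨S, hS, hUS⟩ := exists_invSyl_ge hU
  exact hS.1.2.1.to_le (sup_le hUS ((Subgroup.zpowers_le).2 ((mem_invCap.1 hg).2 S hS)))

theorem invSyl_conjBy (hG : c ∈ Subgroup.normalizer (G : Set X)) (hR : c ∈ Subgroup.normalizer (R : Set X))
    (h : IsInvSyl p G R S) : IsInvSyl p G R (conjBy S c) := by
  have key : ∀ {c : X} {V : Subgroup X}, c ∈ Subgroup.normalizer (G : Set X) →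
      c ∈ Subgroup.normalizer (R : Set X) → IsInvP p G R V → IsInvP p G R (conjBy V c) := by
    intro c V hG hR hV
    refine ⟨?_, hV.2.1.map _, fun r hr => conjBy_eq_self_iff.1 ?_⟩
    · rw [← conjBy_eq_self_iff.2 hG]
      exact Subgroup.map_mono hV.1
    · have hr' : c⁻¹ * r * c ∈ R := by
        have := (Subgroup.mem_normalizer_iff.1 (inv_mem hR) r).1 hr
        simpa using this
      have e : r * c = c * (c⁻¹ * r * c) := by group
      rw [← conjBy_mul, e, conjBy_mul, conjBy_eq_self_iff.2 (hV.2.2 hr')]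
  refine ⟨key hG hR h.1, fun V hV hle => ?_⟩
  have h1 : S ≤ conjBy V c⁻¹ := by
    rw [← conjBy_inv_conjBy S c]
    exact Subgroup.map_mono hle
  have h2 := h.2 (key (inv_mem hG) (inv_mem hR) hV) h1
  rw [← conjBy_conjBy_inv V c]
  exact Subgroup.map_mono h2

theorem conj_mem_invCap (hG : c ∈ Subgroup.normalizer (G : Set X)) (hR : c ∈ Subgroup.normalizer (R : Set X))
    (hg : g ∈ invCap p G R) : c * g * c⁻¹ ∈ invCap p G R := by
  obtain ⟨h1, h2⟩ := mem_invCap.1 hg
  refine mem_invCap.2 ⟨(Subgroup.mem_normalizer_iff.1 hG g).1 h1, fun S hS => ?_⟩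
  have h3 := h2 _ (invSyl_conjBy (inv_mem hG) (inv_mem hR) hS)
  rw [mem_conjBy, inv_inv] at h3
  exact h3

/-- A maximal invariant `p`-subgroup is a maximal `p`-subgroup. -/
theorem IsInvSyl.eq_of_le [Finite X] [Fact p.Prime] {r : ℕ} [Fact r.Prime] (hR : IsPGroup r R)
    (hn : R ≤ Subgroup.normalizer (G : Set X)) (hcop : (Nat.card G).Coprime r)
    (h : IsInvSyl p G R S) {V : Subgroup X} (hVG : V ≤ G) (hV : IsPGroup p V) (hle : S ≤ V) : V = S := by
  obtain ⟨n, hcard⟩ := IsPGroup.iff_card.1 hR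
  obtain ⟨P, hSP, hPR⟩ := CfsgLib.Coprime.exists_invariant_sylow_ge (p := p) hn
    (by rw [hcard]; exact (Nat.Coprime.pow_right n hcop).symm)
    (Or.inl (haveI := hR.isNilpotent; inferInstance)) h.1.1 h.1.2.1 h.1.2.2
  have e : (P : Subgroup G).map G.subtype = S :=
    le_antisymm (h.2 ⟨Subgroup.map_subtype_le _, P.2.map _, hPR⟩ hSP) hSP
  have h1 : (P : Subgroup G) ≤ V.subgroupOf G := by
    intro y hy
    exact hle (e ▸ ⟨y, hy, rfl⟩)
  have h2 := P.3 (hV.comap_of_injective G.subtype G.subtype_injective) h1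
  rw [← e, ← h2]
  exact (Subgroup.map_subgroupOf_eq_of_le hVG).symm

/-- Membership in the intersection passes to a subgroup whose invariant `p`-subgroups extend. -/
theorem mem_invCap_restrict [Finite X] [Fact p.Prime] {r : ℕ} [Fact r.Prime] (hR₁ : IsPGroup r R₁)
    (hn : R₁ ≤ Subgroup.normalizer (H : Set X)) (hcop : (Nat.card H).Coprime r)
    (hext : ∀ S, IsInvSyl p H R₁ S → ∃ T, IsInvP p G R T ∧ S ≤ T)
    (hg : g ∈ invCap p G R) (hgH : g ∈ H) : g ∈ invCap p H R₁ := by
  refine mem_invCap.2 ⟨hgH, fun S hS => ?_⟩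
  obtain ⟨T, hT, hST⟩ := hext S hS
  have hp : IsPGroup p (S ⊔ Subgroup.zpowers g : Subgroup X) :=
    (isPGroup_sup_of_mem hT hg).to_le (sup_le_sup_right hST _)
  have := hS.eq_of_le hR₁ hn hcop (sup_le hS.1.1 (Subgroup.zpowers_le.2 hgH)) hp le_sup_left
  rw [← this]
  exact Subgroup.mem_sup_right (Subgroup.mem_zpowers g)

/-- The same for an invariant subgroup and the same operator group. -/
theorem mem_invCap_of_le [Finite X] [Fact p.Prime] {r : ℕ} [Fact r.Prime] (hR : IsPGroup r R)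
    (hn : R ≤ Subgroup.normalizer (H : Set X)) (hle : H ≤ G) (hcop : (Nat.card G).Coprime r)
    (hg : g ∈ invCap p G R) (hgH : g ∈ H) : g ∈ invCap p H R :=
  mem_invCap_restrict hR hn (hcop.coprime_dvd_left (Subgroup.card_dvd_of_le hle))
    (fun S hS => ⟨S, ⟨hS.1.1.trans hle, hS.1.2.1, hS.1.2.2⟩, le_rfl⟩) hg hgH

/-- A normal subgroup of a group without normal `p`-subgroups has none. -/
theorem NoPCore.normal [Finite X] [Fact p.Prime] (hG : NoPCore p G) (hle : H ≤ G)
    (hn : G ≤ Subgroup.normalizer (H : Set X)) : NoPCore p H := by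
  intro N hN hHN hNp
  have hQ : ∀ i j : G, conjBy N (i : X) ≤ Subgroup.normalizer (conjBy N (j : X) : Set X) := by
    intro i j
    have h1 : conjBy N (i : X) ≤ H := (Subgroup.map_mono hN).trans (le_of_eq (conjBy_eq_self_iff.2 (hn i.2)))
    refine h1.trans ?_
    intro y hy
    refine conjBy_eq_self_iff.1 ?_
    have hy' : (j : X)⁻¹ * y * (j : X) ∈ H := by
      have := (Subgroup.mem_normalizer_iff.1 (inv_mem (hn j.2)) y).1 hy
      simpa using this
    have e : y * (j : X) = (j : X) * ((j : X)⁻¹ * y * (j : X)) := by group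
    rw [← conjBy_mul, e, conjBy_mul, conjBy_eq_self_iff.2 (hHN hy')]
  have h0 := hG (⨆ i : G, conjBy N (i : X))
    (iSup_le fun i => ((Subgroup.map_mono hN).trans (le_of_eq (conjBy_eq_self_iff.2 (hn i.2)))).trans hle)
    (le_normalizer_iSup _ G fun g hg i => ⟨⟨g, hg⟩ * i, by rw [← conjBy_mul]; rfl⟩)
    (isPGroup_iSup_of_normalizing _ (fun i => hNp.map _) hQ)
  exact le_bot_iff.1 (h0 ▸ le_iSup_of_le (1 : G) (le_of_eq (conjBy_one N).symm))

theorem InPCore.eq_one (h : InPCore p G x) (hG : NoPCore p G) : x = 1 := by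
  obtain ⟨N, h1, h2, h3, h4⟩ := h
  rwa [hG N h1 h2 h3, Subgroup.mem_bot] at h4

end CfsgLib.Flavell
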