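import Mathlib
import Cfsg.Agent.Lib.Flavell.Linked

/-!
Splitting of a quadratic family along a minimal one, and families unlinked with all minimal ones,
without assuming irreducibility.
-/

set_option autoImplicit false
set_option linter.unusedSectionVars false
set_option linter.unusedSimpArgs false
set_option linter.style.haveILetI false

namespace CfsgLib.Flavell

open Cfsg Polynomial CfsgLib.ThreeTransp

variable {k : Type*} [Field k] {M : Type*} [AddCommGroup M] [Module k M] [FiniteDimensional k M]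
variable {G : Subgroup (LinearMap.GeneralLinearGroup k M)}

local notation "GLM" => LinearMap.GeneralLinearGroup k M
local notation "EndM" => Module.End k M

variable {a s x y : Module.End k M}
variable {p : ℕ} [Fact p.Prime] [CharP k p]

theorem exists_split' (h2 : (2 : k) ≠ 0) (h3 : Nat.card k ≠ 3) (ha : QMin G a) (hs : QFam G s)
    (hz : ¬ IsNilpotent (a * s + s * a)) :
    ∃ s₁ s₀ : EndM, s = s₁ + s₀ ∧ QMin G s₁ ∧ QFam G s₀ ∧ s₁ * s₀ = 0 ∧ s₀ * s₁ = 0 ∧
      Linked a s₁ ∧ erk s₀ < erk s ∧ a * s₀ = 0 ∧ s₀ * a = 0 := by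
  obtain ⟨D⟩ := exists_pairData ha.sq hs.1
  have hirr := mixed_irreducible h2 h3 ha hs D hz
  have hA := D.commutator_step h2 h3 hirr ha hs
  haveI : Fact (Irreducible D.P) := ⟨hirr⟩
  haveI := D.finite_R
  have h2K : (2 : D.R) ≠ 0 := fun h => h2 ((algebraMap k D.R).injective (by rw [map_ofNat, h, map_zero]))
  have htop : D.Hbar = ⊤ := pairGroup_eq_top h2K h3 D.isUnit_root.ne_zero AdjoinRoot.adjoinRoot_eq_top
  set w := 1 - D.pi with hw
  have w2 : w * w = w := D.compl_idem
  have hwh : ∀ {h : GLM}, h ∈ pH a s → (h : EndM) * w = w * (h : EndM) := fun hh =>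
    ((Commute.one_left _).sub_left (D.pi_comm_pH hh)).eq.symm
  -- on the complement the group is abelian
  have hab : ∀ h ∈ pH a s, ∃ c : k, (h : EndM) * w = w + c • (s * w) := by
    intro h hh
    refine pH_induction ha.sq hs.1 (p := fun h => ∃ c : k, ((h : GLM) : EndM) * w = w + c • (s * w))
      ⟨0, by simp⟩ ?_ ?_ hh
    · rintro c h - ⟨d, hd⟩
      refine ⟨d, ?_⟩
      rw [Units.val_mul, qel_val (smul_sq_zero ha.sq c), mul_assoc, hd, mul_add, add_mul, add_mul,
        one_mul, one_mul, smul_mul_assoc, hA, smul_zero, add_zero, mul_smul_comm, smul_mul_assoc]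
      have : a * (s * w) = 0 := by
        have hsw : s * w = w * s := ((Commute.one_left _).sub_left D.comm_pi_b).eq.symm
        rw [hsw, ← mul_assoc, hA, zero_mul]
      rw [this, smul_zero, smul_zero, add_zero]
    · rintro c h - ⟨d, hd⟩
      refine ⟨c + d, ?_⟩
      rw [Units.val_mul, qel_val (smul_sq_zero hs.1 c), mul_assoc, hd, mul_add, add_mul, add_mul,
        one_mul, one_mul, mul_smul_comm, smul_mul_assoc, smul_mul_assoc, ← mul_assoc s s, hs.1,
        zero_mul, smul_zero, smul_zero, add_zero, add_smul]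
      abel
  have hcomm : ∀ {h h' : GLM}, h ∈ pH a s → h' ∈ pH a s →
      ((h * h' * h⁻¹ * h'⁻¹ : GLM) : EndM) * w = w := by
    intro h h' hh hh'
    have hs2 : s * w * (s * w) = 0 := D.sq_compl_b
    have key : ∀ {p q : GLM}, p ∈ pH a s → q ∈ pH a s →
        ((p * q : GLM) : EndM) * w = ((q * p : GLM) : EndM) * w := by
      intro p q hp hq
      obtain ⟨c, hc⟩ := hab p hp
      obtain ⟨d, hd⟩ := hab q hq
      have e : ∀ {p q : GLM}, q ∈ pH a s →
          ((p * q : GLM) : EndM) * w = ((p : EndM) * w) * ((q : EndM) * w) := by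
        intro p q hq
        rw [Units.val_mul, mul_assoc (p : EndM) w, ← mul_assoc w, ← hwh hq, mul_assoc (q : EndM) w, w2,
          mul_assoc]
      rw [e hq, e hp, hc, hd]
      have c1 : Commute w (s * w) :=
        (((Commute.one_left _).sub_left D.comm_pi_b).mul_right (Commute.refl w))
      exact (((Commute.refl w).add_right (c1.smul_right d)).add_left
        ((c1.symm.smul_left c).add_right (((Commute.refl (s * w)).smul_left c).smul_right d))).eq
    calc ((h * h' * h⁻¹ * h'⁻¹ : GLM) : EndM) * w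
        = (((h * h') * (h'⁻¹ * h⁻¹) : GLM) : EndM) * w := by
          rw [mul_assoc (h * h') h⁻¹ h'⁻¹, Units.val_mul (h * h') _, Units.val_mul (h * h') _, mul_assoc,
            mul_assoc, key (inv_mem hh) (inv_mem hh')]
      _ = w := by rw [show h * h' * (h'⁻¹ * h⁻¹) = 1 by group, Units.val_one, one_mul]
  obtain ⟨l, hl0, hl1⟩ := exists_sq_ne_one h2 h3
  have hdet : algebraMap k D.R l⁻¹ * algebraMap k D.R l = 1 := by
    rw [← map_mul, inv_mul_cancel₀ hl0, map_one]
  obtain ⟨d, hd⟩ : ∃ d : Matrix.SpecialLinearGroup (Fin 2) D.R,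
      (d : Matrix (Fin 2) (Fin 2) D.R) = !![algebraMap k D.R l⁻¹, 0; 0, algebraMap k D.R l] :=
    ⟨⟨!![algebraMap k D.R l⁻¹, 0; 0, algebraMap k D.R l], by
      rw [Matrix.det_fin_two]; simpa using hdet⟩, rfl⟩
  have hval : ∀ c : k, ((rL (AdjoinRoot.root D.P * algebraMap k D.R c) : Matrix.SpecialLinearGroup (Fin 2) D.R) :
      Matrix (Fin 2) (Fin 2) D.R) = 1 + !![0, 0; AdjoinRoot.root D.P * algebraMap k D.R c, 0] := fun c => by
    rw [rL_val, Matrix.one_fin_two]; ext i j; fin_cases i <;> fin_cases j <;> simp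
  have hfam : QFam G (s * D.pi) := by
    have hsq : (s * D.pi) * (s * D.pi) = 0 := by
      rw [mul_assoc, ← mul_assoc D.pi, D.comm_pi_b.eq, mul_assoc s D.pi, ← mul_assoc s s, hs.1, zero_mul]
    refine ⟨hsq, fun c => ?_⟩
    set t := algebraMap k D.R (c * (l * l - 1)⁻¹) * AdjoinRoot.root D.P with ht
    obtain ⟨h₁, hh₁, e₁⟩ := D.exists_lift (show d ∈ D.Hbar by rw [htop]; trivial)
    obtain ⟨h₂, hh₂, e₂⟩ := D.exists_lift (show rL t ∈ D.Hbar by rw [htop]; trivial)
    have hm : d * rL t * d⁻¹ * (rL t)⁻¹ = rL (AdjoinRoot.root D.P * algebraMap k D.R c) := by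
      have ht' : (algebraMap k D.R l * algebraMap k D.R l - 1) * t =
          AdjoinRoot.root D.P * algebraMap k D.R c := by
        rw [ht, ← map_mul, ← map_one (algebraMap k D.R), ← map_sub, ← mul_assoc, ← map_mul,
          mul_left_comm, mul_inv_cancel₀ (sub_ne_zero.2 hl1), mul_one, mul_comm]
      apply Subtype.ext
      rw [rL_inv]
      simp only [Matrix.SpecialLinearGroup.coe_mul, Matrix.SpecialLinearGroup.coe_inv, hd, rL_val,
        Matrix.adjugate_fin_two]
      generalize algebraMap k D.R l = L, algebraMap k D.R l⁻¹ = L',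
        AdjoinRoot.root D.P * algebraMap k D.R c = Y at hdet ht' ⊢
      ext i j
      fin_cases i <;> fin_cases j <;> simp [Matrix.mul_apply, Fin.sum_univ_two] <;> grind
    have hπ := D.bar_mul (D.bar_mul (D.bar_mul e₁ e₂) (D.bar_inv e₁)) (D.bar_inv e₂)
    rw [hm, hval, D.Phi_add, D.Phi_one, D.Phi_e21, D.phi_algebraMap, mul_smul_comm] at hπ
    have e : qel (c • (s * D.pi)) = h₁ * h₂ * h₁⁻¹ * h₂⁻¹ := by
      refine qel_eq_of_val (smul_sq_zero hsq c) ?_
      have h5 := hcomm hh₁ hh₂
      rw [hw, mul_sub, mul_one, hπ, sub_eq_iff_eq_add] at h5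
      rw [h5]; abel
    rw [e]
    exact pH_le ha.1 hs (mul_mem (mul_mem (mul_mem hh₁ hh₂) (inv_mem hh₁)) (inv_mem hh₂))
  have he12 : D.Phi !![0, 1; 0, 0] = a * D.pi := by rw [D.Phi_e12, D.phi_one]
  have he21 : D.Phi !![0, 0; AdjoinRoot.root D.P, 0] = s * D.pi := by
    have := D.Phi_e21 1
    rwa [mul_one, D.phi_one] at this
  have hne : s * D.pi ≠ 0 := by
    intro h0
    rw [← he21] at h0
    have := congrFun (congrFun (D.Phi_injective h0) 1) 0
    simp at this
    exact D.isUnit_root.ne_zero this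
  have hle : erk (s * D.pi) ≤ erk a := by
    have e : s * D.pi = D.Phi !![0, 0; 1, 0] * (a * D.pi) * D.Phi !![0, 0; AdjoinRoot.root D.P, 0] := by
      rw [← he12, ← D.Phi_mul, ← D.Phi_mul, ← he21]
      congr 1
      ext i j; fin_cases i <;> fin_cases j <;> simp [Matrix.mul_apply, Fin.sum_univ_two]
    rw [e, erk, erk]
    refine (Submodule.finrank_mono (LinearMap.range_comp_le_range _ _)).trans ?_
    rw [range_mul_map]
    exact (Submodule.finrank_map_le _ _).trans (Submodule.finrank_mono (LinearMap.range_comp_le_range _ _))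
  have hsw : s * w = w * s := ((Commute.one_left _).sub_left D.comm_pi_b).eq.symm
  have hpw : D.pi * w = 0 := by rw [hw, mul_sub, mul_one, D.pi_sq, sub_self]
  have hwp : w * D.pi = 0 := by rw [hw, sub_mul, one_mul, D.pi_sq, sub_self]
  have hs1s0 : (s * D.pi) * (s * w) = 0 := by
    rw [hsw, mul_assoc, ← mul_assoc D.pi, hpw, zero_mul, mul_zero]
  have hs0s1 : (s * w) * (s * D.pi) = 0 := by
    rw [mul_assoc, ← mul_assoc w, ← hsw, mul_assoc s w, hwp, mul_zero, mul_zero]
  have hm1 : QMin G (s * D.pi) := ha.of_le hfam hne hle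
  have hsum : s = s * D.pi + s * w := by rw [hw, mul_sub, mul_one]; abel
  refine ⟨s * D.pi, s * w, hsum, hm1, ?_, hs1s0, hs0s1, ?_, ?_, ?_, ?_⟩
  · have e : s * w = s + (-1 : k) • (s * D.pi) := by rw [hw, mul_sub, mul_one, neg_one_smul]; abel
    rw [e]
    have d1 : s * (s * D.pi) = 0 := by rw [← mul_assoc, hs.1, zero_mul]
    have d2 : s * D.pi * s = 0 := by rw [mul_assoc, D.comm_pi_b.eq, ← mul_assoc, hs.1, zero_mul]
    exact qfam_add hs (hfam.smul _) (by rw [mul_smul_comm, d1, smul_zero])
      (by rw [smul_mul_assoc, d2, smul_zero])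
  · refine linked_of_not_nilpotent h2 h3 ha hm1 ?_
    have e : a * (s * D.pi) + s * D.pi * a = D.z * D.pi := by
      rw [PairData.z_eq, add_mul, ← mul_assoc, mul_assoc s D.pi a, D.comm_pi_a.eq, ← mul_assoc]
    rw [e]
    rintro ⟨n, hn⟩
    rw [← D.phi_root] at hn
    have hpn : ∀ n : ℕ, D.phi (AdjoinRoot.root D.P ^ (n + 1)) = D.phi (AdjoinRoot.root D.P) ^ (n + 1) := by
      intro n
      induction n with
      | zero => simp
      | succ n ih => rw [pow_succ, D.phi_mul, ih, ← pow_succ]
    have h5 : D.phi (AdjoinRoot.root D.P ^ (n + 1)) = 0 := by rw [hpn, pow_succ, hn, zero_mul]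
    exact (D.isUnit_root.pow (n + 1)).ne_zero (D.phi_injective h5)
  · have hr0 : LinearMap.range (s * w) ≤ LinearMap.range s := LinearMap.range_comp_le_range _ _
    refine Submodule.finrank_lt_finrank_of_lt (lt_of_le_of_ne hr0 fun heq => hne ?_)
    refine LinearMap.ext fun m => ?_
    obtain ⟨m', hm'⟩ : s (D.pi m) ∈ LinearMap.range (s * w) := by rw [heq]; exact ⟨_, rfl⟩
    have h6 : D.pi (s (D.pi m)) = s (D.pi m) :=
      LinearMap.congr_fun (show D.pi * (s * D.pi) = s * D.pi by
        rw [← mul_assoc, D.comm_pi_b.eq, mul_assoc, D.pi_sq]) m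
    show s (D.pi m) = 0
    rw [← h6, ← hm']
    exact LinearMap.congr_fun (show D.pi * (s * w) = 0 by
      rw [← mul_assoc, D.comm_pi_b.eq, mul_assoc, hpw, mul_zero]) m'
  · have haw : a * w = 0 := hA
    rw [hsw, ← mul_assoc, haw, zero_mul]
  · have hwa : w * a = 0 := by
      have : a * w = w * a := ((Commute.one_left a).sub_left D.comm_pi_a).eq.symm
      rw [← this]; exact hA
    rw [mul_assoc, hwa, mul_zero]

/-- A minimal element generating a unipotent group with a quadratic one annihilates it from both sides. -/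
theorem sandwich_zero (h2 : (2 : k) ≠ 0) (h3 : Nat.card k ≠ 3) (hs : QFam G s) (hx : QMin G x)
    (hall : IsNilpotent (x * s + s * x)) : x * s * x = 0 := by
  have hval : ∀ t : k, eConj (qel (t • s)) x = x + t • (s * x - x * s) - (t * t) • (s * x * s) := by
    intro t
    rw [eConj_qel_self (smul_sq_zero hs.1 t), smul_mul_assoc, mul_smul_comm, smul_mul_assoc,
      mul_smul_comm, smul_smul, smul_sub]
  have hxt : ∀ t : k, QMin G (eConj (qel (t • s)) x) := fun t => hx.conj (hs.2 t)
  have hxx : ∀ w : EndM, x * (x * w) = 0 := fun w => by rw [← mul_assoc, hx.sq, zero_mul]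
  have hss : ∀ w : EndM, s * (s * w) = 0 := fun w => by rw [← mul_assoc, hs.1, zero_mul]
  have hl : ∀ t : k, ¬ Linked x (eConj (qel (t • s)) x) := by
    intro t hl
    refine not_nilpotent_of_linked hx hl ?_
    obtain ⟨n, hn⟩ := hall
    refine ⟨n, ?_⟩
    have e : x * eConj (qel (t • s)) x + eConj (qel (t • s)) x * x =
        (-(t * t)) • ((x * s + s * x) ^ 2) := by
      rw [hval, pow_two]
      simp only [mul_add, add_mul, mul_sub, sub_mul, mul_assoc, mul_smul_comm, smul_mul_assoc,
        smul_sub, smul_add, hxx, hss, hx.sq, hs.1, mul_zero, zero_mul, smul_zero, neg_smul]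
      abel
    rw [e, _root_.smul_pow, ← pow_mul, mul_comm 2 n, pow_mul, hn]
    simp
  have h5 : x * s * (x * s * x) = 0 := by
    have h := (pair_triple h2 h3 hx (hxt 1) (hl 1)).1
    rw [hval] at h
    simp only [mul_add, add_mul, mul_sub, sub_mul, mul_assoc, mul_smul_comm, smul_mul_assoc, one_smul,
      mul_one, hxx, hx.sq, mul_zero] at h
    simpa [mul_assoc] using h
  have h5' : ∀ w : EndM, x * (s * (x * (s * (x * w)))) = 0 := fun w => by
    have := congrArg (· * w) h5
    simpa [mul_assoc] using this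
  have h5e : x * (s * (x * (s * x))) = 0 := by simpa [mul_assoc] using h5
  have h5f : x * s * (x * s) * x = 0 := by simpa [mul_assoc] using h5
  set u := x * s * x with hu
  set v := x * s * x * s - s * x * s * x with hv
  have heps : ∀ t : k, eps (eConj (qel (t • s)) x) x = (-2 * t) • u + (t * t) • v := by
    intro t
    rw [eps, hval, hu, hv]
    simp only [mul_add, add_mul, mul_sub, sub_mul, mul_assoc, mul_smul_comm, smul_mul_assoc,
      smul_sub, hxx, hx.sq, mul_zero, smul_zero]
    module
  have hef : ∀ t : k, QFam G (eps (eConj (qel (t • s)) x) x) := fun t => by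
    obtain ⟨t1, t2⟩ := pair_triple h2 h3 hx (hxt t) (hl t)
    exact eps_qfam (hxt t).1 hx.1 t2 t1
  have q1 : u * u = 0 := by rw [hu]; simp only [mul_assoc, hxx, mul_zero]
  have q2 : u * v = 0 := by
    rw [hu, hv]; simp only [mul_sub, mul_assoc, hxx, h5', mul_zero, sub_zero]
  have q3 : v * u = 0 := by
    rw [hu, hv]; simp only [sub_mul, mul_assoc, hxx, h5', h5e, mul_zero, sub_zero]
  have q4 : v * v = 0 := by
    rw [hv]; simp only [mul_sub, sub_mul, mul_assoc, hxx, hss, h5', h5e, mul_zero, sub_zero]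
  have hprod : ∀ p q r t : k, (p • u + q • v) * (r • u + t • v) = 0 := by
    intro p q r t
    simp only [mul_add, add_mul, smul_mul_smul_comm, q1, q2, q3, q4, smul_zero, add_zero]
  have hu4 : QFam G ((-4 : k) • u) := by
    have e : (-4 : k) • u = eps (eConj (qel ((1 : k) • s)) x) x +
        (-1 : k) • eps (eConj (qel ((-1 : k) • s)) x) x := by
      rw [heps, heps]
      module
    rw [e]
    refine qfam_add (hef 1) ((hef (-1)).smul _) ?_ ?_ <;> rw [heps, heps, smul_add, smul_smul, smul_smul] <;>
      exact hprod _ _ _ _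
  have h4 : (-4 : k) ≠ 0 := by
    rw [show (-4 : k) = -(2 * 2) by norm_num]; exact neg_ne_zero.2 (mul_ne_zero h2 h2)
  have hu1 : QFam G u := by
    have := hu4.smul (-4 : k)⁻¹
    rwa [smul_smul, inv_mul_cancel₀ h4, one_smul] at this
  by_contra hu0
  have hr : LinearMap.range u = LinearMap.range x := by
    refine hx.range_eq hu1 hu0 ?_
    rw [hu, mul_assoc]; exact LinearMap.range_comp_le_range _ _
  have hmap : (LinearMap.range x).map (x * s) = LinearMap.range x := by
    rw [← range_mul_map, ← hu, hr]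
  refine hx.2.1 (LinearMap.range_eq_bot.1 ?_)
  rw [← hmap, ← hmap, ← Submodule.map_comp, ← Module.End.mul_eq_comp, ← range_mul_map,
    h5f, LinearMap.range_zero]

theorem commute_of_unlinked' (h2 : (2 : k) ≠ 0) (h3 : Nat.card k ≠ 3) (hG : NoPCore p G)
    (hs : QFam G s) (hall : ∀ x, QMin G x → IsNilpotent (x * s + s * x)) (ha : QMin G a) :
    a * s = s * a := by
  -- `x s x = 0`
  have hxsx : ∀ {x}, QMin G x → x * s * x = 0 := fun hx => sandwich_zero h2 h3 hs hx (hall _ hx)
  -- `x [s, y] x = 0`
  have hident : ∀ {x y}, QMin G x → QMin G y → x * (s * y - y * s) * x = 0 := by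
    intro x y hx hy
    obtain ⟨l, hl0, hl1⟩ := exists_sq_ne_one h2 h3
    set A₁ := x * (s * y - y * s) * x with hA1
    set A₂ := -(x * s * (y * x * y)) - (y * x * y) * s * x + (y * x - x * y) * s * (y * x - x * y)
    set A₃ := -((y * x - x * y) * s * (y * x * y)) - (y * x * y) * s * (y * x - x * y)
    set A₄ := (y * x * y) * s * (y * x * y)
    have hz0 := hxsx hx
    have hz' : ∀ w : EndM, x * (s * (x * w)) = 0 := fun w => by
      have := congrArg (· * w) hz0
      simpa [mul_assoc] using this
    have hP : ∀ r : k, r • A₁ + (r * r) • A₂ + (r * r * r) • A₃ + (r * r * r * r) • A₄ = 0 := by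
      intro r
      have h := hxsx (hx.conj (hy.1.2 r))
      rw [eConj_qel_self (smul_sq_zero hy.sq r), smul_mul_assoc, mul_smul_comm, smul_mul_assoc,
        mul_smul_comm, smul_smul, ← smul_sub] at h
      rw [← h]
      have hzz : x * (s * x) = 0 := by rw [← mul_assoc]; exact hz0
      simp only [A₁, A₂, A₃, A₄, mul_add, add_mul, mul_sub, sub_mul, mul_assoc, mul_smul_comm,
        smul_mul_assoc, smul_smul, smul_sub, smul_add, smul_neg, hz', hzz, mul_zero, smul_zero]
      module
    have p1 := hP 1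
    have p2 := hP (-1)
    have p3 := hP l
    have p4 := hP (-l)
    have d1 : (2 : k) • (A₁ + A₃) = 0 := by
      have := congrArg₂ (· - ·) p1 p2
      simp only [sub_zero] at this
      rw [← this]; module
    have d2 : (2 * l : k) • (A₁ + (l * l) • A₃) = 0 := by
      have := congrArg₂ (· - ·) p3 p4
      simp only [sub_zero] at this
      rw [← this]; module
    rw [smul_eq_zero] at d1 d2
    have d1' := d1.resolve_left h2
    have d2' := d2.resolve_left (mul_ne_zero h2 hl0)
    have d3 : (l * l - 1) • A₁ = 0 := by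
      have e : (l * l - 1) • A₁ = (l * l) • (A₁ + A₃) - (A₁ + (l * l) • A₃) := by module
      rw [e, d1', d2', smul_zero, sub_zero]
    exact (smul_eq_zero.1 d3).resolve_left (sub_ne_zero.2 hl1)
  -- the conjugates of `a` under the family
  have hval : ∀ t : k, eConj (qel (t • s)) a = a + t • (s * a - a * s) - (t * t) • (s * a * s) := by
    intro t
    rw [eConj_qel_self (smul_sq_zero hs.1 t), smul_mul_assoc, mul_smul_comm, smul_mul_assoc,
      mul_smul_comm, smul_smul, smul_sub]
  have hat : ∀ t : k, QMin G (eConj (qel (t • s)) a) := fun t => ha.conj (hs.2 t)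
  have hz0 : ∀ w : EndM, a * (s * (a * w)) = 0 := fun w => by
    have := congrArg (· * w) (hxsx ha)
    simpa [mul_assoc] using this
  have hz1 : a * (s * a) = 0 := by rw [← mul_assoc]; exact hxsx ha
  have haa : ∀ w : EndM, a * (a * w) = 0 := fun w => by rw [← mul_assoc, ha.sq, zero_mul]
  have hss : ∀ w : EndM, s * (s * w) = 0 := fun w => by rw [← mul_assoc, hs.1, zero_mul]
  have hzero : ∀ t r : k, eConj (qel (t • s)) a * eConj (qel (r • s)) a = 0 := by
    intro t r
    rw [hval, hval]
    simp only [mul_add, add_mul, mul_sub, sub_mul, mul_assoc, mul_smul_comm, smul_mul_assoc,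
      smul_smul, smul_sub, smul_add, hz0, hz1, haa, hss, ha.sq, hs.1, mul_zero, zero_mul, smul_zero,
      sub_zero, add_zero, zero_add, sub_self]
  have hy : QFam G (s * a * s) := by
    have e : s * a * s = (2⁻¹ : k) • ((a + a) + ((-1 : k) • eConj (qel ((1 : k) • s)) a +
        (-1 : k) • eConj (qel ((-1 : k) • s)) a)) := by
      rw [hval, hval]
      have h21 : (2⁻¹ : k) • ((2 : k) • (s * a * s)) = s * a * s := by
        rw [smul_smul, inv_mul_cancel₀ h2, one_smul]
      conv_lhs => rw [← h21]
      congr 1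
      module
    rw [e]
    have e0 : eConj (qel ((0 : k) • s)) a = a := by rw [hval]; simp
    have n1 := hzero 0 1
    have n2 := hzero 1 0
    have n3 := hzero 0 (-1)
    have n4 := hzero (-1) 0
    have n5 := hzero 1 (-1)
    have n6 := hzero (-1) 1
    rw [e0] at n1 n2 n3 n4
    refine (qfam_add (qfam_add ha.1 ha.1 ha.sq ha.sq)
      (qfam_add ((hat 1).1.smul _) ((hat (-1)).1.smul _)
        (by rw [smul_mul_smul_comm, n5, smul_zero]) (by rw [smul_mul_smul_comm, n6, smul_zero])) ?_ ?_).smul _
    · simp only [mul_add, add_mul, mul_smul_comm, n1, n3, smul_zero, add_zero]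
    · simp only [mul_add, add_mul, smul_mul_assoc, n2, n4, smul_zero, add_zero]
  have hD : QFam G (s * a - a * s) := by
    have e : s * a - a * s = (2⁻¹ : k) • (eConj (qel ((1 : k) • s)) a + (-1 : k) • eConj (qel ((-1 : k) • s)) a) := by
      rw [hval, hval]
      have h21 : (2⁻¹ : k) • ((2 : k) • (s * a - a * s)) = s * a - a * s := by
        rw [smul_smul, inv_mul_cancel₀ h2, one_smul]
      conv_lhs => rw [← h21]
      congr 1
      module
    rw [e]
    exact (qfam_add (hat 1).1 ((hat (-1)).1.smul _)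
      (by rw [mul_smul_comm, hzero, smul_zero]) (by rw [smul_mul_assoc, hzero, smul_zero])).smul _
  have hsas : s * a * s = 0 := by
    by_contra h0
    have hle : erk (s * a * s) ≤ erk a := by
      rw [erk, erk]
      refine (Submodule.finrank_mono (LinearMap.range_comp_le_range _ _)).trans ?_
      rw [range_mul_map]; exact Submodule.finrank_map_le _ _
    have hm := ha.of_le hy h0 hle
    obtain ⟨g, hg, hl⟩ := exists_linked' h2 h3 hG hm
    set x := eConj g (s * a * s)
    have hx := hm.conj hg
    refine linked_sandwich_ne_zero hx hl ?_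
    have k1 := hident hx ha
    have k2 := hident hx (hat 1)
    have e : s * eConj (qel ((1 : k) • s)) a - eConj (qel ((1 : k) • s)) a * s =
        (s * a - a * s) - (2 : k) • (s * a * s) := by
      rw [hval]
      simp only [one_smul, mul_one, mul_add, add_mul, mul_sub, sub_mul, mul_assoc, hss, hs.1, mul_zero]
      module
    rw [e, mul_sub, sub_mul, k1, zero_sub, neg_eq_zero, mul_smul_comm, smul_mul_assoc, smul_eq_zero] at k2
    exact k2.resolve_left h2
  have hle : erk (s * a - a * s) ≤ erk a := by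
    have hsub : LinearMap.range (s * a - a * s) ≤
        LinearMap.range (s * a) ⊔ (LinearMap.range a ⊓ LinearMap.ker s) := by
      rintro _ ⟨m, rfl⟩
      exact sub_mem (Submodule.mem_sup_left ⟨m, rfl⟩)
        (Submodule.mem_sup_right ⟨⟨s m, rfl⟩, LinearMap.congr_fun hsas m⟩)
    refine (Submodule.finrank_mono hsub).trans ((Submodule.finrank_add_le_finrank_add_finrank _ _).trans ?_)
    set f := s.domRestrict (LinearMap.range a)
    have h1 := LinearMap.finrank_range_add_finrank_ker f
    have hr : LinearMap.range f = LinearMap.range (s * a) := by rw [LinearMap.range_domRestrict, range_mul_map]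
    have hk : LinearMap.ker f = (LinearMap.range a ⊓ LinearMap.ker s).comap (LinearMap.range a).subtype := by
      ext v; simp [f]
    rw [hr, hk, (Submodule.comapSubtypeEquivOfLe inf_le_left).finrank_eq] at h1
    exact h1.le
  by_contra hne
  have hne' : s * a - a * s ≠ 0 := fun h => hne (sub_eq_zero.1 h).symm
  have hm := ha.of_le hD hne' hle
  obtain ⟨g, hg, hl⟩ := exists_linked' h2 h3 hG hm
  exact linked_sandwich_ne_zero (hm.conj hg) hl (hident (hm.conj hg) ha)

end CfsgLib.Flavell
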