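import Mathlib
import Cfsg.Agent.Lib.Flavell.Split
import Cfsg.Agent.Lib.Flavell.Pieces

/-!
Partners of a quadratic family: the elements forming an `SL₂`-triple with it. The flag group of the
family permutes them transitively, so that coprime groups fix one of them.
-/

set_option autoImplicit false
set_option linter.unusedSectionVars false
set_option linter.unusedSimpArgs false
set_option linter.style.haveILetI false

namespace CfsgLib.Flavell

open Cfsg CfsgLib.ThreeTransp

variable {k : Type*} [Field k] {M : Type*} [AddCommGroup M] [Module k M] [FiniteDimensional k M]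
variable {G : Subgroup (LinearMap.GeneralLinearGroup k M)}

local notation "GLM" => LinearMap.GeneralLinearGroup k M
local notation "EndM" => Module.End k M

variable {s y y' : Module.End k M} {l m : k}

/-- `y` completes the quadratic family `s` to an `SL₂`-triple inside `G`. -/
structure IsPartner (G : Subgroup (LinearMap.GeneralLinearGroup k M)) (s y : Module.End k M) : Prop where
  ss : s * s = 0
  fam : QFam G y
  sys : s * y * s = s
  ysy : y * s * y = y

namespace IsPartner

theorem yy (h : IsPartner G s y) : y * y = 0 := h.fam.1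

theorem rules (h : IsPartner G s y) :
    (∀ w : EndM, s * (s * w) = 0) ∧ (∀ w : EndM, y * (y * w) = 0) ∧
    (∀ w : EndM, s * (y * (s * w)) = s * w) ∧ (∀ w : EndM, y * (s * (y * w)) = y * w) ∧
    s * (y * s) = s ∧ y * (s * y) = y := by
  refine ⟨fun w => ?_, fun w => ?_, fun w => ?_, fun w => ?_, ?_, ?_⟩
  · rw [← mul_assoc, h.ss, zero_mul]
  · rw [← mul_assoc, h.yy, zero_mul]
  · rw [← mul_assoc y, ← mul_assoc s, ← mul_assoc s y, h.sys]
  · rw [← mul_assoc s, ← mul_assoc y, ← mul_assoc y s, h.ysy]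
  · rw [← mul_assoc, h.sys]
  · rw [← mul_assoc, h.ysy]

theorem ne_zero (h : IsPartner G s y) (hs0 : s ≠ 0) : y ≠ 0 := fun e => hs0 (by
  rw [← h.sys, e, mul_zero, zero_mul])

theorem symm (h : IsPartner G s y) (hs : QFam G s) : IsPartner G y s :=
  ⟨h.yy, hs, h.ysy, h.sys⟩

end IsPartner

/-- The torus element of a pair. -/
def hEl (s y : Module.End k M) (l : k) : Module.End k M :=
  1 + (l - 1) • (s * y) + (l⁻¹ - 1) • (y * s)

theorem hEl_one (s y : EndM) : hEl s y (1 : k) = 1 := by simp [hEl]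

theorem hEl_mul (h : IsPartner G s y) (l m : k) : hEl s y l * hEl s y m = hEl s y (l * m) := by
  obtain ⟨r1, r2, r3, r4, r5, r6⟩ := h.rules
  simp only [hEl, add_mul, mul_add, smul_mul_assoc, mul_smul_comm, mul_assoc, one_mul, mul_one,
    smul_smul, smul_add, r1, r2, r3, r4, r5, r6, mul_zero, smul_zero, add_zero, zero_add, mul_inv]
  module

theorem hEl_mul_self (h : IsPartner G s y) (l : k) : hEl s y l * s = l • s := by
  obtain ⟨r1, r2, r3, r4, r5, r6⟩ := h.rules
  simp only [hEl, add_mul, smul_mul_assoc, mul_assoc, one_mul, h.ss, r5, mul_zero, smul_zero, add_zero]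
  module

theorem self_mul_hEl (h : IsPartner G s y) (l : k) : s * hEl s y l = l⁻¹ • s := by
  obtain ⟨r1, r2, r3, r4, r5, r6⟩ := h.rules
  simp only [hEl, mul_add, mul_smul_comm, mul_one, r1, r5, smul_zero, add_zero]
  module

theorem hEl_mul_partner (h : IsPartner G s y) (l : k) : hEl s y l * y = l⁻¹ • y := by
  obtain ⟨r1, r2, r3, r4, r5, r6⟩ := h.rules
  simp only [hEl, add_mul, smul_mul_assoc, mul_assoc, one_mul, h.yy, r6, mul_zero, smul_zero, add_zero]
  module

theorem partner_mul_hEl (h : IsPartner G s y) (l : k) : y * hEl s y l = l • y := by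
  obtain ⟨r1, r2, r3, r4, r5, r6⟩ := h.rules
  simp only [hEl, mul_add, mul_smul_comm, mul_one, r2, r6, smul_zero, add_zero]
  module

/-- The torus element is a product of six quadratic elements. -/
theorem exists_hEl (hs : QFam G s) (h : IsPartner G s y) (hl : l ≠ 0) :
    ∃ g ∈ G, (g : EndM) = hEl s y l := by
  obtain ⟨r1, r2, r3, r4, r5, r6⟩ := h.rules
  refine ⟨qel (l • s) * qel ((-l⁻¹) • y) * qel (l • s) *
    (qel ((-1 : k) • s) * qel ((1 : k) • y) * qel ((-1 : k) • s)),
    mul_mem (mul_mem (mul_mem (hs.2 _) (h.fam.2 _)) (hs.2 _))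
      (mul_mem (mul_mem (hs.2 _) (h.fam.2 _)) (hs.2 _)), ?_⟩
  have w : ∀ c : k, c ≠ 0 → ((qel (c • s) * qel ((-c⁻¹) • y) * qel (c • s) : GLM) : EndM) =
      1 + c • s + (-c⁻¹) • y - s * y - y * s := by
    intro c hc
    rw [Units.val_mul, Units.val_mul, qel_val (smul_sq_zero hs.1 c), qel_val (smul_sq_zero h.yy _)]
    simp only [add_mul, mul_add, smul_mul_assoc, mul_smul_comm, mul_assoc, one_mul, mul_one, smul_add,
      smul_smul, h.ss, r5, smul_zero, add_zero]
    match_scalars <;> field_simp <;> ring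
  have w1 := w (-1) (by norm_num)
  have e1 : -((-1 : k))⁻¹ = 1 := by norm_num
  rw [e1] at w1
  rw [Units.val_mul, w l hl, w1]
  simp only [hEl, add_mul, mul_add, sub_mul, mul_sub, smul_mul_assoc, mul_smul_comm, mul_assoc, one_mul,
    mul_one, smul_smul, smul_add, smul_sub, r1, r2, r3, r4, r5, r6, h.ss, h.yy, mul_zero, smul_zero, add_zero, zero_add, sub_zero]
  module

theorem sep_zero' (hl0 : l ≠ 0) (hl1 : l ≠ 1) (hl2 : l * l ≠ 1) {u w : EndM}
    (e1 : (l - 1) • u + (l⁻¹ - 1) • w = 0) (e2 : (l⁻¹ - 1) • u + (l - 1) • w = 0) : u = 0 ∧ w = 0 := by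
  have hli : l - l⁻¹ ≠ 0 := fun e => hl2 (by
    rw [sub_eq_zero] at e; nth_rewrite 2 [e]; exact mul_inv_cancel₀ hl0)
  have d : (l - l⁻¹) • (u - w) = 0 := by
    rw [show (l - l⁻¹) • (u - w) = ((l - 1) • u + (l⁻¹ - 1) • w) - ((l⁻¹ - 1) • u + (l - 1) • w) by module,
      e1, e2, sub_zero]
  have huw : u = w := sub_eq_zero.1 ((smul_eq_zero.1 d).resolve_left hli)
  subst huw
  have h : ((l - 1) + (l⁻¹ - 1)) • u = 0 := by rw [add_smul]; exact e1
  have hc : (l - 1) + (l⁻¹ - 1) ≠ 0 := fun e => hl1 (by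
    have h' : (l - 1) * (l - 1) = 0 := by
      have := congrArg (· * l) e
      simp only [add_mul, sub_mul, inv_mul_cancel₀ hl0, zero_mul, one_mul] at this
      linear_combination this
    exact sub_eq_zero.1 (mul_self_eq_zero.1 h'))
  exact ⟨(smul_eq_zero.1 h).resolve_left hc, (smul_eq_zero.1 h).resolve_left hc⟩

/-- A partner is determined by its torus element. -/
theorem IsPartner.eq_of_hEl (h : IsPartner G s y) (h' : IsPartner G s y') (hl0 : l ≠ 0) (hl1 : l ≠ 1)
    (hl2 : l * l ≠ 1) (e : hEl s y l = hEl s y' l) : y = y' := by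
  obtain ⟨r1, r2, r3, r4, r5, r6⟩ := h.rules
  obtain ⟨q1, q2, q3, q4, q5, q6⟩ := h'.rules
  have e0 : (l - 1) • (s * y) + (l⁻¹ - 1) • (y * s) = (l - 1) • (s * y') + (l⁻¹ - 1) • (y' * s) := by
    simpa [hEl, add_assoc] using e
  have eL := congrArg (fun t => s * y' * t) e0
  have eL' := congrArg (fun t => s * y * t) e0
  simp only [mul_add, mul_smul_comm, mul_assoc, r3, q3, r6, q6, h.sys] at eL eL'
  have eu1 : (l - 1) • (s * y - s * y') + (l⁻¹ - 1) • (s * (y' * (y * s))) = 0 := by
    have := sub_eq_zero.2 eL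
    simp only [q2, mul_zero, smul_zero, add_zero] at this
    rw [← this]; module
  have eR := congrArg (fun t => t * (y' * s)) e0
  have eR' := congrArg (fun t => t * (y * s)) e0
  simp only [add_mul, smul_mul_assoc, mul_assoc, r3, q3, r5, q5, r2, q2, mul_zero, smul_zero, zero_add] at eR eR'
  have ew1 : (l - 1) • (s * (y * (y' * s))) + (l⁻¹ - 1) • (y * s - y' * s) = 0 := by
    have := sub_eq_zero.2 eR
    rw [← this]; module
  have hb : s * (y' * (y * s)) = 0 := by
    have := congrArg (fun t => s * y' * t) eR'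
    simp only [mul_add, mul_smul_comm, mul_assoc, q3, r3, r2, q2, mul_zero, smul_zero, add_zero] at this
    have h0 : (l⁻¹ - l) • (s * (y' * (y * s))) = 0 := by
      rw [← sub_eq_zero.2 this]; module
    refine (smul_eq_zero.1 h0).resolve_left fun e => hl2 ?_
    rw [sub_eq_zero] at e
    nth_rewrite 1 [← e]
    exact inv_mul_cancel₀ hl0
  have ha : s * (y * (y' * s)) = 0 := by
    have := congrArg (fun t => t * (y' * s)) eu1
    simp only [hb, smul_zero, add_zero, sub_mul, smul_mul_assoc, mul_assoc, zero_mul, q2, mul_zero,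
      sub_zero] at this
    exact (smul_eq_zero.1 this).resolve_left (sub_ne_zero.2 hl1)
  rw [hb, smul_zero, add_zero, smul_eq_zero, sub_eq_zero (a := l), sub_eq_zero] at eu1
  rw [ha, smul_zero, zero_add, smul_eq_zero, sub_eq_zero (a := l⁻¹), inv_eq_one, sub_eq_zero] at ew1
  have hu := eu1.resolve_left hl1
  have hw := ew1.resolve_left hl1
  calc y = y * (s * y) := r6.symm
    _ = (y * s) * y' := by rw [hu, mul_assoc]
    _ = (y' * s) * y' := by rw [hw]
    _ = y' := h'.ysy

variable {p : ℕ} [Fact p.Prime] [CharP k p]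

theorem mem_flagGrp {ha : s * s = 0} {v : GLM} :
    v ∈ flagGrp s ha ↔
      s * udif v = 0 ∧ (∀ m, s m = 0 → udif v m ∈ LinearMap.range s) ∧ udif v * s = 0 := by
  constructor
  · rintro ⟨h1, h2, h3⟩
    exact ⟨mul_eq_zero_of_range_le h1, fun m hm => h2 ⟨m, hm, rfl⟩, mul_eq_zero_of_range_le h3⟩
  · rintro ⟨h1, h2, h3⟩
    refine ⟨?_, ?_, ?_⟩
    · rintro _ ⟨m, rfl⟩; exact LinearMap.congr_fun h1 m
    · rintro _ ⟨m, hm, rfl⟩; exact h2 m hm
    · rintro _ ⟨m, rfl⟩; exact LinearMap.congr_fun h3 m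

theorem flag_fix {ha : s * s = 0} {v : GLM} (hv : v ∈ flagGrp s ha) :
    (v : EndM) * s = s ∧ s * (v : EndM) = s ∧ eConj v s = s := by
  obtain ⟨h1, -, h3⟩ := mem_flagGrp.1 hv
  have e1 : (v : EndM) * s = s := by
    rw [udif, sub_mul, one_mul, sub_eq_zero] at h3; exact h3
  have e2 : s * (v : EndM) = s := by
    rw [udif, mul_sub, mul_one, sub_eq_zero] at h1; exact h1
  refine ⟨e1, e2, ?_⟩
  rw [eConj, e1]
  nth_rewrite 1 [← e2]
  rw [mul_assoc, Units.mul_inv, mul_one]

theorem IsPartner.conj {g : GLM} (h : IsPartner G s y) (hg : g ∈ Subgroup.normalizer (G : Set GLM)) :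
    IsPartner G (eConj g s) (eConj g y) := by
  refine ⟨eConj_sq h.ss, ⟨eConj_sq h.yy, fun c => ?_⟩, ?_, ?_⟩
  · rw [← eConj_smul, ← qel_conj (smul_sq_zero h.yy c)]
    exact (Subgroup.mem_normalizer_iff.1 hg _).1 (h.fam.2 c)
  · rw [eConj_mul, eConj_mul, h.sys]
  · rw [eConj_mul, eConj_mul, h.ysy]

theorem IsPartner.conjFlag {v : GLM} (h : IsPartner G s y) (hv : v ∈ flagGrp s h.ss ⊓ G) :
    IsPartner G s (eConj v y) := by
  have := h.conj (g := v) (Subgroup.le_normalizer hv.2)
  rwa [(flag_fix hv.1).2.2] at this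

theorem eConj_hEl {v : GLM} (hv : eConj v s = s) :
    eConj v (hEl s y l) = hEl s (eConj v y) l := by
  rw [hEl, hEl, eConj_add, eConj_add, eConj_smul, eConj_smul, ← eConj_mul, ← eConj_mul, hv]
  congr 2
  rw [eConj, mul_one, Units.mul_inv]

/-- A flag element fixing a partner is trivial. -/
theorem flag_eq_one (h : IsPartner G s y) {v : GLM} (hv : v ∈ flagGrp s h.ss) (he : eConj v y = y) :
    v = 1 := by
  obtain ⟨h1, h2, h3⟩ := mem_flagGrp.1 hv
  obtain ⟨e1, e2, -⟩ := flag_fix hv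
  have hvy : (v : EndM) * y = y * (v : EndM) := by
    have := congrArg (· * (v : EndM)) he
    simpa [eConj, mul_assoc] using this
  have hny : udif v * y = y * udif v := by rw [udif, sub_mul, mul_sub, hvy, one_mul, mul_one]
  refine Units.ext (sub_eq_zero.1 (LinearMap.ext fun m => ?_))
  show udif v m = 0
  have hm : m = (m - s (y m) - y (s m)) + s (y m) + y (s m) := by abel
  have hsys : ∀ m, s (y (s m)) = s m := fun m => LinearMap.congr_fun h.sys m
  have hns : ∀ m, udif v (s m) = 0 := fun m => LinearMap.congr_fun h3 m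
  have hsn : ∀ m, s (udif v m) = 0 := fun m => LinearMap.congr_fun h1 m
  have hyn : ∀ m, udif v (y m) = y (udif v m) := fun m => LinearMap.congr_fun hny m
  set c := m - s (y m) - y (s m) with hc
  have hsc : s c = 0 := by
    rw [hc, map_sub, map_sub, hsys, show s (s (y m)) = 0 from LinearMap.congr_fun h.ss (y m)]
    abel
  obtain ⟨q, hq⟩ := h2 c hsc
  have hc0 : udif v c = 0 := by
    have e : udif v c = s (y (udif v c)) := by rw [← hq, hsys]
    have : s (y (udif v c)) = 0 := by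
      rw [← hyn]
      exact hsn _
    rw [e, this]
  rw [hm, map_add, map_add, hc0, hns, hyn, hns, map_zero]
  simp

/-- The flag group is transitive on the partners. -/
theorem exists_conj_partner [Finite GLM] (hs : QFam G s) (h : IsPartner G s y) (h' : IsPartner G s y')
    (hl0 : l ≠ 0) (hl1 : l ≠ 1) (hl2 : l * l ≠ 1) :
    ∃ v ∈ flagGrp s h.ss ⊓ G, eConj v y = y' := by
  obtain ⟨g, hgG, hg⟩ := exists_hEl hs h hl0
  obtain ⟨g', hgG', hg'⟩ := exists_hEl hs h' hl0
  obtain ⟨gi, -, hgi⟩ := exists_hEl hs h (inv_ne_zero hl0)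
  have hgval : ((g⁻¹ : GLM) : EndM) = hEl s y l⁻¹ := by
    refine Units.inv_eq_of_mul_eq_one_right ?_
    rw [hg, hEl_mul h, mul_inv_cancel₀ hl0, hEl_one]
  set U := flagGrp s h.ss ⊓ G with hU
  have hkerH : ∀ (z : EndM) (hz : IsPartner G s z) (c : k) (m : M), s m = 0 →
      hEl s z c m - m ∈ LinearMap.range s := by
    intro z hz c m hm
    simp only [hEl, LinearMap.add_apply, LinearMap.smul_apply, Module.End.one_apply, Module.End.mul_apply,
      hm, map_zero, smul_zero, add_zero, add_sub_cancel_left]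
    exact Submodule.smul_mem _ _ ⟨_, rfl⟩
  have hkerS : ∀ (z : EndM) (hz : IsPartner G s z) (c : k) (m : M), s m = 0 → s (hEl s z c m) = 0 := by
    intro z hz c m hm
    have := LinearMap.congr_fun (self_mul_hEl hz c) m
    rw [Module.End.mul_apply, LinearMap.smul_apply, hm, smul_zero] at this
    exact this
  have hq : g' * g⁻¹ ∈ U := by
    refine ⟨mem_flagGrp.2 ⟨?_, fun m hm => ?_, ?_⟩, G.mul_mem hgG' (G.inv_mem hgG)⟩
    · rw [udif, Units.val_mul, hg', hgval, mul_sub, ← mul_assoc, self_mul_hEl h', smul_mul_assoc,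
        self_mul_hEl h, inv_inv, smul_smul, inv_mul_cancel₀ hl0, one_smul, mul_one, sub_self]
    · rw [udif, Units.val_mul, hg', hgval, LinearMap.sub_apply, Module.End.mul_apply, Module.End.one_apply]
      have e : hEl s y' l (hEl s y l⁻¹ m) - m =
          (hEl s y' l (hEl s y l⁻¹ m) - hEl s y l⁻¹ m) + (hEl s y l⁻¹ m - m) := by abel
      rw [e]
      exact add_mem (hkerH y' h' l _ (hkerS y h _ m hm)) (hkerH y h _ m hm)
    · rw [udif, Units.val_mul, hg', hgval, sub_mul, mul_assoc, hEl_mul_self h, mul_smul_comm,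
        hEl_mul_self h', smul_smul, inv_mul_cancel₀ hl0, one_smul, one_mul, sub_self]
  have hnorm : ∀ v ∈ U, g * v * g⁻¹ ∈ U := by
    rintro v ⟨hv, hvG⟩
    obtain ⟨e1, e2, -⟩ := flag_fix hv
    obtain ⟨-, v2, -⟩ := mem_flagGrp.1 hv
    refine ⟨mem_flagGrp.2 ⟨?_, fun m hm => ?_, ?_⟩, G.mul_mem (G.mul_mem hgG hvG) (G.inv_mem hgG)⟩
    · rw [udif, Units.val_mul, Units.val_mul, hg, hgval, mul_sub, mul_one, ← mul_assoc, ← mul_assoc,
        self_mul_hEl h, smul_mul_assoc, smul_mul_assoc, e2, self_mul_hEl h, inv_inv, smul_smul,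
        inv_mul_cancel₀ hl0, one_smul, sub_self]
    · rw [udif, Units.val_mul, Units.val_mul, hg, hgval, LinearMap.sub_apply, Module.End.mul_apply,
        Module.End.mul_apply, Module.End.one_apply]
      set w := hEl s y l⁻¹ m
      have hw : s w = 0 := hkerS y h _ m hm
      obtain ⟨q, hq⟩ := v2 w hw
      have hvw : (v : EndM) w = w + s q := by
        rw [hq, udif, LinearMap.sub_apply, Module.End.one_apply]; abel
      have hsw : s ((v : EndM) w) = 0 := by
        rw [hvw, map_add, hw, show s (s q) = 0 from LinearMap.congr_fun h.ss q, add_zero]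
      have e : hEl s y l ((v : EndM) w) - m =
          (hEl s y l ((v : EndM) w) - (v : EndM) w) + ((v : EndM) w - w) + (w - m) := by abel
      rw [e]
      refine add_mem (add_mem (hkerH y h l _ hsw) ?_) (hkerH y h _ m hm)
      rw [hvw, add_sub_cancel_left]
      exact ⟨q, rfl⟩
    · rw [udif, Units.val_mul, Units.val_mul, hg, hgval, sub_mul, one_mul, mul_assoc,
        hEl_mul_self h, mul_smul_comm, mul_assoc, e1, hEl_mul_self h, smul_smul,
        inv_mul_cancel₀ hl0, one_smul, sub_self]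
  let f : U → U := fun v => ⟨v.1 * (g * v.1⁻¹ * g⁻¹), mul_mem v.2 (hnorm _ (inv_mem v.2))⟩
  have hfinj : Function.Injective f := by
    intro v w e
    have e' : v.1 * (g * v.1⁻¹ * g⁻¹) = w.1 * (g * w.1⁻¹ * g⁻¹) := congrArg Subtype.val e
    refine Subtype.ext (inv_mul_eq_one.1 ?_)
    have hmem : v.1⁻¹ * w.1 ∈ U := mul_mem (inv_mem v.2) w.2
    refine flag_eq_one h hmem.1 ?_
    have hc : v.1⁻¹ * w.1 * g * (v.1⁻¹ * w.1)⁻¹ = g := by
      calc v.1⁻¹ * w.1 * g * (v.1⁻¹ * w.1)⁻¹
          = v.1⁻¹ * (w.1 * (g * w.1⁻¹ * g⁻¹)) * g * v.1 := by group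
        _ = v.1⁻¹ * (v.1 * (g * v.1⁻¹ * g⁻¹)) * g * v.1 := by rw [e']
        _ = g := by group
    refine (h.conjFlag hmem).eq_of_hEl h hl0 hl1 hl2 ?_
    rw [← eConj_hEl (flag_fix hmem.1).2.2, ← hg]
    exact congrArg (fun x : GLM => (x : EndM)) hc
  obtain ⟨v, hv⟩ := Finite.surjective_of_injective hfinj ⟨g' * g⁻¹, hq⟩
  have hv' : v.1 * g * v.1⁻¹ = g' := by
    have := congrArg (fun x : U => (x : GLM) * g) hv
    simpa [f, mul_assoc] using this
  refine ⟨v.1, v.2, (h.conjFlag v.2).eq_of_hEl h' hl0 hl1 hl2 ?_⟩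
  rw [← eConj_hEl (flag_fix v.2.1).2.2, ← hg, ← hg']
  exact congrArg (fun x : GLM => (x : EndM)) hv'

end CfsgLib.Flavell
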