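import Cfsg.Agent.Lib.Flavell.Pieces
import Cfsg.Agent.Lib.Flavell.Linked

/-!
The root subgroups lie in the subgroup generated by the invariant `p`-subgroups.
-/

set_option autoImplicit false
set_option linter.unusedSectionVars false
set_option linter.style.haveILetI false

namespace CfsgLib.Flavell

open Cfsg CfsgLib.ThreeTransp

/-- The subgroup generated by the `R`-invariant `p`-subgroups of `G`. -/
def invPGen (p : ℕ) {X : Type*} [Group X] (G R : Subgroup X) : Subgroup X :=
  ⨆ Q : {Q : Subgroup X // Q ≤ G ∧ IsPGroup p Q ∧ R ≤ Subgroup.normalizer (Q : Set X)}, (Q : Subgroup X)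

theorem le_invPGen {p : ℕ} {X : Type*} [Group X] {G R Q : Subgroup X} (h1 : Q ≤ G) (h2 : IsPGroup p Q)
    (h3 : R ≤ Subgroup.normalizer (Q : Set X)) : Q ≤ invPGen p G R :=
  le_iSup (fun Q : {Q : Subgroup X // Q ≤ G ∧ IsPGroup p Q ∧ R ≤ Subgroup.normalizer (Q : Set X)} =>
    (Q : Subgroup X)) ⟨Q, h1, h2, h3⟩

variable {k : Type*} [Field k] {M : Type*} [AddCommGroup M] [Module k M] [FiniteDimensional k M]
variable {G R : Subgroup (LinearMap.GeneralLinearGroup k M)}

local notation "GLM" => LinearMap.GeneralLinearGroup k M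
local notation "EndM" => Module.End k M

variable {a b : Module.End k M}

theorem qfam_conjN {x : EndM} (h : QFam G x) {g : GLM} (hg : g ∈ Subgroup.normalizer (G : Set GLM)) :
    QFam G (eConj g x) := by
  refine ⟨eConj_sq h.1, fun c => ?_⟩
  rw [← eConj_smul, ← qel_conj (smul_sq_zero h.1 c)]
  exact (Subgroup.mem_normalizer_iff.1 hg _).1 (h.2 c)

theorem qmin_conjN (h : QMin G a) {g : GLM} (hg : g ∈ Subgroup.normalizer (G : Set GLM)) :
    QMin G (eConj g a) :=
  ⟨qfam_conjN h.1 hg, fun e => h.2.1 (eConj_eq_zero e), fun y hy hy0 => by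
    rw [erk_eConj]; exact h.2.2 y hy hy0⟩

theorem conjBy_eGrpN (h : QMin G a) {g : GLM} (hg : g ∈ Subgroup.normalizer (G : Set GLM)) :
    conjBy (eGrp G a h) g = eGrp G (eConj g a) (qmin_conjN h hg) := by
  have key : ∀ {a : EndM} (h : QMin G a) {g : GLM} (hg : g ∈ Subgroup.normalizer (G : Set GLM)),
      conjBy (eGrp G a h) g ≤ eGrp G (eConj g a) (qmin_conjN h hg) := by
    rintro a h g hg _ ⟨_, ⟨x, hx, rfl⟩, rfl⟩
    refine ⟨eConj g x, ⟨qfam_conjN hx.1 hg, ?_, ker_eConj_mono g hx.2.2⟩, (qel_conj hx.1.1).symm⟩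
    rw [range_eConj, range_eConj]
    exact Submodule.map_mono hx.2.1
  refine le_antisymm (key h hg) ?_
  have := conjBy_mono g (key (qmin_conjN h hg) (Subgroup.inv_mem _ hg))
  rwa [conjBy_conjBy_inv, eGrp_congr (a := eConj g⁻¹ (eConj g a)) (b := a) (hb := h) (by rw [eConj_comp, inv_mul_cancel, eConj_one])
    (by rw [eConj_comp, inv_mul_cancel, eConj_one])] at this

theorem conjBy_qG0 {g : GLM} (hg : g ∈ Subgroup.normalizer (G : Set GLM)) : conjBy (qG0 G) g = qG0 G := by
  have key : ∀ g ∈ Subgroup.normalizer (G : Set GLM), conjBy (qG0 G) g ≤ qG0 G := by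
    intro g hg
    rw [conjBy, qG0, Subgroup.map_iSup]
    refine iSup_le fun A => ?_
    rw [Subgroup.map_iSup]
    refine iSup_le fun hA => ?_
    obtain ⟨x, hx, rfl⟩ := mem_quadraticRootSubgroups.1 hA
    exact le_of_eq_of_le (conjBy_eGrpN hx hg) (le_qG0 (mem_quadraticRootSubgroups.2 ⟨_, _, rfl⟩))
  refine le_antisymm (key g hg) ?_
  conv_lhs => rw [← conjBy_conjBy_inv (qG0 G) g]
  exact conjBy_mono g (key _ (Subgroup.inv_mem _ hg))

theorem mul_conj_mem_qG0 {g t : GLM} (hg : g ∈ Subgroup.normalizer (G : Set GLM)) (ht : t ∈ qG0 G) :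
    g * t * g⁻¹ ∈ qG0 G := by
  have : g * t * g⁻¹ ∈ conjBy (qG0 G) g := ⟨t, ht, rfl⟩
  rwa [conjBy_qG0 hg] at this

/-- The class of a subgroup under the group generated by the root subgroups. -/
def rootCls (G : Subgroup (LinearMap.GeneralLinearGroup k M))
    (A : Subgroup (LinearMap.GeneralLinearGroup k M)) : Set (Subgroup (LinearMap.GeneralLinearGroup k M)) :=
  {B | ∃ t ∈ qG0 G, B = conjBy A t}

theorem self_mem_rootCls (A : Subgroup GLM) : A ∈ rootCls G A := ⟨1, one_mem _, (conjBy_one A).symm⟩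

theorem rootCls_eq {A B : Subgroup GLM} (h : B ∈ rootCls G A) : rootCls G B = rootCls G A := by
  obtain ⟨t, ht, rfl⟩ := h
  ext C
  constructor
  · rintro ⟨s, hs, rfl⟩
    exact ⟨s * t, mul_mem hs ht, (conjBy_mul A s t).symm⟩
  · rintro ⟨s, hs, rfl⟩
    exact ⟨s * t⁻¹, mul_mem hs (inv_mem ht), by rw [conjBy_mul, conjBy_inv_conjBy]⟩

theorem rootCls_symm {A B : Subgroup GLM} (h : B ∈ rootCls G A) : A ∈ rootCls G B :=
  rootCls_eq h ▸ self_mem_rootCls A

theorem rootCls_trans {A B C : Subgroup GLM} (h : B ∈ rootCls G A) (h' : C ∈ rootCls G B) :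
    C ∈ rootCls G A := rootCls_eq h ▸ h'

theorem rootCls_conj {A B : Subgroup GLM} {g : GLM} (hg : g ∈ Subgroup.normalizer (G : Set GLM))
    (h : B ∈ rootCls G A) : conjBy B g ∈ rootCls G (conjBy A g) := by
  obtain ⟨t, ht, rfl⟩ := h
  exact ⟨g * t * g⁻¹, mul_conj_mem_qG0 hg ht, by
    rw [← conjBy_mul, ← conjBy_mul, inv_mul_cancel_right]⟩

variable {p : ℕ} [Fact p.Prime] [CharP k p]
variable (h2 : (2 : k) ≠ 0) (h3 : Nat.card k ≠ 3)

include h2 h3

theorem cls_of_linked (ha : QMin G a) (hb : QMin G b) (hl : Linked a b) :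
    eGrp G b hb ∈ rootCls G (eGrp G a ha) := by
  obtain ⟨g, hg, e⟩ := linked_conj h2 h3 ha hb hl
  exact ⟨g, sup_le (le_qG0 (mem_quadraticRootSubgroups.2 ⟨_, ha, rfl⟩))
    (le_qG0 (mem_quadraticRootSubgroups.2 ⟨_, hb, rfl⟩)) hg, e.symm⟩

theorem chain_of_noncommute (hG : NoPCore p G) (ha : QMin G a) (hb : QMin G b) (hne : a * b ≠ b * a)
    (P : ∀ x : EndM, QMin G x → Prop)
    (hP : ∀ {x y : EndM} (hx : QMin G x) (hy : QMin G y), Linked x y → P x hx → P y hy)
    (hPc : ∀ {x y : EndM} (hx : QMin G x) (hy : QMin G y),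
      eGrp G x hx = eGrp G y hy → P x hx → P y hy) (h : P a ha) : P b hb := by
  by_cases hl : Linked a b
  · exact hP ha hb hl h
  have hl' : ¬ Linked b a := fun h => hl h.symm
  have hq := (eps_data h2 h3 ha hb hl hne).1
  have hq' := (eps_data h2 h3 hb ha hl' (Ne.symm hne)).1
  obtain ⟨u, hu, u1, u2⟩ := exists_common_linked' h2 h3 hG ha hb hl hne
  obtain ⟨v, hv, v1, v2⟩ := exists_common_linked' h2 h3 hG hb ha hl' (Ne.symm hne)
  have e : eGrp G (eps a b) hq = eGrp G (eps b a) hq' :=
    eGrp_congr (by rw [eps_swap a b, LinearMap.range_neg]) (by rw [eps_swap a b]; ext m; simp)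
  exact hP hv hb v1 (hP hq' hv v2.symm (hPc hq hq' e (hP hu hq u2 (hP ha hu u1.symm h))))

theorem cls_or_commute (hG : NoPCore p G) (ha : QMin G a) (hb : QMin G b) :
    eGrp G b hb ∈ rootCls G (eGrp G a ha) ∨ ⁅eGrp G a ha, eGrp G b hb⁆ = ⊥ := by
  by_cases hc : a * b = b * a
  · exact Or.inr ((eGrp_bot_iff h2 h3 ha hb).2 ⟨not_linked_of_commute h2 ha hb.sq hc, hc⟩)
  refine Or.inl (chain_of_noncommute h2 h3 hG ha hb hc (fun x hx => eGrp G x hx ∈ rootCls G (eGrp G a ha))
    (fun hx hy hl h => rootCls_trans h (cls_of_linked h2 h3 hx hy hl)) (fun hx hy e h => e ▸ h)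
    (self_mem_rootCls _))

omit h2 h3 in
theorem exists_fixed_member [Finite GLM] {r : ℕ} [Fact r.Prime] {R₁ T : Subgroup GLM} (hR : IsPGroup r R₁)
    (hT : ¬ r ∣ Nat.card T) (A : Subgroup GLM)
    (hinv : ∀ g ∈ R₁, ∀ B ∈ {B : Subgroup GLM | ∃ t ∈ T, B = conjBy A t},
      conjBy B g ∈ {B : Subgroup GLM | ∃ t ∈ T, B = conjBy A t}) :
    ∃ B ∈ {B : Subgroup GLM | ∃ t ∈ T, B = conjBy A t}, ∀ g ∈ R₁, conjBy B g = B :=
  exists_fixed_in_set conjPerm hR _ hinv fun h => hT (h.trans (card_conjClass_dvd T A))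

/-- The root subgroups lie in the subgroup generated by the invariant `p`-subgroups. -/
theorem qG0_le_invPGen [Finite GLM] {l : k} (hl0 : l ≠ 0) (hl1 : l ≠ 1) (hl2 : l * l ≠ 1)
    {r : ℕ} [Fact r.Prime] (hG : NoPCore p G) (hRr : IsPGroup r R)
    (hn : R ≤ Subgroup.normalizer (G : Set GLM)) (hcop : (Nat.card G).Coprime r) :
    qG0 G ≤ invPGen p G R := by
  set K := invPGen p G R with hK
  have hr : ∀ {T : Subgroup GLM}, T ≤ G → ¬ r ∣ Nat.card T := by
    intro T hT h
    have := Nat.eq_one_of_dvd_coprimes hcop (h.trans (Subgroup.card_dvd_of_le hT)) dvd_rfl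
    exact (Fact.out : r.Prime).ne_one this
  let Good : ∀ x : EndM, QMin G x → Prop := fun x hx =>
    eGrp G x hx ≤ K ∧ ∀ y (hy : QMin G y), Linked x y → eGrp G y hy ≤ K
  have good_conj : ∀ {x : EndM} (hx : QMin G x) {g : GLM}, g ∈ K → ∀ hg : g ∈ Subgroup.normalizer (G : Set GLM),
      Good x hx → Good (eConj g x) (qmin_conjN hx hg) := by
    intro x hx g hgK hg ⟨h1, h2'⟩
    have hKg : conjBy K g = K := conjBy_eq_self_iff.2 (Subgroup.le_normalizer hgK)
    refine ⟨by rw [← conjBy_eGrpN hx hg, ← hKg]; exact conjBy_mono g h1, fun y hy hl => ?_⟩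
    have hy' := qmin_conjN hy (Subgroup.inv_mem _ hg)
    have hl' := linked_eConj (g := g⁻¹) hl
    rw [eConj_comp, inv_mul_cancel, eConj_one] at hl'
    have h4 := conjBy_mono g (h2' _ hy' hl')
    rwa [hKg, ← conjBy_eGrpN hy (Subgroup.inv_mem _ hg), conjBy_conjBy_inv] at h4
  have good_congr : ∀ {x y : EndM} (hx : QMin G x) (hy : QMin G y),
      eGrp G x hx = eGrp G y hy → Good x hx → Good y hy := by
    intro x y hx hy e ⟨h1, h2'⟩
    refine ⟨e ▸ h1, fun z hz hl => h2' z hz ?_⟩
    obtain ⟨e1, e2⟩ := eGrp_inj e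
    exact (linked_congr e1 e2 rfl rfl).2 hl
  have good_linked : ∀ {x y : EndM} (hx : QMin G x) (hy : QMin G y), Linked x y → Good x hx → Good y hy := by
    intro x y hx hy hl hgood
    obtain ⟨g, hg, e⟩ := linked_conj h2 h3 hx hy hl
    have hgK : g ∈ K := sup_le hgood.1 (hgood.2 y hy hl) hg
    have hgG : g ∈ Subgroup.normalizer (G : Set GLM) :=
      Subgroup.le_normalizer (sup_le (eGrp_le hx) (eGrp_le hy) hg)
    refine good_congr (qmin_conjN hx hgG) hy ?_ (good_conj hx hgK hgG hgood)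
    rw [← conjBy_eGrpN hx hgG, e]
  -- a conjugate of each root element is good
  have start : ∀ a (ha : QMin G a), ∃ t ∈ qG0 G, ∃ ht : t ∈ Subgroup.normalizer (G : Set GLM),
      Good (eConj t a) (qmin_conjN ha ht) := by
    intro a ha
    set C := rootCls G (eGrp G a ha) with hC
    let R₁ : Subgroup GLM :=
      { carrier := {g | g ∈ R ∧ conjBy (eGrp G a ha) g ∈ C}
        one_mem' := ⟨one_mem R, by rw [conjBy_one]; exact self_mem_rootCls _⟩
        mul_mem' := fun {g g'} hg hg' => ⟨mul_mem hg.1 hg'.1, by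
          rw [conjBy_mul]
          exact rootCls_trans hg.2 (rootCls_conj (hn hg.1) hg'.2)⟩
        inv_mem' := fun {g} hg => ⟨inv_mem hg.1, by
          have h := rootCls_conj (hn (inv_mem hg.1)) hg.2
          rw [conjBy_inv_conjBy] at h
          exact rootCls_symm h⟩ }
    have hR₁ : R₁ ≤ R := fun g hg => hg.1
    obtain ⟨A0, ⟨t, ht, rfl⟩, hfix⟩ := exists_fixed_member (hRr.to_le hR₁) (hr qG0_le) (eGrp G a ha)
      fun g hg B hB => rootCls_trans hg.2 (rootCls_conj (hn hg.1) hB)
    have htN : t ∈ Subgroup.normalizer (G : Set GLM) := Subgroup.le_normalizer (qG0_le ht)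
    refine ⟨t, ht, htN, ?_⟩
    set a0 := eConj t a with ha0def
    have ha0 : QMin G a0 := qmin_conjN ha htN
    have eA : conjBy (eGrp G a ha) t = eGrp G a0 ha0 := conjBy_eGrpN ha htN
    rw [eA] at hfix
    have hcls : eGrp G a0 ha0 ∈ C := eA ▸ ⟨t, ht, rfl⟩
    have hC0 : rootCls G (eGrp G a0 ha0) = C := rootCls_eq hcls
    have hroot : ∀ B ∈ C, ∃ x, ∃ hx : QMin G x, B = eGrp G x hx := by
      rintro B ⟨s, hs, rfl⟩
      exact ⟨_, _, conjBy_eGrp ha (qG0_le hs)⟩
    set T := ⨆ B : C, (B : Subgroup GLM) with hT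
    have hTG : T ≤ G := iSup_le fun B => by
      obtain ⟨x, hx, e⟩ := hroot B B.2
      rw [e]; exact eGrp_le hx
    have hmemT : ∀ {x : EndM} (hx : QMin G x), eGrp G x hx ∈ C → eGrp G x hx ≤ T := fun hx h =>
      le_iSup (fun B : C => (B : Subgroup GLM)) ⟨_, h⟩
    have hTR : ∀ g ∈ R, conjBy (eGrp G a ha) g ∉ C → ∀ u ∈ T, ∀ v ∈ conjBy T g, u * v = v * u := by
      intro g hg h
      have : conjBy T g = ⨆ B : C, conjBy (B : Subgroup GLM) g := Subgroup.map_iSup _ _
      rw [this]
      refine sup_commute fun B B' u hu v hv => ?_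
      obtain ⟨x, hx, e⟩ := hroot B B.2
      obtain ⟨y, hy, e'⟩ := hroot B' B'.2
      rw [e] at hu
      rw [e', conjBy_eGrpN hy (hn hg)] at hv
      rcases cls_or_commute h2 h3 hG hx (qmin_conjN hy (hn hg)) with hxy | hxy
      · exfalso
        apply h
        rw [← e, ← conjBy_eGrpN hy (hn hg), ← e'] at hxy
        exact rootCls_trans B.2 (rootCls_trans hxy (rootCls_symm (rootCls_conj (hn hg) B'.2)))
      · exact comm_of_bot hxy hu hv
    have inK : ∀ U : Subgroup GLM, U ≤ T → IsPGroup p U → (∀ g ∈ R₁, conjBy U g = U) → U ≤ K := by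
      intro U hUT hUp hUfix
      obtain ⟨Q, hQp, hQR, hUQ, hQmin⟩ := orbit_sup_isPGroup R U hUp fun g hg => by
        by_cases h : conjBy (eGrp G a ha) g ∈ C
        · exact Or.inl (hUfix g ⟨hg, h⟩)
        · exact Or.inr fun u hu v hv => hTR g hg h u (hUT hu) v (conjBy_mono g hUT hv)
      refine hUQ.trans (le_invPGen (hQmin G (hUT.trans hTG) hn) hQp hQR)
    have hT0 : eGrp G a0 ha0 ≤ T := hmemT ha0 hcls
    have hE : eGrp G a0 ha0 ≤ K := by
      refine inK _ hT0 ?_ hfix
      refine isPGroup_of_unipotentOn ⟨2, fun l hl hlen => ?_⟩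
      obtain ⟨x, y, rfl⟩ := List.length_eq_two.1 hlen
      obtain ⟨x', hx', rfl⟩ := hl x (by simp)
      obtain ⟨y', hy', rfl⟩ := hl y (by simp)
      suffices h : udif (qel x') * udif (qel y') = 0 by simpa [udif] using h
      rw [udif_qel hx'.1.1, udif_qel hy'.1.1]
      exact eSpace_prod ha0 hx' hy'
    set U := flagGrp a0 ha0.sq ⊓ T with hU
    have hUfix : ∀ g ∈ R₁, conjBy U g = U := by
      have key : ∀ g ∈ R₁, conjBy U g ≤ U := by
        intro g hg
        have he := hfix g hg
        rw [conjBy_eGrpN ha0 (hn hg.1)] at he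
        obtain ⟨er, ek⟩ := eGrp_inj he
        refine le_inf ?_ ?_
        · refine (conjBy_mono g inf_le_left).trans ?_
          rintro _ ⟨v, ⟨v1, v2, v3⟩, rfl⟩
          have e : udif ((MulAut.conj g).toMonoidHom v) = (g : EndM) * udif v * ((g⁻¹ : GLM) : EndM) := by
            show udif (g * v * g⁻¹) = _
            simp only [udif, Units.val_mul, sub_mul, mul_sub, mul_one, Units.mul_inv]
          refine ⟨?_, ?_, ?_⟩
          · rintro _ ⟨m, rfl⟩
            rw [e, Module.End.mul_apply, Module.End.mul_apply, ← ek, mem_ker_eConj, ← Module.End.mul_apply,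
              Units.inv_mul, Module.End.one_apply]
            exact v1 ⟨_, rfl⟩
          · rintro _ ⟨m, hm, rfl⟩
            rw [e, Module.End.mul_apply, Module.End.mul_apply, ← er, range_eConj]
            rw [SetLike.mem_coe, ← ek, mem_ker_eConj] at hm
            exact Submodule.mem_map_of_mem (v2 ⟨_, hm, rfl⟩)
          · intro m hm
            rw [← er, range_eConj] at hm
            obtain ⟨z, hz, rfl⟩ := hm
            rw [LinearMap.mem_ker, e, Module.End.mul_apply, Module.End.mul_apply,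
              ← Module.End.mul_apply ((g⁻¹ : GLM) : EndM), Units.inv_mul, Module.End.one_apply,
              LinearMap.mem_ker.1 (v3 hz), map_zero]
        · refine (conjBy_mono g inf_le_right).trans ?_
          rw [conjBy, hT, Subgroup.map_iSup]
          refine iSup_le fun B => ?_
          exact le_iSup (fun B : C => (B : Subgroup GLM))
            ⟨conjBy (B : Subgroup GLM) g, rootCls_trans hg.2 (rootCls_conj (hn hg.1) B.2)⟩
      intro g hg
      refine le_antisymm (key g hg) ?_
      conv_lhs => rw [← conjBy_conjBy_inv U g]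
      exact conjBy_mono g (key _ (inv_mem hg))
    have hUK : U ≤ K := inK _ inf_le_right ((isPGroup_flagGrp ha0.sq).to_le inf_le_left) hUfix
    obtain ⟨w, hw, hlw⟩ := exists_linked' h2 h3 hG ha0
    set b0 := eConj w a0
    have hb0 : QMin G b0 := ha0.conj hw
    have hlb : Linked a0 b0 := hlw.symm
    have hTlinked : ∀ {y : EndM} (hy : QMin G y), Linked a0 y → eGrp G y hy ≤ T := fun hy hl =>
      hmemT hy (hC0 ▸ cls_of_linked h2 h3 ha0 hy hl)
    -- the opposite classes form one orbit of `U`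
    have horb : ∀ B : Subgroup GLM, (∃ v ∈ U, B = conjBy (eGrp G b0 hb0) v) ↔
        ∃ y, ∃ hy : QMin G y, Linked a0 y ∧ B = eGrp G y hy := by
      intro B
      constructor
      · rintro ⟨v, hv, rfl⟩
        have hvG : v ∈ G := hTG hv.2
        refine ⟨_, _, ?_, conjBy_eGrp hb0 hvG⟩
        obtain ⟨v1, v2, v3⟩ := hv.1
        have hfixv : ∀ m ∈ LinearMap.range a0, (v : EndM) m = m := fun m hm => by
          have := LinearMap.mem_ker.1 (v3 hm)
          rwa [udif, LinearMap.sub_apply, Module.End.one_apply, sub_eq_zero] at this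
        have hker : ∀ m ∈ LinearMap.ker a0, (v : EndM) m ∈ LinearMap.ker a0 := fun m hm => by
          have h1 := range_le_ker_of_sq ha0.sq (v2 ⟨m, hm, rfl⟩)
          have h2 : (v : EndM) m = udif v m + m := by
            rw [udif, LinearMap.sub_apply, Module.End.one_apply, sub_add_cancel]
          rw [h2]; exact add_mem h1 hm
        have hl' := linked_eConj (g := v) hlb
        refine (linked_congr ?_ ?_ rfl rfl).1 hl'
        · refine (Submodule.eq_of_le_of_finrank_le (fun m hm => ?_) ?_).symm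
          · rw [range_eConj]; exact ⟨m, hm, hfixv m hm⟩
          · exact le_of_eq (erk_eConj v a0)
        · refine (Submodule.eq_of_le_of_finrank_le (fun m hm => ?_) ?_).symm
          · rw [mem_ker_eConj]
            have hinj : Function.Injective ((v : EndM).restrict hker) := fun x y e => Subtype.ext (by
              have := congrArg ((v⁻¹ : GLM) : EndM) (congrArg Subtype.val e)
              simpa [← Module.End.mul_apply] using this)
            obtain ⟨x, hx⟩ := LinearMap.injective_iff_surjective.1 hinj ⟨m, hm⟩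
            have e : (v : EndM) x.1 = m := congrArg Subtype.val hx
            rw [← e, ← Module.End.mul_apply, Units.inv_mul, Module.End.one_apply]
            exact x.2
          · have h4 := LinearMap.finrank_range_add_finrank_ker (eConj v a0)
            have h5 := LinearMap.finrank_range_add_finrank_ker a0
            have h6 := erk_eConj v a0
            simp only [erk] at h6
            omega
      · rintro ⟨y, hy, hl, rfl⟩
        obtain ⟨v, hv, r1, r2⟩ := linked_transitive h2 h3 ha0 hb0 hy hlb hl hl0 hl1 hl2 hT0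
          (hTlinked hb0 hlb) (hTlinked hy hl)
        exact ⟨v, hv, by rw [conjBy_eGrp hb0 (hTG hv.2)]; exact eGrp_congr r1.symm r2.symm⟩
    obtain ⟨F, hF, hFfix⟩ := exists_fixed_member (hRr.to_le hR₁) (hr (inf_le_right.trans hTG))
      (eGrp G b0 hb0) (R₁ := R₁) (T := U) fun g hg B hB => by
        obtain ⟨y, hy, hl, rfl⟩ := (horb B).1 hB
        refine (horb _).2 ⟨_, _, ?_, conjBy_eGrpN hy (hn hg.1)⟩
        have he := hfix g hg
        rw [conjBy_eGrpN ha0 (hn hg.1)] at he
        obtain ⟨er, ek⟩ := eGrp_inj he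
        exact (linked_congr er ek rfl rfl).1 (linked_eConj hl)
    obtain ⟨f, hf, hlf, rfl⟩ := (horb F).1 hF
    have hFp : IsPGroup p (eGrp G f hf) := by
      refine isPGroup_of_unipotentOn ⟨2, fun l hl hlen => ?_⟩
      obtain ⟨x, y, rfl⟩ := List.length_eq_two.1 hlen
      obtain ⟨x', hx', rfl⟩ := hl x (by simp)
      obtain ⟨y', hy', rfl⟩ := hl y (by simp)
      suffices h : udif (qel x') * udif (qel y') = 0 by simpa [udif] using h
      rw [udif_qel hx'.1.1, udif_qel hy'.1.1]
      exact eSpace_prod hf hx' hy'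
    have hFK : eGrp G f hf ≤ K := inK _ (hTlinked hf hlf) hFp hFfix
    refine ⟨hE, fun y hy hl => ?_⟩
    obtain ⟨v, hv, r1, r2⟩ := linked_transitive h2 h3 ha0 hf hy hlf hl hl0 hl1 hl2 hT0
      (hTlinked hf hlf) (hTlinked hy hl)
    have e : eGrp G y hy = conjBy (eGrp G f hf) v := by
      rw [conjBy_eGrp hf (hTG hv.2)]; exact eGrp_congr r1.symm r2.symm
    rw [e, ← conjBy_eq_self_iff.2 (Subgroup.le_normalizer (hUK hv))]
    exact conjBy_mono v hFK
  -- goodness is invariant under the group of the roots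
  have good_qG0 : ∀ t ∈ qG0 G, ∀ (x : EndM) (hx : QMin G x) (ht : t ∈ Subgroup.normalizer (G : Set GLM)),
      (Good x hx ↔ Good (eConj t x) (qmin_conjN hx ht)) := by
    intro t ht
    rw [qG0] at ht
    have hN : ∀ {s : GLM}, s ∈ qG0 G → s ∈ Subgroup.normalizer (G : Set GLM) := fun hs =>
      Subgroup.le_normalizer (qG0_le hs)
    have base : ∀ e : EndM, ∀ he : QMin G e, ∀ s ∈ eGrp G e he, ∀ (x : EndM) (hx : QMin G x)
        (hs : s ∈ Subgroup.normalizer (G : Set GLM)), Good x hx → Good (eConj s x) (qmin_conjN hx hs) := by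
      intro e he s hs x hx hsN hgood
      by_cases hc : x * e = e * x
      · refine good_congr hx (qmin_conjN hx hsN) ?_ hgood
        rw [← conjBy_eGrpN hx hsN]
        have hb := (eGrp_bot_iff h2 h3 hx he).2 ⟨not_linked_of_commute h2 hx he.sq hc, hc⟩
        exact (conjBy_of_commute fun z hz => (comm_of_bot hb hz hs).symm).symm
      · have hge : Good e he := chain_of_noncommute h2 h3 hG hx he hc Good
          (fun hx hy hl h => good_linked hx hy hl h) (fun hx hy e h => good_congr hx hy e h) hgood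
        exact good_conj hx (hge.1 hs) hsN hgood
    let S : Subgroup GLM :=
      { carrier := {s | s ∈ qG0 G ∧ ∀ (x : EndM) (hx : QMin G x) (hs : s ∈ Subgroup.normalizer (G : Set GLM)),
            Good x hx ↔ Good (eConj s x) (qmin_conjN hx hs)}
        one_mem' := ⟨one_mem _, fun x hx _ => ⟨fun h => good_congr hx _ (eGrp_congr (by rw [eConj_one])
            (by rw [eConj_one])) h, fun h => good_congr _ hx (eGrp_congr (by rw [eConj_one])
            (by rw [eConj_one])) h⟩⟩
        mul_mem' := fun {s s'} hs hs' => ⟨mul_mem hs.1 hs'.1, fun x hx hss => by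
          rw [hs'.2 x hx (hN hs'.1), hs.2 _ (qmin_conjN hx (hN hs'.1)) (hN hs.1)]
          exact ⟨fun h => good_congr _ _ (eGrp_congr (by rw [eConj_comp]) (by rw [eConj_comp])) h,
            fun h => good_congr _ _ (eGrp_congr (by rw [eConj_comp]) (by rw [eConj_comp])) h⟩⟩
        inv_mem' := fun {s} hs => ⟨inv_mem hs.1, fun x hx hsi => by
          rw [hs.2 _ (qmin_conjN hx hsi) (hN hs.1)]
          exact ⟨fun h => good_congr _ _ (eGrp_congr (by rw [eConj_comp, mul_inv_cancel, eConj_one])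
              (by rw [eConj_comp, mul_inv_cancel, eConj_one])) h,
            fun h => good_congr _ _ (eGrp_congr (by rw [eConj_comp, mul_inv_cancel, eConj_one])
              (by rw [eConj_comp, mul_inv_cancel, eConj_one])) h⟩⟩ }
    have hle : qG0 G ≤ S := iSup₂_le fun A hA s hs => by
      refine ⟨le_qG0 hA hs, fun x hx hsN => ?_⟩
      obtain ⟨e, he, rfl⟩ := mem_quadraticRootSubgroups.1 hA
      refine ⟨base e he s hs x hx hsN, fun h => ?_⟩
      have := base e he s⁻¹ (inv_mem hs) _ (qmin_conjN hx hsN) (Subgroup.inv_mem _ hsN) h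
      exact good_congr _ hx (eGrp_congr (by rw [eConj_comp, inv_mul_cancel, eConj_one])
        (by rw [eConj_comp, inv_mul_cancel, eConj_one])) this
    exact fun x hx htN => (hle ht).2 x hx htN
  refine iSup₂_le fun A hA => ?_
  obtain ⟨a, ha, rfl⟩ := mem_quadraticRootSubgroups.1 hA
  obtain ⟨t, ht, htN, hgood⟩ := start a ha
  exact ((good_qG0 t ht a ha htN).2 hgood).1

end CfsgLib.Flavell
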