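import Mathlib
import Cfsg.Agent.Lib.Flavell.Partner
import Cfsg.Agent.Lib.Flavell.Roots

/-!
Coprime groups acting on the partners of a quadratic family fix one of them; every family not
centralizing the root subgroups has a partner.
-/

set_option autoImplicit false
set_option linter.unusedSectionVars false
set_option linter.unusedSimpArgs false
set_option linter.style.haveILetI false

namespace CfsgLib.Flavell

open Cfsg CfsgLib.ThreeTransp

variable {k : Type*} [Field k] {M : Type*} [AddCommGroup M] [Module k M] [FiniteDimensional k M]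
variable {G : Subgroup (LinearMap.GeneralLinearGroup k M)}

local notation "GLM" => LinearMap.GeneralLinearGroup k M
local notation "EndM" => Module.End k M
local notation "TwG" => LinearMap.GeneralLinearGroup k M × kˣ

variable {s y y' : Module.End k M} {l : k}

/-- Conjugation followed by a scalar. -/
def twPerm : (LinearMap.GeneralLinearGroup k M × kˣ) →* Equiv.Perm (Module.End k M) :=
  { toFun := fun t =>
      ⟨fun x => (t.2 : k) • eConj t.1 x, fun x => ((t.2⁻¹ : kˣ) : k) • eConj t.1⁻¹ x,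
        fun x => by simp [eConj_smul, eConj_comp, eConj_one, smul_smul],
        fun x => by simp [eConj_smul, eConj_comp, eConj_one, smul_smul]⟩
    map_one' := Equiv.ext fun x => by simp [eConj_one]
    map_mul' := fun t u => Equiv.ext fun x => by simp [eConj_smul, eConj_comp, smul_smul] }

theorem twPerm_apply (t : TwG) (x : EndM) : twPerm t x = (t.2 : k) • eConj t.1 x := rfl

/-- The element normalizes `G` and multiplies `s` by its scalar. -/
def TwStab (G : Subgroup (LinearMap.GeneralLinearGroup k M)) (s : Module.End k M)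
    (t : LinearMap.GeneralLinearGroup k M × kˣ) : Prop :=
  t.1 ∈ Subgroup.normalizer (G : Set (LinearMap.GeneralLinearGroup k M)) ∧ eConj t.1 s = (t.2 : k) • s

theorem IsPartner.of_smul {c : k} (hc : c ≠ 0) (h : IsPartner G (c • s) y) : IsPartner G s (c • y) := by
  have h1 : s * (c • y) * s = s := by
    have h1 := h.sys
    simp only [smul_mul_assoc, mul_smul_comm, smul_smul] at h1 ⊢
    have := congrArg (fun z => c⁻¹ • z) h1
    simp only [smul_smul] at this
    rwa [← mul_assoc, inv_mul_cancel₀ hc, one_smul, one_mul] at this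
  refine ⟨?_, h.fam.smul c, h1, ?_⟩
  · have := h.ss
    rw [smul_mul_smul_comm, smul_eq_zero] at this
    exact this.resolve_left (mul_ne_zero hc hc)
  · have h2 := h.ysy
    simp only [smul_mul_assoc, mul_smul_comm, smul_smul] at h2 ⊢
    rw [← smul_smul, h2]

theorem IsPartner.twist (h : IsPartner G s y) {t : TwG} (ht : TwStab G s t) :
    IsPartner G s (twPerm t y) := by
  have h1 := h.conj ht.1
  rw [ht.2] at h1
  exact h1.of_smul (Units.ne_zero _)

variable {p : ℕ} [Fact p.Prime] [CharP k p]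

theorem flag_conjTw (hss : s * s = 0) {t : TwG} (ht : eConj t.1 s = (t.2 : k) • s) {v : GLM}
    (hv : v ∈ flagGrp s hss) : t.1 * v * t.1⁻¹ ∈ flagGrp s hss := by
  obtain ⟨v1, v2, v3⟩ := mem_flagGrp.1 hv
  have hc : (t.2 : k) ≠ 0 := Units.ne_zero _
  have hud : udif (t.1 * v * t.1⁻¹) = eConj t.1 (udif v) := by
    simp only [udif, eConj, Units.val_mul, mul_sub, sub_mul, mul_one, Units.mul_inv]
  have hs : s = (t.2 : k)⁻¹ • eConj t.1 s := by rw [ht, smul_smul, inv_mul_cancel₀ hc, one_smul]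
  refine mem_flagGrp.2 ⟨?_, fun m hm => ?_, ?_⟩
  · rw [hud]; nth_rewrite 1 [hs]; rw [smul_mul_assoc, eConj_mul, v1, eConj_zero, smul_zero]
  · have h1 : s (((t.1⁻¹ : GLM) : EndM) m) = 0 := by
      have h2 : (eConj t.1 s) m = 0 := by rw [ht, LinearMap.smul_apply, hm, smul_zero]
      exact (mem_ker_eConj t.1 s m).1 h2
    obtain ⟨q, hq⟩ := v2 _ h1
    rw [hud]
    refine ⟨(t.2 : k) • (t.1 : EndM) q, ?_⟩
    have h3 := LinearMap.congr_fun ht ((t.1 : EndM) q)
    simp only [eConj, Module.End.mul_apply, LinearMap.smul_apply] at h3 ⊢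
    rw [← Module.End.mul_apply ((t.1⁻¹ : GLM) : EndM), Units.inv_mul, Module.End.one_apply] at h3
    rw [map_smul, ← hq, h3]
  · rw [hud]; nth_rewrite 1 [hs]; rw [mul_smul_comm, eConj_mul, v3, eConj_zero, smul_zero]

/-- A coprime group of twisted conjugations fixes a partner. -/
theorem exists_fixed_partner [Finite GLM] (hs : QFam G s) (hl0 : l ≠ 0) (hl1 : l ≠ 1) (hl2 : l * l ≠ 1)
    (T : Set TwG) (hT : ∀ t ∈ T, TwStab G s t) (hy : IsPartner G s y) (hyT : ∀ t ∈ T, twPerm t y = y)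
    {q : ℕ} [Fact q.Prime] (hqp : q ≠ p) {H : Subgroup TwG} (hHq : IsPGroup q H)
    (hH : ∀ g ∈ H, TwStab G s g ∧ ∀ t ∈ T, g * t = t * g) :
    ∃ y', IsPartner G s y' ∧ (∀ t ∈ T, twPerm t y' = y') ∧ ∀ g ∈ H, twPerm g y' = y' := by
  classical
  set U : Subgroup GLM := flagGrp s hs.1 ⊓ G ⊓ Subgroup.centralizer (Prod.fst '' T) with hU
  set Y : Set EndM := {z | IsPartner G s z ∧ ∀ t ∈ T, twPerm t z = z} with hY
  let φ : U → EndM := fun v => eConj (v : GLM) y
  have horb : Set.range φ = Y := by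
    ext z
    constructor
    · rintro ⟨v, rfl⟩
      refine ⟨hy.conjFlag v.2.1, fun t ht => ?_⟩
      have hc : t.1 * (v : GLM) = (v : GLM) * t.1 :=
        Subgroup.mem_centralizer_iff.1 v.2.2 t.1 ⟨t, ht, rfl⟩
      show twPerm t (eConj (v : GLM) y) = eConj (v : GLM) y
      conv_rhs => rw [← hyT t ht]
      rw [twPerm_apply, twPerm_apply, eConj_smul, eConj_comp, eConj_comp, hc]
    · rintro ⟨hz, hzT⟩
      obtain ⟨v, hv, hvy⟩ := exists_conj_partner hs hy hz hl0 hl1 hl2
      refine ⟨⟨v, hv, Subgroup.mem_centralizer_iff.2 ?_⟩, hvy⟩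
      rintro _ ⟨t, ht, rfl⟩
      set w := t.1 * v * t.1⁻¹ with hw
      have hwU : w ∈ flagGrp s hs.1 ⊓ G :=
        ⟨flag_conjTw hs.1 (hT t ht).2 hv.1, (Subgroup.mem_normalizer_iff.1 (hT t ht).1 v).1 hv.2⟩
      have hwy : eConj w y = z := by
        have e : t.1 * v = w * t.1 := by rw [hw]; group
        have h1 := hzT t ht
        rw [← hvy, twPerm_apply, eConj_comp, e, ← eConj_comp, ← eConj_smul, ← twPerm_apply, hyT t ht,
          hvy] at h1
        exact h1
      have hx : v⁻¹ * w = 1 := by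
        refine flag_eq_one hy (Subgroup.mul_mem _ (Subgroup.inv_mem _ hv.1) hwU.1) ?_
        rw [← eConj_comp, hwy, ← hvy, eConj_comp, inv_mul_cancel, eConj_one]
      have hvw : v = w := inv_mul_eq_one.1 hx
      calc t.1 * v = w * t.1 := by rw [hw]; group
        _ = v * t.1 := by rw [← hvw]
  have hinj : Function.Injective φ := by
    intro v w e
    refine Subtype.ext (inv_mul_eq_one.1 (flag_eq_one hy (Subgroup.mul_mem _ (Subgroup.inv_mem _ v.2.1.1) w.2.1.1) ?_))
    rw [← eConj_comp, ← show eConj (v : GLM) y = eConj (w : GLM) y from e, eConj_comp, inv_mul_cancel, eConj_one]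
  have hUp : IsPGroup p U := (isPGroup_flagGrp (p := p) hs.1).to_le (inf_le_left.trans inf_le_left)
  have hd : ¬ q ∣ Nat.card Y := by
    intro hd
    have h1 : Nat.card Y = Nat.card U := by
      rw [← horb]; exact Nat.card_range_of_injective hinj
    obtain ⟨n, hn⟩ := IsPGroup.iff_card.1 hUp
    have h2 : q ∣ p ^ n := by rw [← hn, ← h1]; exact hd
    exact hqp ((Nat.prime_dvd_prime_iff_eq (Fact.out : q.Prime) (Fact.out : p.Prime)).1
      ((Fact.out : q.Prime).dvd_of_dvd_pow h2))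
  haveI : Finite Y := by rw [← horb]; exact (Set.finite_range φ).to_subtype
  obtain ⟨z, hz, hzH⟩ := exists_fixed_in_set (twPerm (k := k) (M := M)) hHq Y (fun g hg z hz => by
    refine ⟨hz.1.twist (hH g hg).1, fun t ht => ?_⟩
    have e := congrArg (fun u => twPerm u z) ((hH g hg).2 t ht)
    simp only [map_mul, Equiv.Perm.mul_apply, hz.2 t ht] at e
    exact e.symm) hd
  exact ⟨z, hz.1, hz.2, hzH⟩

/-- The elements `g` with `g = hEl s y (l ^ i)` form a `q`-group. -/
theorem isPGroup_zpowers_hEl (h : IsPartner G s y) {q n : ℕ} [Fact q.Prime] (hlq : l ^ q ^ n = 1)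
    {g : GLM} (hg : (g : EndM) = hEl s y l) : IsPGroup q (Subgroup.zpowers ((g, (1 : kˣ)) : TwG)) := by
  have hpow : ∀ i : ℕ, ((g ^ i : GLM) : EndM) = hEl s y (l ^ i) := by
    intro i
    induction i with
    | zero => rw [pow_zero, pow_zero, Units.val_one, hEl_one]
    | succ i ih => rw [pow_succ, Units.val_mul, ih, hg, hEl_mul h, pow_succ]
  have h1 : ((g, (1 : kˣ)) : TwG) ^ q ^ n = 1 := by
    rw [Prod.pow_mk, one_pow]
    refine Prod.ext (Units.ext ?_) rfl
    rw [hpow, hlq, hEl_one, Prod.fst_one, Units.val_one]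
  rintro ⟨x, hx⟩
  obtain ⟨i, rfl⟩ := Subgroup.mem_zpowers_iff.1 hx
  refine ⟨n, Subtype.ext ?_⟩
  show (((g, (1 : kˣ)) : TwG) ^ i) ^ q ^ n = 1
  rw [← zpow_natCast, ← zpow_mul, mul_comm, zpow_mul, zpow_natCast, h1, one_zpow]

/-- A quadratic family has a partner if only zero centralizes the root subgroups. -/
theorem exists_partner [Finite GLM] (h2 : (2 : k) ≠ 0) (h3 : Nat.card k ≠ 3) (hG : NoPCore p G)
    (hl0 : l ≠ 0) (hl1 : l ≠ 1) (hl2 : l * l ≠ 1) {q n : ℕ} [Fact q.Prime] (hqp : q ≠ p)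
    (hlq : l ^ q ^ n = 1)
    (hcent : ∀ x, QFam G x → (∀ a, QMin G a → a * x = x * a) → x = 0)
    (hs : QFam G s) (hs0 : s ≠ 0) : ∃ z, IsPartner G s z := by
  induction hr : erk s using Nat.strong_induction_on generalizing s with
  | _ d ih =>
  obtain ⟨a, ha, haz⟩ : ∃ a, QMin G a ∧ ¬ IsNilpotent (a * s + s * a) := by
    by_contra hcon
    push Not at hcon
    exact hs0 (hcent s hs fun a ha => commute_of_unlinked' h2 h3 hG hs hcon ha)
  obtain ⟨s₁, s₀, hsum, hm1, hs₀, h10, h01, hl, hlt, has, hsa⟩ := exists_split' h2 h3 ha hs haz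
  obtain ⟨y₁, hy₁, hya⟩ : ∃ y₁, IsPartner G s₁ y₁ ∧ y₁ ∈ eSpace G a ha.sq := by
    obtain ⟨D⟩ := exists_pairData hm1.sq ha.sq
    obtain ⟨-, hA, -, htop, hmap⟩ := pair_structure h2 h3 hm1 ha D (not_nilpotent_of_linked hm1 hl.symm)
    obtain ⟨-, hy, -, -⟩ := phi_mem_eSpace hm1 ha D htop hmap D.rinv
    refine ⟨a * D.phi D.rinv, ⟨hm1.sq, hy.1, ?_, ?_⟩, hy⟩
    · have hA' : s₁ * D.pi = s₁ := by rw [mul_sub, mul_one, sub_eq_zero] at hA; exact hA.symm
      have h1 : D.z * D.phi D.rinv = D.pi := by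
        have hz : D.pi * D.phi D.rinv = D.phi D.rinv := by
          rw [← D.phi_one, ← D.phi_mul, one_mul]
        rw [← hz, ← mul_assoc, ← D.phi_root, ← D.phi_mul, D.root_rinv, D.phi_one]
      calc s₁ * (a * D.phi D.rinv) * s₁ = s₁ * (a * (D.phi D.rinv * s₁)) := by simp only [mul_assoc]
        _ = (s₁ * a) * s₁ * D.phi D.rinv := by rw [(D.comm_phi_a _).eq]; simp only [mul_assoc]
        _ = s₁ * D.z * D.phi D.rinv := by
          rw [D.z_eq, mul_add, ← mul_assoc s₁ s₁, hm1.sq, zero_mul, zero_add, mul_assoc s₁ a s₁]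
        _ = s₁ := by rw [mul_assoc, h1, hA']
    · have h1 : D.phi D.rinv * D.z * D.phi D.rinv = D.phi D.rinv := by
        rw [mul_assoc]
        have : D.z * D.phi D.rinv = D.z * D.pi * D.phi D.rinv := by
          rw [mul_assoc, ← D.phi_one, ← D.phi_mul, one_mul]
        rw [this, ← D.phi_root, ← D.phi_mul, ← D.phi_mul, D.root_rinv, mul_one]
      calc a * D.phi D.rinv * s₁ * (a * D.phi D.rinv)
          = a * (s₁ * a) * (D.phi D.rinv * D.phi D.rinv) := by
            rw [mul_assoc a (D.phi _) s₁, (D.comm_phi_a _).eq]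
            simp only [mul_assoc]
            rw [← mul_assoc (D.phi _) a, (D.comm_phi_b _).eq]
            simp only [mul_assoc]
        _ = a * D.z * (D.phi D.rinv * D.phi D.rinv) := by
            rw [D.z_eq, mul_add a (s₁ * a) (a * s₁), ← mul_assoc a a, ha.sq, zero_mul, add_zero]
        _ = a * (D.phi D.rinv * D.z * D.phi D.rinv) := by
            rw [mul_assoc, ← mul_assoc D.z, ← (Commute.eq (show Commute (D.phi D.rinv) D.z from
              (D.comm_phi_a _).mul_right (D.comm_phi_b _) |>.add_right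
                ((D.comm_phi_b _).mul_right (D.comm_phi_a _))))]
        _ = a * D.phi D.rinv := by rw [h1]
  by_cases hs00 : s₀ = 0
  · exact ⟨y₁, by rw [hsum, hs00, add_zero]; exact hy₁⟩
  obtain ⟨w, hw⟩ := ih _ (hr ▸ hlt) hs₀ hs00 rfl
  -- the two pairs are orthogonal
  have hys : y₁ * s₀ = 0 := mul_eq_zero_of_range_le (by
    refine le_trans ?_ hya.2.2
    rintro _ ⟨m, rfl⟩; exact LinearMap.congr_fun has m)
  have hsy : s₀ * y₁ = 0 := mul_eq_zero_of_range_le (hya.2.1.trans (by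
    rintro _ ⟨m, rfl⟩; exact LinearMap.congr_fun hsa m))
  obtain ⟨g, hgG, hg⟩ := exists_hEl hm1.1 hy₁ hl0
  have hgs : eConj g s₀ = s₀ := by
    rw [eConj, hg]
    have e : hEl s₁ y₁ l * s₀ = s₀ * hEl s₁ y₁ l := by
      simp only [hEl, add_mul, mul_add, smul_mul_assoc, mul_smul_comm, one_mul, mul_one]
      rw [mul_assoc s₁, hys, mul_zero, mul_assoc y₁, h10, mul_zero, ← mul_assoc s₀ s₁, h01, zero_mul,
        ← mul_assoc s₀ y₁, hsy, zero_mul]
    rw [e, ← hg, mul_assoc, Units.mul_inv, mul_one]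
  have hgN : g ∈ Subgroup.normalizer (G : Set GLM) := Subgroup.le_normalizer hgG
  obtain ⟨y₀, hy₀, -, hfix⟩ := exists_fixed_partner (p := p) hs₀ hl0 hl1 hl2 ∅ (fun t ht => ht.elim) hw
    (fun t ht => ht.elim) hqp (isPGroup_zpowers_hEl hy₁ hlq hg) (by
      intro u hu
      obtain ⟨i, rfl⟩ := Subgroup.mem_zpowers_iff.1 hu
      refine ⟨⟨?_, ?_⟩, fun t ht => ht.elim⟩
      · rw [show (((g, (1 : kˣ)) : TwG) ^ i).1 = g ^ i from rfl]
        exact Subgroup.zpow_mem _ hgN i
      · rw [show (((g, (1 : kˣ)) : TwG) ^ i).1 = g ^ i from rfl,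
          show ((((g, (1 : kˣ)) : TwG) ^ i).2 : k) = (((1 : kˣ) ^ i : kˣ) : k) from rfl, one_zpow,
          Units.val_one, one_smul]
        let K : Subgroup GLM :=
          { carrier := {u | eConj u s₀ = s₀}
            one_mem' := eConj_one _
            mul_mem' := fun {u v} (hu : eConj u s₀ = s₀) (hv : eConj v s₀ = s₀) => by
              show eConj (u * v) s₀ = s₀; rw [← eConj_comp, hv, hu]
            inv_mem' := fun {u} (hu : eConj u s₀ = s₀) => by
              show eConj u⁻¹ s₀ = s₀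
              conv_lhs => rw [← hu]
              rw [eConj_comp, inv_mul_cancel, eConj_one] }
        exact (Subgroup.zpow_mem K (show g ∈ K from hgs) i : g ^ i ∈ K))
  have hgy : (g : EndM) * y₀ = y₀ * (g : EndM) := by
    have h1 := hfix _ (Subgroup.mem_zpowers _)
    rw [twPerm_apply, Units.val_one, one_smul] at h1
    have := congrArg (· * (g : EndM)) h1
    simpa [eConj, mul_assoc] using this
  obtain ⟨gi, -, hgi⟩ := exists_hEl hm1.1 hy₁ (inv_ne_zero hl0)
  have hgiy : hEl s₁ y₁ l⁻¹ * y₀ = y₀ * hEl s₁ y₁ l⁻¹ := by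
    have e : ((g⁻¹ : GLM) : EndM) = hEl s₁ y₁ l⁻¹ := by
      refine Units.inv_eq_of_mul_eq_one_right ?_
      rw [hg, hEl_mul hy₁, mul_inv_cancel₀ hl0, hEl_one]
    rw [← e]
    have : Commute (g : EndM) y₀ := hgy
    exact this.units_inv_left.eq
  rw [hg] at hgy
  simp only [hEl, add_mul, mul_add, smul_mul_assoc, mul_smul_comm, one_mul, mul_one, inv_inv] at hgy hgiy
  obtain ⟨cA, cB⟩ := sep_zero' (u := s₁ * y₁ * y₀ - y₀ * (s₁ * y₁)) (w := y₁ * s₁ * y₀ - y₀ * (y₁ * s₁))
    hl0 hl1 hl2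
    (by rw [← sub_eq_zero.2 hgy]; module) (by rw [← sub_eq_zero.2 hgiy]; module)
  rw [sub_eq_zero] at cA cB
  have a0 : s₁ * y₁ * y₀ = 0 := by
    rw [← hy₀.ysy, ← mul_assoc, ← mul_assoc, cA, mul_assoc y₀ (s₁ * y₁) s₀, mul_assoc s₁ y₁ s₀, hys,
      mul_zero, mul_zero, zero_mul]
  have b0 : y₁ * s₁ * y₀ = 0 := by
    rw [← hy₀.ysy, ← mul_assoc, ← mul_assoc, cB, mul_assoc y₀ (y₁ * s₁) s₀, mul_assoc y₁ s₁ s₀, h10,
      mul_zero, mul_zero, zero_mul]
  have a0' : y₀ * (s₁ * y₁) = 0 := cA ▸ a0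
  have b0' : y₀ * (y₁ * s₁) = 0 := cB ▸ b0
  have f1 : y₀ * s₁ = 0 := by rw [← hy₁.sys, ← mul_assoc, a0', zero_mul]
  have f2 : s₁ * y₀ = 0 := by rw [← hy₁.sys, mul_assoc, mul_assoc s₁ y₁, ← mul_assoc y₁, b0, mul_zero]
  have f3 : y₀ * y₁ = 0 := by rw [← hy₁.ysy, ← mul_assoc, b0', zero_mul]
  have f4 : y₁ * y₀ = 0 := by rw [← hy₁.ysy, mul_assoc, mul_assoc y₁ s₁, ← mul_assoc s₁, a0, mul_zero]
  refine ⟨y₁ + y₀, hs.1, qfam_add hy₁.fam hy₀.fam f4 f3, ?_, ?_⟩
  · rw [hsum]
    simp only [add_mul, mul_add, hy₁.sys, hy₀.sys, f1, f2, h10, h01, hys, hsy, zero_mul, mul_zero,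
      add_zero, zero_add, mul_assoc]
  · rw [hsum]
    simp only [add_mul, mul_add, hy₁.ysy, hy₀.ysy, f1, f2, f3, f4, hys, hsy, zero_mul, mul_zero,
      add_zero, zero_add, mul_assoc]

end CfsgLib.Flavell
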