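import Mathlib
import Cfsg.Agent.Lib.Flavell.Twist
import Cfsg.Agent.Lib.Flavell.InvCap

/-!
A fixed opposite pair excludes invariant quadratic elements annihilated by one of its members.
-/

set_option autoImplicit false
set_option linter.unusedSectionVars false
set_option linter.unusedSimpArgs false
set_option linter.style.haveILetI false

namespace CfsgLib.Flavell

open Cfsg CfsgLib.ThreeTransp

universe u

variable {p : ℕ} [Fact p.Prime] {V : Type u} [AddCommGroup V] [Module (ZMod p) V]
  [FiniteDimensional (ZMod p) V] {G R : Subgroup (LinearMap.GeneralLinearGroup (ZMod p) V)}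

local notation "GLM" => LinearMap.GeneralLinearGroup (ZMod p) V
local notation "EndM" => Module.End (ZMod p) V

variable {s x y e f : Module.End (ZMod p) V} {l : ZMod p}

theorem finite_GLM : Finite (LinearMap.GeneralLinearGroup (ZMod p) V) := by
  haveI : Finite V := Module.finite_of_finite (ZMod p)
  haveI : Finite (Module.End (ZMod p) V) := Finite.of_injective (fun f => (f : V → V)) DFunLike.coe_injective
  exact Finite.of_injective (fun g : LinearMap.GeneralLinearGroup (ZMod p) V => (g : Module.End (ZMod p) V))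
    Units.val_injective

theorem qel_pow (hs : s * s = 0) : ∀ n : ℕ, qel s ^ n = qel ((n : ZMod p) • s)
  | 0 => by rw [pow_zero, Nat.cast_zero, zero_smul, qel_zero]
  | n + 1 => by
    rw [pow_succ, qel_pow hs n,
      qel_mul (smul_sq_zero hs _) hs (by rw [smul_mul_assoc, hs, smul_zero])
        (by rw [mul_smul_comm, hs, smul_zero]),
      Nat.cast_succ, add_smul, one_smul]

theorem smul_mem_of_qel {W : Subgroup GLM} (hs : s * s = 0) (h : qel s ∈ W) (c : ZMod p) :
    qel (c • s) ∈ W := by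
  haveI : NeZero p := ⟨(Fact.out : p.Prime).ne_zero⟩
  rw [← ZMod.natCast_zmod_val c, ← qel_pow hs]
  exact pow_mem h _

theorem qfam_of_mem (hs : s * s = 0) (h : qel s ∈ G) : QFam G s := ⟨hs, smul_mem_of_qel hs h⟩

theorem add_mem_of_qel {W : Subgroup GLM} (hx : x * x = 0) (hy : y * y = 0) (hxy : x * y = 0)
    (hyx : y * x = 0) (h1 : qel x ∈ W) (h2 : qel y ∈ W) : qel (x + y) ∈ W := by
  rw [← qel_mul hx hy hxy hyx]; exact mul_mem h1 h2

/-- Two quadratic elements in a common `p`-group give a nilpotent anticommutator. -/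
theorem nilpotent_of_pgroup {W : Subgroup GLM} (hW : IsPGroup p W) (hx : x * x = 0) (hs : s * s = 0)
    (h1 : qel x ∈ W) (h2 : qel s ∈ W) : IsNilpotent (x * s + s * x) := by
  set g : GLM := qel x * qel s with hg
  obtain ⟨n, hn⟩ := hW ⟨g, mul_mem h1 h2⟩
  have hn' : g ^ p ^ n = 1 := congrArg Subtype.val hn
  have hval : ((g : GLM) : EndM) ^ p ^ n = 1 := by rw [← Units.val_pow_eq_pow_val, hn', Units.val_one]
  set d : EndM := (g : EndM) - 1 with hd
  obtain ⟨r, hr⟩ := (Commute.one_left d).exists_add_pow_prime_pow_eq (Fact.out : p.Prime) n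
  have hp0 : ((p : ℕ) : EndM) = 0 := by
    rw [← map_natCast (algebraMap (ZMod p) EndM), CharP.cast_eq_zero, map_zero]
  have hdn : d ^ p ^ n = 0 := by
    rw [show 1 + d = (g : EndM) by rw [hd, add_sub_cancel], hval, one_pow, hp0] at hr
    simp only [zero_mul, add_zero] at hr
    exact left_eq_add.1 hr
  have hginv : ((g⁻¹ : GLM) : EndM) = (1 - s) * (1 - x) := by
    rw [hg, mul_inv_rev, Units.val_mul, qel_inv hs, qel_inv hx, qel_val (by rw [neg_mul_neg, hs]),
      qel_val (by rw [neg_mul_neg, hx])]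
    simp [sub_eq_add_neg]
  have hgv : (g : EndM) = (1 + x) * (1 + s) := by rw [hg, Units.val_mul, qel_val hx, qel_val hs]
  have hc : Commute d ((g⁻¹ : GLM) : EndM) :=
    (show Commute (g : EndM) ((g⁻¹ : GLM) : EndM) from (Commute.refl (g : EndM)).units_inv_right).sub_left
      (Commute.one_left _)
  have e : x * s + s * x = d * (d * ((g⁻¹ : GLM) : EndM)) := by
    have h3 : d * (d * ((g⁻¹ : GLM) : EndM)) = (g : EndM) + ((g⁻¹ : GLM) : EndM) - (1 + 1) := by
      rw [hd]
      simp only [sub_mul, mul_sub, one_mul, mul_one, Units.mul_inv]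
      abel
    rw [h3, hgv, hginv]
    noncomm_ring
  rw [e]
  exact ⟨p ^ n, by rw [((Commute.refl d).mul_right hc).mul_pow, hdn, zero_mul]⟩

/-- A family and a partner never lie in a common `p`-group. -/
theorem IsPartner.not_pgroup (h : IsPartner G s y) (hs0 : s ≠ 0) {W : Subgroup GLM} (hW : IsPGroup p W)
    (h1 : qel s ∈ W) (h2 : qel y ∈ W) : False := by
  obtain ⟨n, hn⟩ := nilpotent_of_pgroup hW h.ss h.yy h1 h2
  obtain ⟨r1, r2, r3, r4, r5, r6⟩ := h.rules
  have hidem : (s * y + y * s) * (s * y + y * s) = s * y + y * s := by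
    simp only [add_mul, mul_add, mul_assoc, r1, r2, r3, r4, mul_zero, add_zero, zero_add]
  have hz : s * y + y * s = 0 := by
    cases n with
    | zero => rw [pow_zero] at hn; calc s * y + y * s = (s * y + y * s) * 1 := (mul_one _).symm
                                    _ = 0 := by rw [hn, mul_zero]
    | succ n => rw [← hn, IsIdempotentElem.pow_succ_eq _ hidem]
  refine hs0 ?_
  have := congrArg (· * s) hz
  simpa only [add_mul, mul_assoc, r5, h.ss, mul_zero, add_zero, zero_mul] using this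

theorem commute_hEl (h1 : s * e = e * s) (h2 : s * f = f * s) (l : ZMod p) :
    s * hEl e f l = hEl e f l * s := by
  simp only [hEl, mul_add, add_mul, mul_one, one_mul, mul_smul_comm, smul_mul_assoc]
  rw [← mul_assoc s e, h1, mul_assoc e s, h2, ← mul_assoc e, ← mul_assoc s f, h2, mul_assoc f s, h1,
    ← mul_assoc f]

theorem qel_commute_of (hx : x * x = 0) {g : GLM} (h : x * (g : EndM) = (g : EndM) * x) :
    g * qel x = qel x * g := by
  refine Units.ext ?_
  rw [Units.val_mul, Units.val_mul, qel_val hx, mul_add, add_mul, mul_one, one_mul, h]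

theorem eConj_of_commute {g : GLM} (h : x * (g : EndM) = (g : EndM) * x) : eConj g x = x := by
  rw [eConj, ← h, mul_assoc, Units.mul_inv, mul_one]

/-- No invariant quadratic element is annihilated on both sides by a member of a fixed pair. -/
theorem false_of_annihilated [Finite GLM] (hp : 3 < p) 
    (hn : R ≤ Subgroup.normalizer (G : Set GLM))
    {q n : ℕ} [Fact q.Prime] (hqp : q ≠ p) (hl0 : l ≠ 0) (hl1 : l ≠ 1) (hl2 : l * l ≠ 1)
    (hlq : l ^ q ^ n = 1)
    (hJM : ∀ z, QFam G z → z ≠ 0 → ∃ w, IsPartner G z w)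
    (he : QMin G e) (hf : QMin G f) (hl : Linked e f) (hef : IsPartner G e f)
    (hfixe : ∀ g ∈ R, eConj g e = e) (hfixf : ∀ g ∈ R, eConj g f = f)
    (hA : ∀ h ∈ G, (∀ g ∈ R, g * h = h * g) → IsPGroup q (Subgroup.zpowers h) →
      (∃ g ∈ G, g * h ≠ h * g) → ∀ z, z * z = 0 → qel z ∈ invCap p G R → h * qel z = qel z * h → z = 0)
    (hx : x * x = 0) (hxP : qel x ∈ invCap p G R) (hx0 : x ≠ 0) (hex : e * x = 0) (hxe : x * e = 0) :
    False := by
  haveI : NeZero p := ⟨(Fact.out : p.Prime).ne_zero⟩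
  have h2 : (2 : ZMod p) ≠ 0 := by
    rw [show (2 : ZMod p) = ((2 : ℕ) : ZMod p) by norm_num, Ne, ZMod.natCast_eq_zero_iff]
    intro h; have := Nat.le_of_dvd two_pos h; omega
  have h3 : Nat.card (ZMod p) ≠ 3 := by rw [Nat.card_zmod]; omega
  have hm1 : (-1 : ZMod p) ≠ 0 := neg_ne_zero.2 one_ne_zero
  obtain ⟨h, hhG, hh⟩ := exists_hEl he.1 hef hl0
  obtain ⟨j, hjG, hj⟩ := exists_hEl he.1 hef hm1
  have hfixH : ∀ {c : ZMod p} {u : GLM}, (u : EndM) = hEl e f c → ∀ g ∈ R, g * u = u * g := by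
    intro c u hu g hg
    have h1 : (g : EndM) * e = e * g := by
      have := congrArg (· * (g : EndM)) (hfixe g hg)
      simpa [eConj, mul_assoc] using this
    have h1' : (g : EndM) * f = f * g := by
      have := congrArg (· * (g : EndM)) (hfixf g hg)
      simpa [eConj, mul_assoc] using this
    refine Units.ext ?_
    rw [Units.val_mul, Units.val_mul, hu]
    exact commute_hEl h1 h1' c
  have hNR : ∀ {c : ZMod p} {u : GLM}, (u : EndM) = hEl e f c → u ∈ Subgroup.normalizer (R : Set GLM) := by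
    intro c u hu
    rw [Subgroup.mem_normalizer_iff]
    intro g
    constructor
    · intro hg
      rw [← hfixH hu g hg, mul_inv_cancel_right]; exact hg
    · intro hg
      have e1 := hfixH hu _ hg
      have : g = u * g * u⁻¹ := by
        calc g = u⁻¹ * ((u * g * u⁻¹) * u) := by group
          _ = u⁻¹ * (u * (u * g * u⁻¹)) := by rw [e1]
          _ = u * g * u⁻¹ := by group
      rw [this]; exact hg
  have hconjP : ∀ {c : ZMod p} {u : GLM}, u ∈ G → (u : EndM) = hEl e f c →
      ∀ z, z * z = 0 → qel z ∈ invCap p G R → qel (eConj u z) ∈ invCap p G R := by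
    intro c u huG hu z hz hzP
    rw [← qel_conj hz]
    exact conj_mem_invCap (Subgroup.le_normalizer huG) (hNR hu) hzP
  obtain ⟨E1, E2, E3, E4, E5, E6⟩ := hef.rules
  have ex' : ∀ w : EndM, e * (x * w) = 0 := fun w => by rw [← mul_assoc, hex, zero_mul]
  have xe' : ∀ w : EndM, x * (e * w) = 0 := fun w => by rw [← mul_assoc, hxe, zero_mul]
  have xx' : ∀ w : EndM, x * (x * w) = 0 := fun w => by rw [← mul_assoc, hx, zero_mul]
  obtain ⟨pA, hpA⟩ : ∃ t : EndM, t = e * f := ⟨_, rfl⟩
  obtain ⟨pB, hpB⟩ : ∃ t : EndM, t = f * e := ⟨_, rfl⟩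
  obtain ⟨pC, hpC⟩ : ∃ t : EndM, t = 1 - pA - pB := ⟨_, rfl⟩
  obtain ⟨x0, hx0d⟩ : ∃ t : EndM, t = pC * x * pC := ⟨_, rfl⟩
  obtain ⟨x1, hx1d⟩ : ∃ t : EndM, t = pA * x * pC + pC * x * pB := ⟨_, rfl⟩
  obtain ⟨x2, hx2d⟩ : ∃ t : EndM, t = pA * x * pB := ⟨_, rfl⟩
  have hsum : x = x0 + x1 + x2 := by
    simp only [hx0d, hx1d, hx2d, hpA, hpB, hpC, sub_mul, mul_sub, mul_assoc, one_mul, mul_one, hex, hxe,
      ex', xe', mul_zero, sub_zero]
    abel
  have hpc : ∀ c : ZMod p, hEl e f c = pC + c • pA + c⁻¹ • pB := by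
    intro c; simp only [hEl, hpC, hpA, hpB, sub_smul, one_smul]; abel
  have xcAB : ∀ {c : ZMod p}, c ≠ 0 → hEl e f c * x * hEl e f c⁻¹ = x0 + c • x1 + (c * c) • x2 := by
    intro c hc
    rw [hpc, hpc, inv_inv]
    have b1 : pB * x = 0 := by rw [hpB, mul_assoc, hex, mul_zero]
    have b2 : x * pA = 0 := by rw [hpA, ← mul_assoc, hxe, zero_mul]
    simp only [add_mul, mul_add, smul_mul_assoc, mul_smul_comm, smul_smul, hx0d, hx1d, hx2d, smul_add,
      b1, zero_mul, smul_zero, add_zero, mul_assoc, b2, mul_zero, zero_add]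
    simp only [← mul_assoc]
    abel
  have hconj : ∀ {c : ZMod p} {u : GLM}, c ≠ 0 → (u : EndM) = hEl e f c →
      ∀ z, eConj u z = hEl e f c * z * hEl e f c⁻¹ := by
    intro c u hc hu z
    have : ((u⁻¹ : GLM) : EndM) = hEl e f c⁻¹ := by
      refine Units.inv_eq_of_mul_eq_one_right ?_
      rw [hu, hEl_mul hef, mul_inv_cancel₀ hc, hEl_one]
    rw [eConj, hu, this]
  -- all elements of the span multiply to zero
  have hprod : ∀ a b : EndM, a ∈ ({x0, x1, x2} : Set EndM) → b ∈ ({x0, x1, x2} : Set EndM) → a * b = 0 := by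
    intro a b ha hb
    rcases ha with rfl | rfl | rfl <;> rcases hb with rfl | rfl | rfl <;>
      simp only [hx0d, hx1d, hx2d, hpA, hpB, hpC, add_mul, mul_add, sub_mul, one_mul, mul_one, mul_sub,
        mul_assoc, E1, E2, E3, E4, E5, E6, ex', xe', xx', hx, hef.ss, hef.yy, hex, hxe, mul_zero, sub_zero,
        sub_self, add_zero]
  have hlin : ∀ a b c a' b' c' : ZMod p,
      (a • x0 + b • x1 + c • x2) * (a' • x0 + b' • x1 + c' • x2) = 0 := by
    intro a b c a' b' c'
    simp only [add_mul, mul_add, smul_mul_smul_comm,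
      hprod x0 x0 (by simp) (by simp), hprod x0 x1 (by simp) (by simp), hprod x0 x2 (by simp) (by simp),
      hprod x1 x0 (by simp) (by simp), hprod x1 x1 (by simp) (by simp), hprod x1 x2 (by simp) (by simp),
      hprod x2 x0 (by simp) (by simp), hprod x2 x1 (by simp) (by simp), hprod x2 x2 (by simp) (by simp),
      smul_zero, add_zero]
  let L : ZMod p → ZMod p → ZMod p → EndM := fun a b c => a • x0 + b • x1 + c • x2
  have hLx : x = L 1 1 1 := by simpa [L] using hsum
  have hLadd : ∀ a b c a' b' c', qel (L a b c) ∈ invCap p G R → qel (L a' b' c') ∈ invCap p G R →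
      qel (L (a + a') (b + b') (c + c')) ∈ invCap p G R := by
    intro a b c a' b' c' m1 m2
    have e1 : L (a + a') (b + b') (c + c') = L a b c + L a' b' c' := by
      simp only [L, add_smul]; abel
    rw [e1]
    exact add_mem_of_qel (hlin _ _ _ _ _ _) (hlin _ _ _ _ _ _) (hlin _ _ _ _ _ _) (hlin _ _ _ _ _ _) m1 m2
  have hLsmul : ∀ d a b c, qel (L a b c) ∈ invCap p G R → qel (L (d * a) (d * b) (d * c)) ∈ invCap p G R := by
    intro d a b c m
    have e1 : L (d * a) (d * b) (d * c) = d • L a b c := by simp only [L, smul_add, smul_smul]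
    rw [e1]; exact smul_mem_of_qel (hlin _ _ _ _ _ _) m d
  have hLconj : ∀ {d : ZMod p} {u : GLM}, u ∈ G → d ≠ 0 → (u : EndM) = hEl e f d →
      qel (L 1 d (d * d)) ∈ invCap p G R := by
    intro d u huG hd hu
    have h4 := hconjP huG hu x hx hxP
    rw [hconj hd hu, xcAB hd] at h4
    simpa [L] using h4
  have mx : qel (L 1 1 1) ∈ invCap p G R := hLx ▸ hxP
  have mj := hLconj hjG hm1 hj
  have mh := hLconj hhG hl0 hh
  have m1 : qel x1 ∈ invCap p G R := by
    have := hLsmul 2⁻¹ _ _ _ (hLadd _ _ _ _ _ _ mx (hLsmul (-1) _ _ _ mj))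
    simpa [L, inv_mul_cancel₀ h2, one_add_one_eq_two] using this
  have m02 : qel (L 1 0 1) ∈ invCap p G R := by
    have := hLadd _ _ _ _ _ _ mx (hLsmul (-1) _ _ _ (by simpa [L] using m1 : qel (L 0 1 0) ∈ invCap p G R))
    simpa using this
  have m2 : qel x2 ∈ invCap p G R := by
    have k1 : qel (L 1 0 (l * l)) ∈ invCap p G R := by
      have := hLadd _ _ _ _ _ _ mh (hLsmul (-l) _ _ _ (by simpa [L] using m1 : qel (L 0 1 0) ∈ invCap p G R))
      simpa using this
    have := hLsmul (l * l - 1)⁻¹ _ _ _ (hLadd _ _ _ _ _ _ k1 (hLsmul (-1) _ _ _ m02))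
    simpa [L, ← sub_eq_add_neg, inv_mul_cancel₀ (sub_ne_zero.2 hl2)] using this
  have hR1 : ∀ g ∈ R, TwStab G f ((g, (1 : (ZMod p)ˣ))) := fun g hg =>
    ⟨hn hg, by rw [Units.val_one, one_smul]; exact hfixf g hg⟩
  have hUR : IsInvP p G R (flagGrp f hf.sq ⊓ G) := by
    refine ⟨inf_le_right, (isPGroup_flagGrp (p := p) hf.sq).to_le inf_le_left, ?_⟩
    have key : ∀ g ∈ R, conjBy (flagGrp f hf.sq ⊓ G) g ≤ flagGrp f hf.sq ⊓ G := by
      rintro g hg _ ⟨v, hv, rfl⟩
      exact ⟨flag_conjTw (t := (g, (1 : (ZMod p)ˣ))) hf.sq (hR1 g hg).2 hv.1,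
        (Subgroup.mem_normalizer_iff.1 (hn hg) v).1 hv.2⟩
    intro g hg
    refine conjBy_eq_self_iff.1 (le_antisymm (key g hg) ?_)
    conv_lhs => rw [← conjBy_conjBy_inv (flagGrp f hf.sq ⊓ G) g]
    exact conjBy_mono g (key _ (inv_mem hg))
  have sq1 : x1 * x1 = 0 := hprod _ _ (by simp) (by simp)
  have sq2 : x2 * x2 = 0 := hprod _ _ (by simp) (by simp)
  by_cases hx1 : x1 = 0
  · by_cases hx2 : x2 = 0
    · -- weight zero
      have hxx0 : x = pC * x * pC := by rw [← hx0d]; simpa [hx1, hx2] using hsum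
      have hcomm : x * (h : EndM) = (h : EndM) * x := by
        rw [hh, hpc, hxx0]
        simp only [mul_add, add_mul, mul_smul_comm, smul_mul_assoc, mul_assoc, hpA, hpB, hpC, sub_mul,
          mul_sub, one_mul, mul_one, E1, E2, E3, E4, E5, E6, hef.ss, hef.yy, ex', xe', hex, hxe, mul_zero,
          sub_zero, sub_self, smul_zero, add_zero]
        abel
      refine hx0 (hA h hhG (hfixH hh) ?_ ⟨qel e, he.1.mem, fun hc => ?_⟩ x hx hxP
        (qel_commute_of hx hcomm))
      · have h1 := isPGroup_zpowers_hEl hef hlq hh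
        have h4 := h1.map (MonoidHom.fst GLM (ZMod p)ˣ)
        rwa [MonoidHom.map_zpowers] at h4
      · have h4 : e * (h : EndM) = (h : EndM) * e := by
          have := congrArg (fun u : GLM => (u : EndM)) hc
          simp only [Units.val_mul, qel_val he.sq, add_mul, mul_add, one_mul, mul_one] at this
          exact add_left_cancel this
        rw [hh, self_mul_hEl hef, hEl_mul_self hef] at h4
        have := sub_eq_zero.2 h4
        rw [← sub_smul, smul_eq_zero] at this
        refine hl2 ?_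
        rcases this with h5 | h5
        · rw [sub_eq_zero] at h5; nth_rewrite 2 [← h5]; exact mul_inv_cancel₀ hl0
        · exact absurd h5 he.2.1
    · -- weight two: the root subgroup of `e`
      have hq2 : QFam G x2 := qfam_of_mem sq2 (invCap_le m2)
      have hmem : x2 ∈ eSpace G e he.sq := by
        refine ⟨hq2, ?_, ?_⟩
        · rw [hx2d, hpA, mul_assoc, mul_assoc]; exact LinearMap.range_comp_le_range _ _
        · intro m hm
          rw [LinearMap.mem_ker, hx2d, hpB]
          simp [LinearMap.mem_ker.1 hm]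
      obtain ⟨hxm, hxr, hxk⟩ := eSpace_data he hmem hx2
      refine linked_sandwich_ne_zero hf ((linked_congr rfl rfl hxr hxk).2 hl.symm)
        (sandwich_zero h2 h3 hq2 hf (nilpotent_of_pgroup (isPGroup_sup_of_mem hUR m2) hf.sq sq2 ?_ ?_))
      · refine Subgroup.mem_sup_left ⟨mem_flagGrp.2 ⟨?_, fun m hm => ?_, ?_⟩, hf.1.mem⟩
        · rw [udif_qel hf.sq]; exact hf.sq
        · rw [udif_qel hf.sq, hm]; exact zero_mem _
        · rw [udif_qel hf.sq]; exact hf.sq
      · exact Subgroup.mem_sup_right (Subgroup.mem_zpowers _)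
  · -- weight one
    have hq1 : QFam G x1 := qfam_of_mem sq1 (invCap_le m1)
    obtain ⟨y₀, hy₀⟩ := hJM x1 hq1 hx1
    have hw : ∀ {c : ZMod p} {u : GLM}, c ≠ 0 → (u : EndM) = hEl e f c → eConj u x1 = c • x1 := by
      intro c u hc hu
      rw [hconj hc hu, hpc, hpc, inv_inv, hx1d]
      simp only [add_mul, mul_add, smul_mul_assoc, mul_smul_comm, mul_assoc, hpA, hpB, hpC, sub_mul,
        mul_sub, one_mul, mul_one, E1, E2, E3, E4, E5, E6, hef.ss, hef.yy, ex', xe', hex, hxe, mul_zero,
        sub_zero, sub_self, smul_zero, add_zero, zero_add, smul_smul, smul_add, smul_sub]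
      module
    set jt : GLM × (ZMod p)ˣ := (j, Units.mk0 _ hm1) with hjt
    set ht : GLM × (ZMod p)ˣ := (h, Units.mk0 _ hl0) with hht
    have sj : TwStab G x1 jt := ⟨Subgroup.le_normalizer hjG, hw hm1 hj⟩
    have sh : TwStab G x1 ht := ⟨Subgroup.le_normalizer hhG, hw hl0 hh⟩
    have hstab : ∀ {t : GLM × (ZMod p)ˣ}, TwStab G x1 t → ∀ g ∈ Subgroup.zpowers t, TwStab G x1 g := by
      intro t ht
      let K : Subgroup (GLM × (ZMod p)ˣ) :=
        { carrier := {g | TwStab G x1 g}
          one_mem' := ⟨one_mem _, by simp [eConj_one]⟩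
          mul_mem' := fun {a b} (ha : TwStab G x1 a) (hb : TwStab G x1 b) => ⟨mul_mem ha.1 hb.1, by
            rw [Prod.fst_mul, ← eConj_comp, hb.2, eConj_smul, ha.2, smul_smul, Prod.snd_mul, Units.val_mul,
              mul_comm]⟩
          inv_mem' := fun {a} (ha : TwStab G x1 a) => ⟨inv_mem ha.1, by
            have := congrArg (eConj (a.1)⁻¹) ha.2
            rw [eConj_comp, inv_mul_cancel, eConj_one, eConj_smul] at this
            rw [Prod.fst_inv, Prod.snd_inv]
            nth_rewrite 2 [this]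
            rw [smul_smul, Units.inv_mul, one_smul]⟩ }
      exact fun g hg => Subgroup.zpowers_le.2 (show t ∈ K from ht) hg
    have hord : ∀ {c : ZMod p} {u : GLM} {m i : ℕ} [Fact m.Prime] (hc : c ≠ 0), (u : EndM) = hEl e f c →
        c ^ m ^ i = 1 → IsPGroup m (Subgroup.zpowers ((u, Units.mk0 c hc) : GLM × (ZMod p)ˣ)) := by
      intro c u m i _ hc hu hci
      have h1 : ((u, Units.mk0 c hc) : GLM × (ZMod p)ˣ) ^ m ^ i = 1 := by
        rw [Prod.pow_mk]
        refine Prod.ext ?_ (Units.ext (by simpa using hci))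
        have hpow : ∀ i : ℕ, ((u ^ i : GLM) : EndM) = hEl e f (c ^ i) := by
          intro i
          induction i with
          | zero => rw [pow_zero, pow_zero, Units.val_one, hEl_one]
          | succ i ih => rw [pow_succ, Units.val_mul, ih, hu, hEl_mul hef, pow_succ]
        exact Units.ext (by simp only [hpow, hci, hEl_one, Prod.fst_one, Units.val_one])
      rintro ⟨z, hz⟩
      obtain ⟨a, rfl⟩ := Subgroup.mem_zpowers_iff.1 hz
      refine ⟨i, Subtype.ext ?_⟩
      show (((u, Units.mk0 c hc) : GLM × (ZMod p)ˣ) ^ a) ^ m ^ i = 1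
      rw [← zpow_natCast, ← zpow_mul, mul_comm, zpow_mul, zpow_natCast, h1, one_zpow]
    haveI : Fact (Nat.Prime 2) := ⟨Nat.prime_two⟩
    obtain ⟨y₁, hy₁, -, hy₁j⟩ := exists_fixed_partner (p := p) hq1 hl0 hl1 hl2 ∅ (fun t ht => ht.elim) hy₀
      (fun t ht => ht.elim) (show (2 : ℕ) ≠ p by omega) (hord (m := 2) (i := 1) hm1 hj (by ring))
      (fun g hg => ⟨hstab sj g hg, fun t ht => ht.elim⟩)
    have hcom : ht * jt = jt * ht := by
      refine Prod.ext (Units.ext ?_) (mul_comm _ _)
      show ((h * j : GLM) : EndM) = ((j * h : GLM) : EndM)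
      rw [Units.val_mul, Units.val_mul, hh, hj, hEl_mul hef, hEl_mul hef, mul_comm]
    obtain ⟨z, hz, hzj, hzh⟩ := exists_fixed_partner (p := p) hq1 hl0 hl1 hl2 {jt}
      (fun t ht => by rw [Set.mem_singleton_iff.1 ht]; exact sj) hy₁
      (fun t ht => by rw [Set.mem_singleton_iff.1 ht]; exact hy₁j _ (Subgroup.mem_zpowers _)) hqp
      (hord (m := q) (i := n) hl0 hh hlq)
      (fun g hg => ⟨hstab sh g hg, fun t ht' => by
        rw [Set.mem_singleton_iff.1 ht']
        obtain ⟨a, rfl⟩ := Subgroup.mem_zpowers_iff.1 hg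
        exact (Commute.zpow_left hcom a).eq⟩)
    have rel : ∀ {c : ZMod p} {u : GLM} (hc : c ≠ 0), (u : EndM) = hEl e f c →
        twPerm ((u, Units.mk0 c hc)) z = z → c • (hEl e f c * z) = z * hEl e f c := by
      intro c u hc hu h1
      rw [twPerm_apply] at h1
      have h4 := congrArg (· * (u : EndM)) h1
      simp only [Units.val_mk0, eConj, smul_mul_assoc, mul_assoc, Units.inv_mul, mul_one] at h4
      rwa [hu] at h4
    have rj := rel hm1 hj (hzj jt rfl)
    have rh := rel hl0 hh (hzh ht (Subgroup.mem_zpowers _))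
    rw [hpc] at rj rh
    have oA : pA * pA = pA ∧ pB * pB = pB ∧ pC * pC = pC ∧ pA * pB = 0 ∧ pB * pA = 0 ∧ pA * pC = 0 ∧
        pC * pA = 0 ∧ pB * pC = 0 ∧ pC * pB = 0 := by
      simp only [hpA, hpB, hpC, sub_mul, mul_sub, mul_assoc, one_mul, mul_one, E1, E2, E3, E4, E5, E6,
        hef.ss, hef.yy, mul_zero, sub_zero, sub_self, and_self]
    obtain ⟨oAA, oBB, oCC, oAB, oBA, oAC, oCA, oBC, oCB⟩ := oA
    -- components
    have comp : ∀ (P Q : EndM) (a b : ZMod p) (c : ZMod p),
        P * (pC + c • pA + c⁻¹ • pB) = a • P → (pC + c • pA + c⁻¹ • pB) * Q = b • Q →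
        c • ((pC + c • pA + c⁻¹ • pB) * z) = z * (pC + c • pA + c⁻¹ • pB) → c * a ≠ b → P * z * Q = 0 := by
      intro P Q a b c hP hQ hr hne
      have h4 := congrArg (fun t => P * t * Q) hr
      simp only [mul_smul_comm, smul_mul_assoc] at h4
      rw [← mul_assoc P _ z, hP, smul_mul_assoc, smul_mul_assoc, smul_smul, ← mul_assoc P z,
        mul_assoc (P * z), hQ, mul_smul_comm] at h4
      have h5 := sub_eq_zero.2 h4
      rw [← sub_smul, smul_eq_zero] at h5
      exact h5.resolve_left (sub_ne_zero.2 hne)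
    have eA : ∀ c : ZMod p, pA * (pC + c • pA + c⁻¹ • pB) = c • pA ∧ (pC + c • pA + c⁻¹ • pB) * pA = c • pA := by
      intro c; simp only [mul_add, add_mul, mul_smul_comm, smul_mul_assoc, oAA, oAB, oBA, oAC, oCA,
        smul_zero, add_zero, zero_add, and_self]
    have eB : ∀ c : ZMod p, pB * (pC + c • pA + c⁻¹ • pB) = c⁻¹ • pB ∧ (pC + c • pA + c⁻¹ • pB) * pB = c⁻¹ • pB := by
      intro c; simp only [mul_add, add_mul, mul_smul_comm, smul_mul_assoc, oBB, oAB, oBA, oBC, oCB,
        smul_zero, add_zero, zero_add, and_self]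
    have eC : ∀ c : ZMod p, pC * (pC + c • pA + c⁻¹ • pB) = (1 : ZMod p) • pC ∧
        (pC + c • pA + c⁻¹ • pB) * pC = (1 : ZMod p) • pC := by
      intro c; simp only [mul_add, add_mul, mul_smul_comm, smul_mul_assoc, oCC, oCA, oCB, oAC, oBC,
        smul_zero, add_zero, one_smul, and_self]
    have hne : (-1 : ZMod p) ≠ 1 := fun h => h2 (by linear_combination -h)
    have zAA := comp _ _ _ _ _ (eA _).1 (eA _).2 rj (by simpa using hne.symm)
    have zAB := comp _ _ _ _ _ (eA _).1 (eB _).2 rj (by simpa using hne.symm)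
    have zBB := comp _ _ _ _ _ (eB _).1 (eB _).2 rj (by simpa using hne.symm)
    have zCC := comp _ _ _ _ _ (eC _).1 (eC _).2 rj (by simpa using hne)
    have zAC := comp _ _ _ _ _ (eA _).1 (eC _).2 rh hl2
    have zCB := comp _ _ _ _ _ (eC _).1 (eB _).2 rh (by
      rw [mul_one]; intro h4; exact hl2 (by nth_rewrite 2 [h4]; exact mul_inv_cancel₀ hl0))
    have hone : (1 : EndM) = pA + pC + pB := by rw [hpC]; abel
    have hfA : f = f * pA := by rw [hpA, E6]
    have hfB : f = pB * f := by rw [hpB, mul_assoc, E6]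
    have hfz : f * z = 0 := by
      rw [hfA, mul_assoc]
      have : pA * z = 0 := by
        calc pA * z = pA * z * (pA + pC + pB) := by rw [← hone, mul_one]
          _ = 0 := by rw [mul_add, mul_add, zAA, zAC, zAB, add_zero, add_zero]
      rw [this, mul_zero]
    have hzf : z * f = 0 := by
      rw [hfB, ← mul_assoc]
      have : z * pB = 0 := by
        calc z * pB = (pA + pC + pB) * z * pB := by rw [← hone, one_mul]
          _ = 0 := by rw [add_mul, add_mul, add_mul, add_mul, zAB, zCB, zBB, add_zero, add_zero]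
      rw [this, zero_mul]
    refine hz.not_pgroup hx1 (isPGroup_sup_of_mem hUR m1) (Subgroup.mem_sup_right (Subgroup.mem_zpowers _))
      (Subgroup.mem_sup_left ⟨mem_flagGrp.2 ⟨?_, fun m hm => ?_, ?_⟩, hz.fam.mem⟩)
    · rw [udif_qel hz.yy, hfz]
    · rw [udif_qel hz.yy]
      have hA0 : pA m = 0 := by rw [hpA, Module.End.mul_apply, hm, map_zero]
      have hm' : m = pB m + pC m := by
        have := LinearMap.congr_fun hone m
        rw [Module.End.one_apply, LinearMap.add_apply, LinearMap.add_apply, hA0, zero_add] at this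
        nth_rewrite 1 [this]; abel
      have hzB : z (pB m) = 0 := by
        have : z * pB = 0 := by
          calc z * pB = (pA + pC + pB) * z * pB := by rw [← hone, one_mul]
            _ = 0 := by rw [add_mul, add_mul, add_mul, add_mul, zAB, zCB, zBB, add_zero, add_zero]
        exact LinearMap.congr_fun this m
      have h4 : z * pC = pB * z * pC := by
        calc z * pC = (pA + pC + pB) * z * pC := by rw [← hone, one_mul]
          _ = pB * z * pC := by rw [add_mul, add_mul, add_mul, add_mul, zAC, zCC, zero_add, zero_add]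
      rw [hm', map_add, hzB, zero_add, ← Module.End.mul_apply, h4, hpB, mul_assoc, mul_assoc]
      exact ⟨_, rfl⟩
    · rw [udif_qel hz.yy, hzf]

end CfsgLib.Flavell
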