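import Mathlib
import Cfsg.Agent.Lib.Base.Cores
import Cfsg.Agent.Lib.Techniques.ChiefFactor
import Cfsg.Agent.Lib.ThreeTransp.QuadBasic

/-!
A chief factor inside a `p`-group as a faithful irreducible linear group.
-/

set_option autoImplicit false
set_option linter.style.haveILetI false
set_option linter.unusedSectionVars false

namespace CfsgLib.Flavell

open Cfsg Subgroup CfsgLib.ThreeTransp
open scoped commutatorElement

universe u

variable {M : Type u} [Group M] [Finite M] {p : ℕ} [Fact p.Prime]

/-- Automorphisms of an elementary abelian group as endomorphisms. -/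
noncomputable def autEnd {V : Type u} [CommGroup V] (p : ℕ) [Module (ZMod p) (Additive V)] :
    MulAut V →* Module.End (ZMod p) (Additive V) where
  toFun g := (MonoidHom.toAdditive g.toMonoidHom).toZModLinearMap p
  map_one' := LinearMap.ext fun _ => rfl
  map_mul' _ _ := LinearMap.ext fun _ => rfl

/-- An action on an elementary abelian group without invariant proper subgroups, linearised. -/
theorem exists_linear_rep {V : Type u} [CommGroup V] [Finite V] [Nontrivial V] (hexp : ∀ v : V, v ^ p = 1)
    (φ : M →* MulAut V)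
    (hirr : ∀ K : Subgroup M, K.Normal → ∀ v : V, v ≠ 1 → (∀ k ∈ K, φ k v = v) → ∀ k ∈ K, φ k = 1) :
    ∃ (W : Type u) (_ : AddCommGroup W) (_ : Module (ZMod p) W) (_ : FiniteDimensional (ZMod p) W)
      (ρ : M →* LinearMap.GeneralLinearGroup (ZMod p) W),
      (∀ g : M, ρ g = 1 → φ g = 1) ∧
      (∀ g : M, (∀ v, φ g (φ g v / v) = φ g v / v) → udif (ρ g) * udif (ρ g) = 0) ∧
      ∀ N : Subgroup (LinearMap.GeneralLinearGroup (ZMod p) W), N ≤ ρ.range → IsPGroup p N →
        ρ.range ≤ normalizer (N : Set (LinearMap.GeneralLinearGroup (ZMod p) W)) → N = ⊥ := by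
  classical
  have hn : ∀ v : Additive V, p • v = 0 := fun v => by
    apply Additive.toMul.injective
    rw [toMul_nsmul, toMul_zero]
    exact hexp v.toMul
  letI : Module (ZMod p) (Additive V) := @AddCommGroup.zmodModule p (Additive V) inferInstance hn
  haveI : Finite (Additive V) := inferInstanceAs (Finite V)
  haveI : FiniteDimensional (ZMod p) (Additive V) := Module.Finite.of_finite
  let ρ : M →* LinearMap.GeneralLinearGroup (ZMod p) (Additive V) := ((autEnd p).comp φ).toHomUnits
  have happ : ∀ (g : M) (v : Additive V),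
      ((ρ g : LinearMap.GeneralLinearGroup (ZMod p) (Additive V)) : Module.End (ZMod p) (Additive V)) v =
        Additive.ofMul (φ g v.toMul) := fun g v => rfl
  refine ⟨Additive V, inferInstance, inferInstance, inferInstance, ρ, fun g hg => ?_, fun g hg => ?_,
    fun N hNle hNp hNn => ?_⟩
  · ext v
    have h2 := happ g (Additive.ofMul v)
    rw [hg] at h2
    exact (congrArg Additive.toMul h2).symm
  · refine LinearMap.ext fun v => ?_
    rw [Module.End.mul_apply, udif, LinearMap.sub_apply, LinearMap.sub_apply, LinearMap.zero_apply]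
    simp only [Module.End.one_apply, happ]
    rw [sub_eq_zero]
    apply Additive.toMul.injective
    exact hg v.toMul
  · haveI hNc : (N.comap ρ).Normal := ⟨fun n hn g => by
      rw [mem_comap] at hn ⊢
      rw [map_mul, map_mul, map_inv]
      exact (mem_normalizer_iff.1 (hNn ⟨g, rfl⟩) _).1 hn⟩
    letI : MulAction N (Additive V) :=
      { smul := fun n v => ((n : LinearMap.GeneralLinearGroup (ZMod p) (Additive V)) :
          Module.End (ZMod p) (Additive V)) v
        one_smul := fun v => rfl
        mul_smul := fun n n' v => rfl }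
    obtain ⟨a, ha⟩ := exists_ne (1 : V)
    have hdvd : p ∣ Nat.card (Additive V) := by
      have hord : orderOf a = p := orderOf_eq_prime (hexp a) ha
      show p ∣ Nat.card V
      conv_lhs => rw [← hord]
      exact orderOf_dvd_natCard _
    obtain ⟨v, hv, hv0⟩ := hNp.exists_fixed_point_of_prime_dvd_card_of_fixed_point (Additive V) hdvd
      (a := (0 : Additive V)) (fun n => map_zero _)
    have hall := hirr (N.comap ρ) hNc v.toMul (fun e => hv0 (Additive.toMul.injective e).symm)
      fun k hk => by
        have h2 : ((ρ k : LinearMap.GeneralLinearGroup (ZMod p) (Additive V)) :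
            Module.End (ZMod p) (Additive V)) v = v := hv ⟨ρ k, hk⟩
        rw [happ] at h2
        exact congrArg Additive.toMul h2
    refine (Subgroup.eq_bot_iff_forall N).2 fun n hn => ?_
    obtain ⟨m, rfl⟩ := hNle hn
    refine Units.ext (LinearMap.ext fun w => ?_)
    rw [happ, hall m hn]
    rfl

/-- Conjugation on a chief factor: the linear group with its basic properties. -/
theorem exists_chiefRep {U V : Subgroup M} (h : IsChiefFactor U V) (hU : IsPGroup p U) :
    ∃ (W : Type u) (_ : AddCommGroup W) (_ : Module (ZMod p) W) (_ : FiniteDimensional (ZMod p) W)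
      (ρ : M →* LinearMap.GeneralLinearGroup (ZMod p) W),
      (∀ g : M, ρ g = 1 → ⁅U, zpowers g⁆ ≤ V) ∧
      (∀ g : M, ⁅⁅U, zpowers g⁆, zpowers g⁆ ≤ V → udif (ρ g) * udif (ρ g) = 0) ∧
      ∀ N : Subgroup (LinearMap.GeneralLinearGroup (ZMod p) W), N ≤ ρ.range → IsPGroup p N →
        ρ.range ≤ normalizer (N : Set (LinearMap.GeneralLinearGroup (ZMod p) W)) → N = ⊥ := by
  classical
  obtain ⟨hUU, hexp⟩ := CfsgLib.Techniques.chiefFactor_pGroup h hU
  obtain ⟨hlt, hUn, hVn, hmin⟩ := h
  haveI := hVn
  set π := QuotientGroup.mk' V with hπ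
  set Ub := U.map π with hUb
  haveI : Ub.Normal := hUn.map π (QuotientGroup.mk'_surjective V)
  haveI : Nontrivial Ub := by
    rw [Subgroup.nontrivial_iff_ne_bot, hUb, Ne, Subgroup.map_eq_bot_iff, hπ, QuotientGroup.ker_mk']
    exact hlt.not_ge
  have hcomm : ∀ a b : Ub, a * b = b * a := by
    rintro ⟨_, a, ha, rfl⟩ ⟨_, b, hb, rfl⟩
    refine Subtype.ext ?_
    show π a * π b = π b * π a
    rw [← commutatorElement_eq_one_iff_mul_comm, ← map_commutatorElement]
    exact (QuotientGroup.eq_one_iff _).2 (hUU (commutator_mem_commutator ha hb))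
  have hpow : ∀ a : Ub, a ^ p = 1 := by
    rintro ⟨_, a, ha, rfl⟩
    refine Subtype.ext ?_
    show (π a) ^ p = 1
    rw [← map_pow]
    exact (QuotientGroup.eq_one_iff _).2 (hexp a ha)
  letI : CommGroup Ub := { (inferInstance : Group Ub) with mul_comm := hcomm }
  let φ : M →* MulAut Ub := (MulAut.conjNormal (H := Ub)).comp π
  have happ : ∀ (g : M) (v : Ub), ((φ g v : Ub) : M ⧸ V) = π g * (v : M ⧸ V) * (π g)⁻¹ :=
    fun g v => MulAut.conjNormal_apply (π g) _
  obtain ⟨W, i1, i2, i3, ρ, h1, h2, h3⟩ := exists_linear_rep (p := p) hpow φ (by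
    intro K hK v hv hfix k hk
    haveI := hK
    set S := K.map π with hS
    haveI : S.Normal := hK.map π (QuotientGroup.mk'_surjective V)
    set F := Ub ⊓ centralizer (S : Set (M ⧸ V)) with hF
    have hvF : (v : M ⧸ V) ∈ F := by
      refine ⟨v.2, ?_⟩
      rintro _ ⟨m, hm, rfl⟩
      have h3 := happ m v
      rw [hfix m hm] at h3
      calc π m * (v : M ⧸ V) = π m * (v : M ⧸ V) * (π m)⁻¹ * π m := by group
        _ = (v : M ⧸ V) * π m := by rw [← h3]
    have hcase := hmin (F.comap π) (Subgroup.Normal.comap inferInstance π)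
      (fun x hx => by
        rw [mem_comap, hπ, QuotientGroup.mk'_apply, (QuotientGroup.eq_one_iff x).2 hx]
        exact one_mem F)
      ((Subgroup.comap_mono inf_le_left).trans (by
        rw [hUb, Subgroup.comap_map_eq, hπ, QuotientGroup.ker_mk', sup_eq_left.2 hlt.le]))
    have hFe : F = Ub := by
      have hmc : (F.comap π).map π = F :=
        Subgroup.map_comap_eq_self_of_surjective (QuotientGroup.mk'_surjective V) F
      rcases hcase with e | e
      · exfalso
        rw [← hmc, e, hπ, QuotientGroup.map_mk'_self, mem_bot] at hvF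
        exact hv (Subtype.ext hvF)
      · rw [← hmc, e]
    refine MulEquiv.ext fun w => Subtype.ext ?_
    have hw : (w : M ⧸ V) ∈ F := by rw [hFe]; exact w.2
    rw [happ, hw.2 (π k) ⟨k, hk, rfl⟩, mul_inv_cancel_right]
    rfl)
  refine ⟨W, i1, i2, i3, ρ, fun g hg => ?_, fun g hg => h2 g fun v => Subtype.ext ?_, h3⟩
  · have h4 : zpowers (π g) ≤ centralizer (Ub : Set (M ⧸ V)) := by
      refine zpowers_le.2 fun y hy => ?_
      have h5 := happ g ⟨y, hy⟩
      rw [h1 g hg] at h5
      have h6 : y = π g * y * (π g)⁻¹ := h5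
      calc y * π g = π g * y * (π g)⁻¹ * π g := by rw [← h6]
        _ = π g * y := by group
    rw [← QuotientGroup.ker_mk' V, ← Subgroup.map_eq_bot_iff, Subgroup.map_commutator,
      MonoidHom.map_zpowers, Subgroup.commutator_comm]
    exact commutator_eq_bot_iff_le_centralizer.2 h4
  · obtain ⟨x, hx, he⟩ := v.2
    have hd : ((φ g v / v : Ub) : M ⧸ V) = π ⁅g, x⁆ := by
      rw [Subgroup.coe_div, happ, ← he, map_commutatorElement, commutatorElement_def, div_eq_mul_inv]
    rw [happ, hd]
    have h4 : π ⁅g, ⁅g, x⁆⁆ = 1 := (QuotientGroup.eq_one_iff _).2 (hg (by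
      rw [Subgroup.commutator_comm ⁅U, zpowers g⁆, Subgroup.commutator_comm U]
      exact commutator_mem_commutator (mem_zpowers g) (commutator_mem_commutator (mem_zpowers g) hx)))
    rw [map_commutatorElement, commutatorElement_eq_one_iff_mul_comm] at h4
    rw [h4, mul_inv_cancel_right]

end CfsgLib.Flavell
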