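import Mathlib
import Cfsg.Agent.Lib.Flavell.InvCap
import Cfsg.Agent.Lib.Flavell.ChiefRep
import Cfsg.Agent.Lib.KInf.Degree
import Cfsg.Agent.Lib.Components.FStar
import Cfsg.Agent.Lib.Coprime.Action

/-!
The intersection of the invariant Sylow subgroups has a normal K-infinity subgroup, given the
linear statement about quadratic elements in such an intersection.
-/

set_option autoImplicit false
set_option linter.style.haveILetI false
set_option linter.unusedSectionVars false

namespace CfsgLib.Flavell

open Cfsg Subgroup CfsgLib.ThreeTransp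
open scoped commutatorElement

universe u

/-- The linear statement: quadratic elements in the intersection of the invariant `p`-subgroups lie in
a normal `p`-subgroup. -/
def QuadInPCore (p r : ℕ) [Fact p.Prime] : Prop :=
  ∀ (V : Type u) [AddCommGroup V] [Module (ZMod p) V] [FiniteDimensional (ZMod p) V]
    (G R : Subgroup (LinearMap.GeneralLinearGroup (ZMod p) V)), IsPGroup r R →
    R ≤ normalizer (G : Set (LinearMap.GeneralLinearGroup (ZMod p) V)) →
    (Nat.card G).Coprime r →
    ∀ s : Module.End (ZMod p) V, s * s = 0 → qel s ∈ invCap p G R → InPCore p G (qel s)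

section Linear

variable {X : Type*} [Group X] [Finite X] {p : ℕ} [Fact p.Prime]

/-- The conjugates under `R` of a normal `p`-subgroup of `G`. -/
theorem InPCore.exists_invariant {G R : Subgroup X} {x : X} (hn : R ≤ normalizer (G : Set X))
    (h : InPCore p G x) :
    ∃ N : Subgroup X, N ≤ G ∧ IsPGroup p N ∧ G ⊔ R ≤ normalizer (N : Set X) ∧ x ∈ N := by
  obtain ⟨N, hNG, hGN, hNp, hx⟩ := h
  have hle : ∀ r : R, conjBy N (r : X) ≤ G := fun r =>
    (conjBy_mono _ hNG).trans (le_of_eq (conjBy_eq_of_mem_normalizer (hn r.2)))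
  have hGc : ∀ r : R, G ≤ normalizer (conjBy N (r : X) : Set X) := by
    intro r y hy
    refine conjBy_eq_self_iff.1 ?_
    have hy' : (r : X)⁻¹ * y * (r : X) ∈ G := by
      have := (Subgroup.mem_normalizer_iff.1 (inv_mem (hn r.2)) y).1 hy
      simpa using this
    have e : y * (r : X) = (r : X) * ((r : X)⁻¹ * y * (r : X)) := by group
    rw [← conjBy_mul, e, conjBy_mul, conjBy_eq_self_iff.2 (hGN hy')]
  refine ⟨⨆ r : R, conjBy N (r : X), iSup_le hle,
    isPGroup_iSup_of_normalizing _ (fun r => hNp.map _) (fun i j => (hle i).trans (hGc j)),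
    sup_le ?_ (le_normalizer_iSup _ R fun g hg i => ⟨⟨g, hg⟩ * i, by rw [← conjBy_mul]; rfl⟩),
    (le_iSup_of_le (f := fun r : R => conjBy N (r : X)) (1 : R) (le_of_eq (conjBy_one N).symm) :
      N ≤ ⨆ r : R, conjBy N (r : X)) hx⟩
  exact le_normalizer_iSup _ G fun g hg i => ⟨i, conjBy_eq_of_mem_normalizer (hGc i hg)⟩

end Linear

section Operators

variable {G : Type u} [Group G] [Finite G] {p r : ℕ} [Fact p.Prime] [Fact r.Prime]

/-- The semidirect product with a coprime group of automorphisms. -/
theorem kInf_normal (hquad : QuadInPCore.{u} p r) {A : Subgroup (MulAut G)} (hA : IsPGroup r A)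
    (hcop : (Nat.card G).Coprime r) (hne : pCore p G ≠ ⊥)
    (hc : centralizer ((pCore p G : Subgroup G) : Set G) ≤ pCore p G) {Q : Subgroup G}
    (hPQ : pCore p G ≤ Q)
    (hQS : ∀ S : Sylow p G, (∀ a ∈ A, ∀ x ∈ (S : Subgroup G), a x ∈ (S : Subgroup G)) → Q ≤ S) :
    ((Cfsg.kInfLower.{u} Q).map Q.subtype).Normal := by
  classical
  let M := SemidirectProduct G ↥A A.subtype
  haveI : Finite M := Finite.of_equiv _ SemidirectProduct.equivProd.symm
  let ι : G →* M := SemidirectProduct.inl
  have hι : Function.Injective ι := SemidirectProduct.inl_injective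
  let κ : ↥A →* M := SemidirectProduct.inr
  have hact : ∀ (a : ↥A) (x : G), κ a * ι x * (κ a)⁻¹ = ι ((a : MulAut G) x) := fun a x => by
    rw [← map_inv]
    exact (SemidirectProduct.inl_aut a x).symm
  have hGn : (ι.range).Normal := by
    rw [show ι.range = (SemidirectProduct.rightHom (φ := A.subtype)).ker from
      SemidirectProduct.range_inl_eq_ker_rightHom]
    infer_instance
  haveI := hGn
  have htop : ι.range ⊔ κ.range = ⊤ := by
    refine eq_top_iff.2 fun x _ => ?_
    rw [← SemidirectProduct.inl_left_mul_inr_right x]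
    exact mul_mem (Subgroup.mem_sup_left ⟨_, rfl⟩) (Subgroup.mem_sup_right ⟨_, rfl⟩)
  have hrp : r ≠ p := by
    rintro rfl
    obtain ⟨⟨x, hx⟩, hx1⟩ : ∃ x : pCore r G, x ≠ 1 :=
      haveI := (Subgroup.nontrivial_iff_ne_bot _).2 hne
      exists_ne 1
    obtain ⟨k, hk⟩ := IsPGroup.iff_orderOf.1 (CfsgLib.Base.isPGroup_pCore r G) ⟨x, hx⟩
    rcases k.eq_zero_or_pos with rfl | hk0
    · rw [pow_zero, orderOf_eq_one_iff] at hk
      exact hx1 hk
    · have h1 : r ∣ Nat.card G := by
        refine (dvd_pow_self r hk0.ne').trans ?_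
        rw [← hk, Subgroup.orderOf_mk]
        exact orderOf_dvd_natCard x
      exact (Fact.out : r.Prime).ne_one (Nat.eq_one_of_dvd_coprimes hcop h1 dvd_rfl)
  -- the core of the product
  have hP : (pCore p G).map ι = pCore p M := by
    refine le_antisymm ?_ ?_
    · haveI : ((pCore p G).map ι).Normal := by
        refine normalizer_eq_top_iff.1 (top_unique (htop ▸ sup_le ?_ ?_))
        · rintro _ ⟨g, rfl⟩
          have := Subgroup.map_mono (f := ι) (le_top : (⊤ : Subgroup G) ≤ ⊤)
          refine (Subgroup.le_normalizer_map ι) ⟨g, ?_, rfl⟩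
          rw [normalizer_eq_top]
          exact mem_top g
        · rintro _ ⟨a, rfl⟩
          have key : ∀ (b : ↥A) (w : M), w ∈ (pCore p G).map ι →
              κ b * w * (κ b)⁻¹ ∈ (pCore p G).map ι := by
            rintro b _ ⟨w, hw, rfl⟩
            refine ⟨(b : MulAut G) w, ?_, (hact b w).symm⟩
            have h2 : (pCore p G).map (b : MulAut G).toMonoidHom = pCore p G :=
              Subgroup.characteristic_iff_map_eq.1 inferInstance _
            have h3 : (b : MulAut G) w ∈ (pCore p G).map (b : MulAut G).toMonoidHom := ⟨w, hw, rfl⟩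
            rwa [h2] at h3
          refine Subgroup.mem_normalizer_iff.2 fun w => ⟨key a w, fun hw => ?_⟩
          have h4 := key a⁻¹ _ hw
          have e : κ a⁻¹ * (κ a * w * (κ a)⁻¹) * (κ a⁻¹)⁻¹ = w := by
            rw [map_inv, inv_inv]
            simp only [mul_assoc]
            rw [inv_mul_cancel, mul_one, inv_mul_cancel_left]
          rwa [e] at h4
      exact CfsgLib.Base.le_pCore ((CfsgLib.Base.isPGroup_pCore p G).map ι)
    · have hle : pCore p M ≤ ι.range := by
        intro x hx
        have hmem : x ∈ (SemidirectProduct.rightHom (φ := A.subtype)).ker := by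
          rw [MonoidHom.mem_ker]
          have h1 : IsPGroup p ((pCore p M).map (SemidirectProduct.rightHom (φ := A.subtype))) :=
            (CfsgLib.Base.isPGroup_pCore p M).map _
          obtain ⟨i, hi⟩ := IsPGroup.iff_orderOf.1 h1 ⟨_, mem_map_of_mem _ hx⟩
          obtain ⟨j, hj⟩ := IsPGroup.iff_orderOf.1 hA (SemidirectProduct.rightHom (φ := A.subtype) x)
          rw [Subgroup.orderOf_mk] at hi
          refine orderOf_eq_one_iff.1 (Nat.eq_one_of_dvd_coprimes ?_ (dvd_of_eq hi) (dvd_of_eq hj))
          exact Nat.Coprime.pow _ _ ((Nat.coprime_primes Fact.out Fact.out).2 (Ne.symm hrp))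
        rwa [← SemidirectProduct.range_inl_eq_ker_rightHom] at hmem
      rw [← Subgroup.map_comap_eq_self hle]
      refine Subgroup.map_mono ?_
      haveI : ((pCore p M).comap ι).Normal := Subgroup.Normal.comap inferInstance ι
      exact CfsgLib.Base.le_pCore ((CfsgLib.Base.isPGroup_pCore p M).comap_of_injective ι hι)
  -- it is self-centralising
  have hcM : centralizer ((pCore p M : Subgroup M) : Set M) ≤ pCore p M := by
    have hker : ∀ x ∈ centralizer ((pCore p M : Subgroup M) : Set M), ∀ y : G, x = ι y →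
        x ∈ pCore p M := by
      rintro _ hx y rfl
      rw [← hP]
      refine ⟨y, hc fun z hz => hι ?_, rfl⟩
      rw [map_mul, map_mul]
      exact hx _ (hP ▸ mem_map_of_mem ι hz)
    intro x hx
    suffices hx0 : SemidirectProduct.rightHom (φ := A.subtype) x = 1 by
      have : x ∈ ι.range := by
        rw [show ι.range = (SemidirectProduct.rightHom (φ := A.subtype)).ker from
          SemidirectProduct.range_inl_eq_ker_rightHom]
        exact hx0
      obtain ⟨y, rfl⟩ := this
      exact hker _ hx y rfl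
    set N := Nat.card G with hN
    set c := x ^ N with hcdef
    have hc' : c ∈ centralizer ((pCore p M : Subgroup M) : Set M) := pow_mem hx N
    obtain ⟨k, hk⟩ := IsPGroup.iff_card.1 hA
    have hcard : Nat.card M = N * r ^ k := by
      rw [Nat.card_congr (SemidirectProduct.equivProd (φ := A.subtype)), Nat.card_prod, hk]
    have hcr : c ^ r ^ k = 1 := by
      rw [hcdef, ← pow_mul, ← hcard, pow_card_eq_one']
    have hfixG : ∀ y : G, c * ι y * c⁻¹ = ι y := by
      intro y
      obtain ⟨z, hz⟩ : ∃ z : G, ι z = c * ι y * c⁻¹ * (ι y)⁻¹ := by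
        have h1 : c * ι y * c⁻¹ * (ι y)⁻¹ ∈ ι.range :=
          mul_mem (hGn.conj_mem _ ⟨y, rfl⟩ c) (inv_mem ⟨y, rfl⟩)
        exact h1
      have hzP : ι z ∈ pCore p M := by
        refine hker _ ?_ z rfl
        rw [hz, show c * ι y * c⁻¹ * (ι y)⁻¹ = c * (ι y * c⁻¹ * (ι y)⁻¹) from by group]
        exact mul_mem hc' ((inferInstance : (centralizer ((pCore p M : Subgroup M) : Set M)).Normal).conj_mem
          _ (inv_mem hc') (ι y))
      have hzc : c * ι z = ι z * c := (hc' _ hzP).symm
      have hpow : ∀ n : ℕ, c ^ n * ι y * (c ^ n)⁻¹ = ι z ^ n * ι y := by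
        intro n
        induction n with
        | zero => simp
        | succ n ih =>
          have h3 : c * ι z ^ n * c⁻¹ = ι z ^ n := by
            rw [((show Commute c (ι z) from hzc).pow_right n).eq, mul_inv_cancel_right]
          calc c ^ (n + 1) * ι y * (c ^ (n + 1))⁻¹
              = c * (c ^ n * ι y * (c ^ n)⁻¹) * c⁻¹ := by rw [pow_succ']; group
            _ = c * ι z ^ n * c⁻¹ * (c * ι y * c⁻¹) := by rw [ih]; group
            _ = ι z ^ n * (c * ι y * c⁻¹) := by rw [h3]
            _ = ι z ^ (n + 1) * ι y := by rw [pow_succ, mul_assoc, hz]; group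
      have h4 := hpow (r ^ k)
      rw [hcr, one_mul, inv_one, mul_one, eq_comm, mul_eq_right] at h4
      have h5 : ι z = 1 := by
        obtain ⟨i, hi⟩ := IsPGroup.iff_orderOf.1 (CfsgLib.Base.isPGroup_pCore p M) ⟨_, hzP⟩
        rw [Subgroup.orderOf_mk] at hi
        refine orderOf_eq_one_iff.1 (Nat.eq_one_of_dvd_coprimes ?_ (dvd_of_eq hi)
          (orderOf_dvd_of_pow_eq_one h4))
        exact Nat.Coprime.pow _ _ ((Nat.coprime_primes Fact.out Fact.out).2 (Ne.symm hrp))
      rw [hz, mul_inv_eq_one] at h5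
      exact h5
    -- so the automorphism part is inner of coprime order
    set a := SemidirectProduct.rightHom (φ := A.subtype) x with ha
    have ha' : SemidirectProduct.rightHom (φ := A.subtype) c = a ^ N := by rw [hcdef, map_pow]
    have hinner : ((a ^ N : ↥A) : MulAut G) = MulAut.conj c.left⁻¹ := by
      refine MulEquiv.ext fun y => ?_
      have h1 := hfixG y
      rw [← SemidirectProduct.inl_left_mul_inr_right c] at h1
      have h2 : ι c.left * (κ c.right * ι y * (κ c.right)⁻¹) * (ι c.left)⁻¹ = ι y := by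
        refine Eq.trans ?_ h1
        simp only [ι, κ, mul_inv_rev, mul_assoc]
      rw [hact, ← map_mul, ← map_inv, ← map_mul] at h2
      have h3 := hι h2
      rw [← ha', SemidirectProduct.rightHom_eq_right, MulAut.conj_apply, inv_inv]
      conv_rhs => rw [← h3]
      group
    have h6 : a ^ N = 1 := by
      refine Subtype.ext (orderOf_eq_one_iff.1 (Nat.eq_one_of_dvd_coprimes
        (Nat.Coprime.pow_left k hcop.symm) ?_ ?_))
      · refine orderOf_dvd_of_pow_eq_one ?_
        rw [← Subgroup.coe_pow, ← hk, pow_card_eq_one']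
        rfl
      · rw [hinner]
        refine orderOf_dvd_of_pow_eq_one ?_
        rw [← map_pow, pow_card_eq_one', map_one]
    exact orderOf_eq_one_iff.1 (Nat.eq_one_of_dvd_coprimes (Nat.Coprime.pow_left k hcop.symm)
      (orderOf_dvd_of_pow_eq_one (by rw [← hk, pow_card_eq_one'])) (orderOf_dvd_of_pow_eq_one h6))
  -- no good element in the image of `Q`
  obtain ⟨C0, hC0, -⟩ := CfsgLib.KInf.exists_critical_core p M
  set S := Q.map ι with hS
  have hPS : pCore p M ≤ S := hP ▸ Subgroup.map_mono hPQ
  have hno : ∀ g ∈ S, ¬ CfsgLib.KInf.Good p C0 g := by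
    rintro g hgS ⟨-, -, -, hgood⟩
    obtain ⟨U, V, hUV, hUA, hq, hne'⟩ := hgood hcM
    obtain ⟨W, _, _, _, ρ, hker, hsq, hirr⟩ := exists_chiefRep (p := p) hUV
      ((CfsgLib.Base.isPGroup_pCore p M).to_le (hUA.trans hC0.le))
    haveI : Finite W := Module.finite_of_finite (ZMod p)
    haveI : Finite (LinearMap.GeneralLinearGroup (ZMod p) W) :=
      Finite.of_injective (fun u : LinearMap.GeneralLinearGroup (ZMod p) W => ⇑(u : Module.End (ZMod p) W))
        fun u v h => Units.ext (DFunLike.coe_injective h)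
    set Gb := ι.range.map ρ with hGb
    set Rb := κ.range.map ρ with hRb
    have hRr : IsPGroup r κ.range := hA.of_surjective κ.rangeRestrict κ.rangeRestrict_surjective
    have hn : Rb ≤ normalizer (Gb : Set (LinearMap.GeneralLinearGroup (ZMod p) W)) := by
      refine le_trans ?_ (Subgroup.le_normalizer_map ρ)
      refine Subgroup.map_mono ?_
      rw [normalizer_eq_top]
      exact le_top
    have hcG : Nat.card ι.range = Nat.card G :=
      (Nat.card_congr (MonoidHom.ofInjective hι).toEquiv).symm
    have hcop' : (Nat.card Gb).Coprime r :=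
      hcop.coprime_dvd_left ((Subgroup.card_map_dvd ι.range ρ).trans (dvd_of_eq hcG))
    have hcopM : (Nat.card κ.range).Coprime (Nat.card ι.range) := by
      obtain ⟨j, hj⟩ := IsPGroup.iff_card.1 hRr
      rw [hj, hcG]
      exact Nat.Coprime.pow_left j hcop.symm
    have hsol : Group.IsSolvable κ.range := by
      haveI := hRr.isNilpotent
      infer_instance
    have hmem : ρ g ∈ invCap p Gb Rb := by
      refine mem_invCap.2 ⟨mem_map_of_mem ρ (Subgroup.map_le_range _ _ hgS), fun Sb hSb => ?_⟩
      set K := Sb.comap ρ ⊓ ι.range with hK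
      have hAK : κ.range ≤ normalizer (K : Set M) := by
        refine CfsgLib.Coprime.le_normalizer_inf_inf ?_ (by rw [normalizer_eq_top]; exact le_top)
        intro y hy
        refine Subgroup.mem_normalizer_iff.2 fun z => ?_
        simp only [mem_comap, map_mul, map_inv]
        exact Subgroup.mem_normalizer_iff.1 (hSb.1.2.2 (mem_map_of_mem ρ hy)) (ρ z)
      have hKdvd : Nat.card K ∣ Nat.card ι.range := Subgroup.card_dvd_of_le inf_le_right
      obtain ⟨T, -, hTR⟩ := CfsgLib.Coprime.exists_invariant_sylow_ge (p := p) hAK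
        (hcopM.coprime_dvd_right hKdvd) (Or.inl hsol) (bot_le : ⊥ ≤ K) IsPGroup.of_bot
        (by rw [normalizer_eq_top]; exact le_top)
      obtain ⟨S1, hTS, hS1R⟩ := CfsgLib.Coprime.exists_invariant_sylow_ge (p := p)
        (show κ.range ≤ normalizer (ι.range : Set M) by rw [normalizer_eq_top]; exact le_top) hcopM
        (Or.inl hsol) ((Subgroup.map_subtype_le (T : Subgroup K)).trans inf_le_right) (T.2.map _) hTR
      let S0 : Sylow p G := S1.comapOfInjective ι.rangeRestrict
        (MonoidHom.rangeRestrict_injective_iff.2 hι)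
        (by rw [MonoidHom.range_eq_top.2 ι.rangeRestrict_surjective]; exact le_top)
      have hS0 : ∀ y : G, y ∈ (S0 : Subgroup G) ↔
          ι y ∈ (S1 : Subgroup ι.range).map ι.range.subtype := by
        intro y
        constructor
        · exact fun hy => ⟨_, hy, rfl⟩
        · rintro ⟨z, hz, e⟩
          have : z = ι.rangeRestrict y := Subtype.ext e
          exact (this ▸ hz : ι.rangeRestrict y ∈ (S1 : Subgroup ι.range))
      have hgS1 : g ∈ (S1 : Subgroup ι.range).map ι.range.subtype := by
        obtain ⟨q, hq', rfl⟩ := hgS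
        refine (hS0 q).1 (hQS S0 (fun a ha y hy => (hS0 _).2 ?_) hq')
        rw [← hact ⟨a, ha⟩ y]
        exact (Subgroup.mem_normalizer_iff.1 (hS1R ⟨⟨a, ha⟩, rfl⟩) _).1 ((hS0 y).1 hy)
      have hTb : Sb ≤ ((T : Subgroup K).map K.subtype).map ρ := by
        let f : K →* Sb :=
          { toFun := fun y => ⟨ρ y, y.2.1⟩
            map_one' := Subtype.ext (map_one ρ)
            map_mul' := fun a b => Subtype.ext (map_mul ρ _ _) }
        have hf : Function.Surjective f := by
          rintro ⟨y, hy⟩
          obtain ⟨z, hz, rfl⟩ := hSb.1.1 hy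
          exact ⟨⟨z, hy, hz⟩, rfl⟩
        have htop' : (T.mapSurjective hf : Subgroup Sb) = ⊤ :=
          ((T.mapSurjective hf).3 (hSb.1.2.1.to_subgroup ⊤) le_top).symm
        intro y hy
        have h1 : (⟨y, hy⟩ : Sb) ∈ (T.mapSurjective hf : Subgroup Sb) := htop' ▸ mem_top _
        obtain ⟨z, hz, e⟩ := h1
        exact ⟨(z : M), ⟨z, hz, rfl⟩, congrArg Subtype.val e⟩
      have hinv : IsInvP p Gb Rb (((S1 : Subgroup ι.range).map ι.range.subtype).map ρ) :=
        ⟨Subgroup.map_mono (Subgroup.map_subtype_le _), (S1.2.map _).map _,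
          (Subgroup.map_mono hS1R).trans (Subgroup.le_normalizer_map ρ)⟩
      exact hSb.2 hinv (hTb.trans (Subgroup.map_mono hTS)) (mem_map_of_mem ρ hgS1)
    have hs := hsq g hq
    have hin := hquad W Gb Rb (hRr.map ρ) hn hcop' (udif (ρ g)) hs (by rwa [qel_udif hs])
    rw [qel_udif hs] at hin
    obtain ⟨N, hNG, hNp, hNn, hgN⟩ := hin.exists_invariant hn
    have hbot := hirr N (hNG.trans (Subgroup.map_le_range _ _)) hNp (le_trans (le_of_eq (by
      rw [hGb, hRb, ← Subgroup.map_sup, htop, ← MonoidHom.range_eq_map])) hNn)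
    rw [hbot, mem_bot] at hgN
    exact hne' (hker g hgN)
  have hnorm := (CfsgLib.KInf.normal_of_terms_le hPS
    (CfsgLib.KInf.terms_le hC0 (hC0.le.trans hPS) hPS hno)).1
  have hK : ((Cfsg.kInfLower.{u} S).map S.subtype).Normal := hnorm
  have he := (CfsgLib.KInf.map_kInf_equiv (Q.equivMapOfInjective ι hι)).1
  rw [← he] at hK
  have h2 : ((Cfsg.kInfLower.{u} Q).map Q.subtype).map ι =
      ((Cfsg.kInfLower.{u} Q).map (Q.equivMapOfInjective ι hι).toMonoidHom).map S.subtype := by
    rw [Subgroup.map_map, Subgroup.map_map]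
    rfl
  rw [← h2] at hK
  rw [← Subgroup.comap_map_eq_self_of_injective hι ((Cfsg.kInfLower.{u} Q).map Q.subtype)]
  exact hK.comap ι

end Operators

/-- The group side of the statement. -/
theorem exists_char_normal {X : Type u} [Group X] [Finite X] (G R : Subgroup X) {r : ℕ} [Fact r.Prime]
    (hR : IsPGroup r ↥R) (hcop : (Nat.card ↥G).Coprime r) (hnorm : R ≤ normalizer (G : Set X))
    (hG : G ≠ ⊥) {p : ℕ} [Fact p.Prime] (hquad : QuadInPCore.{u} p r)
    (hF : Cfsg.generalizedFittingSubgroup ↥G = Cfsg.pCore p ↥G) (P : Subgroup X)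
    (hP : P = ⨅ S : {S : Sylow p ↥G // ∀ a ∈ R, ((S : Subgroup ↥G).map G.subtype).map
      (MulAut.conj a).toMonoidHom = (S : Subgroup ↥G).map G.subtype},
      ((S : Sylow p ↥G) : Subgroup ↥G).map G.subtype) :
    ∃ C : Subgroup ↥P, C.Characteristic ∧ C ≠ ⊥ ∧
      G ≤ normalizer ((C.map P.subtype : Subgroup X) : Set X) := by
  classical
  let ψ : R →* MulAut G := (G.normalizerMonoidHom).comp (Subgroup.inclusion hnorm)
  have hψ : ∀ (a : R) (x : G), ((ψ a x : G) : X) = (a : X) * x * (a : X)⁻¹ := fun a x => rfl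
  have hc : centralizer ((pCore p G : Subgroup G) : Set G) ≤ pCore p G := by
    have h := CfsgLib.Components.centralizer_fstar_le (G := G)
    rwa [hF] at h
  have hne : pCore p G ≠ ⊥ := by
    intro h
    rw [h] at hc
    haveI := (Subgroup.nontrivial_iff_ne_bot G).2 hG
    obtain ⟨x, hx⟩ := exists_ne (1 : G)
    exact hx (hc fun y hy => by rw [SetLike.mem_coe, mem_bot] at hy; simp [hy])
  set ι := {S : Sylow p ↥G // ∀ a ∈ R, ((S : Subgroup ↥G).map G.subtype).map
    (MulAut.conj a).toMonoidHom = (S : Subgroup ↥G).map G.subtype}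
  haveI : Nonempty ι := by
    obtain ⟨k, hk⟩ := IsPGroup.iff_card.1 hR
    obtain ⟨S, -, hSR⟩ := CfsgLib.Coprime.exists_invariant_sylow_ge (p := p) hnorm
      (by rw [hk]; exact Nat.Coprime.pow_left k hcop.symm)
      (Or.inl (haveI := hR.isNilpotent; inferInstance)) (bot_le : ⊥ ≤ G) IsPGroup.of_bot
      (by rw [normalizer_eq_top]; exact le_top)
    exact ⟨⟨S, fun a ha => by
      have h := CfsgLib.Coprime.mem_normalizer_iff_conj_smul.1 (hSR ha)
      rw [Subgroup.pointwise_smul_def] at h
      exact h⟩⟩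
  set Q : Subgroup G := ⨅ S : ι, ((S : Sylow p G) : Subgroup G) with hQ
  have hPQ : P = Q.map G.subtype := by
    rw [hP, hQ, Subgroup.map_iInf G.subtype G.subtype_injective]
  subst hPQ
  have hcore : pCore p G ≤ Q := le_iInf fun S => CfsgLib.Base.pCore_le_sylow _
  have hQp : IsPGroup p Q := ((Classical.arbitrary ι : ι) : Sylow p G).2.to_le (iInf_le _ _)
  have hnormal := kInf_normal hquad (hR.of_surjective ψ.rangeRestrict ψ.rangeRestrict_surjective) hcop hne hc
    (Q := Q) hcore (fun S hS => iInf_le_of_le (⟨S, fun a ha => by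
      refine Subgroup.eq_of_le_of_card_ge ?_ (le_of_eq ?_)
      · rintro _ ⟨_, ⟨x, hx, rfl⟩, rfl⟩
        exact ⟨ψ ⟨a, ha⟩ x, hS _ ⟨⟨a, ha⟩, rfl⟩ x hx, hψ ⟨a, ha⟩ x⟩
      · exact Nat.card_congr (Subgroup.equivMapOfInjective _ _ (MulAut.conj a).injective).toEquiv⟩ : ι) le_rfl)
  refine ⟨Cfsg.kInfLower.{u} ↥(Q.map G.subtype), (CfsgLib.KInf.characteristic_kInf _).1, ?_, ?_⟩
  · have hp' : IsPGroup p ↥(Q.map G.subtype) := hQp.map _
    haveI : Nontrivial ↥(Q.map G.subtype) := by
      refine (Subgroup.nontrivial_iff_ne_bot _).2 fun h => hne ?_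
      rw [Subgroup.map_eq_bot_iff_of_injective _ G.subtype_injective] at h
      exact le_bot_iff.1 (hcore.trans h.le)
    haveI := hp'.center_nontrivial
    intro h
    exact (Subgroup.nontrivial_iff_ne_bot _).1 ‹Nontrivial (center ↥(Q.map G.subtype))›
      (le_bot_iff.1 ((CfsgLib.KInf.center_le_kInf hp').1.trans h.le))
  · have he := (CfsgLib.KInf.map_kInf_equiv (Q.equivMapOfInjective G.subtype G.subtype_injective)).1
    rw [← he]
    have h2 : ((Cfsg.kInfLower.{u} Q).map (Q.equivMapOfInjective G.subtype G.subtype_injective).toMonoidHom).map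
        (Q.map G.subtype).subtype = ((Cfsg.kInfLower.{u} Q).map Q.subtype).map G.subtype := by
      rw [Subgroup.map_map, Subgroup.map_map]
      rfl
    rw [h2]
    intro g hg
    refine (Subgroup.le_normalizer_map G.subtype) ⟨⟨g, hg⟩, ?_, rfl⟩
    haveI := hnormal
    rw [normalizer_eq_top]
    exact mem_top _

end CfsgLib.Flavell
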