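import Mathlib
import Cfsg.Agent.Lib.Flavell.Roots

/-!
A pair of opposite root subgroups fixed by the stabilizer of their class.
-/

set_option autoImplicit false
set_option linter.unusedSectionVars false
set_option linter.style.haveILetI false

namespace CfsgLib.Flavell

open Cfsg CfsgLib.ThreeTransp

variable {k : Type*} [Field k] {M : Type*} [AddCommGroup M] [Module k M] [FiniteDimensional k M]
variable {G R : Subgroup (LinearMap.GeneralLinearGroup k M)}

local notation "GLM" => LinearMap.GeneralLinearGroup k M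
local notation "EndM" => Module.End k M

variable {p : ℕ} [Fact p.Prime] [CharP k p]

/-- A class contains a pair of opposite root subgroups fixed by the operators fixing the class. -/
theorem exists_fixed_pair [Finite GLM] (h2 : (2 : k) ≠ 0) (h3 : Nat.card k ≠ 3) {l : k} (hl0 : l ≠ 0)
    (hl1 : l ≠ 1) (hl2 : l * l ≠ 1) {r : ℕ} [Fact r.Prime] (hG : NoPCore p G) (hRr : IsPGroup r R)
    (hn : R ≤ Subgroup.normalizer (G : Set GLM)) (hcop : (Nat.card G).Coprime r)
    {a : EndM} (ha : QMin G a) :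
    ∃ (a0 f : EndM) (ha0 : QMin G a0) (hf : QMin G f), Linked a0 f ∧
      eGrp G a0 ha0 ∈ rootCls G (eGrp G a ha) ∧
      ∀ g ∈ R, conjBy (eGrp G a ha) g ∈ rootCls G (eGrp G a ha) →
        conjBy (eGrp G a0 ha0) g = eGrp G a0 ha0 ∧ conjBy (eGrp G f hf) g = eGrp G f hf := by
  have hr : ∀ {T : Subgroup GLM}, T ≤ G → ¬ r ∣ Nat.card T := by
    intro T hT h
    have := Nat.eq_one_of_dvd_coprimes hcop (h.trans (Subgroup.card_dvd_of_le hT)) dvd_rfl
    exact (Fact.out : r.Prime).ne_one this
  set C := rootCls G (eGrp G a ha) with hC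
  let R₁ : Subgroup GLM :=
    { carrier := {g | g ∈ R ∧ conjBy (eGrp G a ha) g ∈ C}
      one_mem' := ⟨one_mem R, by rw [conjBy_one]; exact self_mem_rootCls _⟩
      mul_mem' := fun {g g'} hg hg' => ⟨mul_mem hg.1 hg'.1, by
        rw [conjBy_mul]
        exact rootCls_trans hg.2 (rootCls_conj (hn hg.1) hg'.2)⟩
      inv_mem' := fun {g} hg => ⟨inv_mem hg.1, by
        have h := rootCls_conj (hn (inv_mem hg.1)) hg.2
        rw [conjBy_inv_conjBy] at h
        exact rootCls_symm h⟩ }
  have hR₁ : R₁ ≤ R := fun g hg => hg.1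
  obtain ⟨A0, ⟨t, ht, rfl⟩, hfix⟩ := exists_fixed_member (hRr.to_le hR₁) (hr qG0_le) (eGrp G a ha)
    fun g hg B hB => rootCls_trans hg.2 (rootCls_conj (hn hg.1) hB)
  have htN : t ∈ Subgroup.normalizer (G : Set GLM) := Subgroup.le_normalizer (qG0_le ht)
  set a0 := eConj t a with ha0def
  have ha0 : QMin G a0 := qmin_conjN ha htN
  have eA : conjBy (eGrp G a ha) t = eGrp G a0 ha0 := conjBy_eGrpN ha htN
  rw [eA] at hfix
  have hcls : eGrp G a0 ha0 ∈ C := eA ▸ ⟨t, ht, rfl⟩
  have hmem : ∀ {x : EndM} (hx : QMin G x), eGrp G x hx ≤ qG0 G := fun hx =>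
    le_qG0 (mem_quadraticRootSubgroups.2 ⟨_, hx, rfl⟩)
  have hTG : qG0 G ≤ G := qG0_le
  set T := qG0 G with hT
  set U := flagGrp a0 ha0.sq ⊓ T with hU
  have key : ∀ g ∈ R₁, conjBy U g ≤ U := by
    intro g hg
    have he := hfix g hg
    rw [conjBy_eGrpN ha0 (hn hg.1)] at he
    obtain ⟨er, ek⟩ := eGrp_inj he
    refine le_inf ?_ ?_
    · refine (conjBy_mono g inf_le_left).trans ?_
      rintro _ ⟨v, ⟨v1, v2, v3⟩, rfl⟩
      have e : udif ((MulAut.conj g).toMonoidHom v) = (g : EndM) * udif v * ((g⁻¹ : GLM) : EndM) := by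
        show udif (g * v * g⁻¹) = _
        simp only [udif, Units.val_mul, sub_mul, mul_sub, mul_one, Units.mul_inv]
      refine ⟨?_, ?_, ?_⟩
      · rintro _ ⟨m, rfl⟩
        rw [e, Module.End.mul_apply, Module.End.mul_apply, ← ek, mem_ker_eConj, ← Module.End.mul_apply,
          Units.inv_mul, Module.End.one_apply]
        exact v1 ⟨_, rfl⟩
      · rintro _ ⟨m, hm, rfl⟩
        rw [e, Module.End.mul_apply, Module.End.mul_apply, ← er, range_eConj]
        rw [SetLike.mem_coe, ← ek, mem_ker_eConj] at hm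
        exact Submodule.mem_map_of_mem (v2 ⟨_, hm, rfl⟩)
      · intro m hm
        rw [← er, range_eConj] at hm
        obtain ⟨z, hz, rfl⟩ := hm
        rw [LinearMap.mem_ker, e, Module.End.mul_apply, Module.End.mul_apply,
          ← Module.End.mul_apply ((g⁻¹ : GLM) : EndM), Units.inv_mul, Module.End.one_apply,
          LinearMap.mem_ker.1 (v3 hz), map_zero]
    · exact (conjBy_mono g inf_le_right).trans (le_of_eq (conjBy_qG0 (hn hg.1)))
  obtain ⟨w, hw, hlw⟩ := exists_linked' h2 h3 hG ha0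
  set b0 := eConj w a0
  have hb0 : QMin G b0 := ha0.conj hw
  have hlb : Linked a0 b0 := hlw.symm
  have horb : ∀ B : Subgroup GLM, (∃ v ∈ U, B = conjBy (eGrp G b0 hb0) v) ↔
      ∃ y, ∃ hy : QMin G y, Linked a0 y ∧ B = eGrp G y hy := by
    intro B
    constructor
    · rintro ⟨v, hv, rfl⟩
      have hvG : v ∈ G := hTG hv.2
      refine ⟨_, _, ?_, conjBy_eGrp hb0 hvG⟩
      obtain ⟨v1, v2, v3⟩ := hv.1
      have hfixv : ∀ m ∈ LinearMap.range a0, (v : EndM) m = m := fun m hm => by
        have := LinearMap.mem_ker.1 (v3 hm)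
        rwa [udif, LinearMap.sub_apply, Module.End.one_apply, sub_eq_zero] at this
      have hker : ∀ m ∈ LinearMap.ker a0, (v : EndM) m ∈ LinearMap.ker a0 := fun m hm => by
        have h1 := range_le_ker_of_sq ha0.sq (v2 ⟨m, hm, rfl⟩)
        have h2 : (v : EndM) m = udif v m + m := by
          rw [udif, LinearMap.sub_apply, Module.End.one_apply, sub_add_cancel]
        rw [h2]; exact add_mem h1 hm
      have hl' := linked_eConj (g := v) hlb
      refine (linked_congr ?_ ?_ rfl rfl).1 hl'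
      · refine (Submodule.eq_of_le_of_finrank_le (fun m hm => ?_) ?_).symm
        · rw [range_eConj]; exact ⟨m, hm, hfixv m hm⟩
        · exact le_of_eq (erk_eConj v a0)
      · refine (Submodule.eq_of_le_of_finrank_le (fun m hm => ?_) ?_).symm
        · rw [mem_ker_eConj]
          have hinj : Function.Injective ((v : EndM).restrict hker) := fun x y e => Subtype.ext (by
            have := congrArg ((v⁻¹ : GLM) : EndM) (congrArg Subtype.val e)
            simpa [← Module.End.mul_apply] using this)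
          obtain ⟨x, hx⟩ := LinearMap.injective_iff_surjective.1 hinj ⟨m, hm⟩
          have e : (v : EndM) x.1 = m := congrArg Subtype.val hx
          rw [← e, ← Module.End.mul_apply, Units.inv_mul, Module.End.one_apply]
          exact x.2
        · have h4 := LinearMap.finrank_range_add_finrank_ker (eConj v a0)
          have h5 := LinearMap.finrank_range_add_finrank_ker a0
          have h6 := erk_eConj v a0
          simp only [erk] at h6
          omega
    · rintro ⟨y, hy, hl, rfl⟩
      obtain ⟨v, hv, r1, r2⟩ := linked_transitive h2 h3 ha0 hb0 hy hlb hl hl0 hl1 hl2 (hmem ha0)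
        (hmem hb0) (hmem hy)
      exact ⟨v, hv, by rw [conjBy_eGrp hb0 (hTG hv.2)]; exact eGrp_congr r1.symm r2.symm⟩
  obtain ⟨F, hF, hFfix⟩ := exists_fixed_member (hRr.to_le hR₁) (hr (inf_le_right.trans hTG))
    (eGrp G b0 hb0) (R₁ := R₁) (T := U) fun g hg B hB => by
      obtain ⟨y, hy, hl, rfl⟩ := (horb B).1 hB
      refine (horb _).2 ⟨_, _, ?_, conjBy_eGrpN hy (hn hg.1)⟩
      have he := hfix g hg
      rw [conjBy_eGrpN ha0 (hn hg.1)] at he
      obtain ⟨er, ek⟩ := eGrp_inj he
      exact (linked_congr er ek rfl rfl).1 (linked_eConj hl)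
  obtain ⟨f, hf, hlf, rfl⟩ := (horb F).1 hF
  exact ⟨a0, f, ha0, hf, hlf, hcls, fun g hg hC' => ⟨hfix g ⟨hg, hC'⟩, hFfix g ⟨hg, hC'⟩⟩⟩

end CfsgLib.Flavell
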