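import Mathlib
import Cfsg.Agent.Lib.Flavell.Annihilated
import Cfsg.Agent.Lib.Flavell.Pair

/-!
General facts about a minimal configuration: the root subgroups together with an invariant quadratic
element generate the group, and a quadratic element in the intersection has coprime centralizers only
trivially.
-/

set_option autoImplicit false
set_option linter.unusedSectionVars false
set_option linter.unusedSimpArgs false
set_option linter.style.haveILetI false

namespace CfsgLib.Flavell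

open Cfsg CfsgLib.ThreeTransp

universe u

variable {p : ℕ} [Fact p.Prime] {V : Type u} [AddCommGroup V] [Module (ZMod p) V]
  [FiniteDimensional (ZMod p) V] {G R : Subgroup (LinearMap.GeneralLinearGroup (ZMod p) V)}

local notation "GLM" => LinearMap.GeneralLinearGroup (ZMod p) V
local notation "EndM" => Module.End (ZMod p) V

variable {s x a : Module.End (ZMod p) V}

/-- The statement for proper subgroups with smaller operator groups. -/
def SubgroupHyp (p : ℕ) [Fact p.Prime] {V : Type u} [AddCommGroup V] [Module (ZMod p) V]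
    (G R : Subgroup (LinearMap.GeneralLinearGroup (ZMod p) V)) : Prop :=
  ∀ H R₁, H ≤ G → H ≠ G → R₁ ≤ R →
    R₁ ≤ Subgroup.normalizer (H : Set (LinearMap.GeneralLinearGroup (ZMod p) V)) →
    ∀ x : Module.End (ZMod p) V, x * x = 0 → qel x ∈ invCap p H R₁ → InPCore p H (qel x)

theorem two_ne (hp : 3 < p) : (2 : ZMod p) ≠ 0 := by
  rw [show (2 : ZMod p) = ((2 : ℕ) : ZMod p) by norm_num, Ne, ZMod.natCast_eq_zero_iff]
  intro h; have := Nat.le_of_dvd two_pos h; omega

theorem card_ne_three (hp : 3 < p) : Nat.card (ZMod p) ≠ 3 := by rw [Nat.card_zmod]; omega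

/-- A scalar of prime power order different from `1` and `-1`. -/
theorem exists_scalar (hp : 3 < p) :
    ∃ (l : ZMod p) (q n : ℕ), q.Prime ∧ q ≠ p ∧ l ≠ 0 ∧ l ≠ 1 ∧ l * l ≠ 1 ∧ l ^ q ^ n = 1 := by
  haveI : NeZero p := ⟨(Fact.out : p.Prime).ne_zero⟩
  have hcard : Nat.card (ZMod p)ˣ = p - 1 := by rw [Nat.card_eq_fintype_card, ZMod.card_units]
  have key : ∀ (u : (ZMod p)ˣ) (q n : ℕ), q.Prime → q ≠ p → orderOf u = q ^ n → 2 < q ^ n →
      ∃ (l : ZMod p) (q n : ℕ), q.Prime ∧ q ≠ p ∧ l ≠ 0 ∧ l ≠ 1 ∧ l * l ≠ 1 ∧ l ^ q ^ n = 1 := by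
    intro u q n hq hqp ho h2
    refine ⟨u, q, n, hq, hqp, Units.ne_zero u, fun h => ?_, fun h => ?_, ?_⟩
    · have : u = 1 := Units.ext h
      rw [this, orderOf_one] at ho; omega
    · have : u ^ 2 = 1 := Units.ext (by rw [Units.val_pow_eq_pow_val, pow_two]; exact h)
      have := Nat.le_of_dvd two_pos (orderOf_dvd_of_pow_eq_one this)
      omega
    · rw [← Units.val_pow_eq_pow_val, ← ho, pow_orderOf_eq_one, Units.val_one]
  rcases Nat.eq_two_pow_or_exists_odd_prime_and_dvd (p - 1) with ⟨k, hk⟩ | ⟨q, hq, hdvd, hodd⟩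
  · obtain ⟨u, hu⟩ := IsCyclic.exists_ofOrder_eq_natCard (α := (ZMod p)ˣ)
    refine key u 2 k Nat.prime_two (by omega) (by rw [hu, hcard, hk]) (by rw [← hk]; omega)
  · haveI : Fact q.Prime := ⟨hq⟩
    obtain ⟨u, hu⟩ := exists_prime_orderOf_dvd_card' (G := (ZMod p)ˣ) q (by rw [hcard]; exact hdvd)
    have h1 := Nat.le_of_dvd (by omega) hdvd
    refine key u q 1 hq (by omega) (by rw [pow_one]; exact hu) ?_
    have := hq.two_le
    rcases hodd with ⟨m, hm⟩
    rw [pow_one]; omega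

theorem le_normalizer_inf {A H K : Subgroup GLM} (h1 : A ≤ Subgroup.normalizer (H : Set GLM))
    (h2 : A ≤ Subgroup.normalizer (K : Set GLM)) : A ≤ Subgroup.normalizer ((H ⊓ K : Subgroup GLM) : Set GLM) :=
  CfsgLib.Coprime.le_normalizer_inf_inf h1 h2

theorem le_normalizer_of_conj {A B : Subgroup GLM} (h : ∀ a ∈ A, ∀ b ∈ B, a * b * a⁻¹ ∈ B) :
    A ≤ Subgroup.normalizer (B : Set GLM) := by
  intro a ha
  rw [Subgroup.mem_normalizer_iff]
  refine fun b => ⟨h a ha b, fun hb => ?_⟩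
  have := h a⁻¹ (A.inv_mem ha) _ hb
  simpa [mul_assoc] using this

theorem le_normalizer_centralizer {A H : Subgroup GLM} (h : A ≤ Subgroup.normalizer (H : Set GLM)) :
    A ≤ Subgroup.normalizer ((Subgroup.centralizer (H : Set GLM) : Subgroup GLM) : Set GLM) := by
  refine le_normalizer_of_conj fun a ha c hc => Subgroup.mem_centralizer_iff.2 fun t ht => ?_
  have ht' : a⁻¹ * t * a ∈ H := by
    have := (Subgroup.mem_normalizer_iff.1 (inv_mem (h ha)) t).1 ht
    simpa using this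
  have e := Subgroup.mem_centralizer_iff.1 hc _ ht'
  calc t * (a * c * a⁻¹) = a * (a⁻¹ * t * a * c) * a⁻¹ := by group
    _ = a * (c * (a⁻¹ * t * a)) * a⁻¹ := by rw [e]
    _ = a * c * a⁻¹ * t := by group

theorem exists_noncommuting_roots [Finite GLM] (hp : 3 < p) (hG : NoPCore p G) (ha : QMin G a) :
    ∃ g ∈ qG0 G, ∃ g' ∈ qG0 G, g * g' ≠ g' * g := by
  obtain ⟨g, hg, hl⟩ := exists_linked' (two_ne hp) (card_ne_three hp) hG ha
  have hb := ha.conj hg
  refine ⟨qel (eConj g a), qel_mem_qG0 hb (self_mem_eSpace hb), qel a, qel_mem_qG0 ha (self_mem_eSpace ha),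
    fun h => not_linked_of_commute (two_ne hp) hb ha.sq ((qel_commute_iff hb.sq ha.sq).1 h) hl⟩

section Min

variable [Finite (LinearMap.GeneralLinearGroup (ZMod p) V)] {r : ℕ} [Fact r.Prime] (hp : 3 < p)
  (hRr : IsPGroup r R)
  (hn : R ≤ Subgroup.normalizer (G : Set (LinearMap.GeneralLinearGroup (ZMod p) V)))
  (hcop : (Nat.card G).Coprime r) (hG : NoPCore p G) (IH : SubgroupHyp p G R)

include hp hRr hn hcop hG IH

omit hp hRr hcop hG IH in
theorem conj_quad (hs : s * s = 0) (hsP : qel s ∈ invCap p G R) {g : GLM} (hg : g ∈ R) :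
    eConj g s * eConj g s = 0 ∧ qel (eConj g s) ∈ invCap p G R :=
  ⟨eConj_sq hs, by rw [← qel_conj hs]; exact conj_mem_invCap (hn hg) (Subgroup.le_normalizer hg) hsP⟩

/-- The group is generated by the root subgroups and the conjugates of any invariant quadratic element. -/
theorem sup_orbit_eq (hs : s * s = 0) (hs0 : s ≠ 0) (hsP : qel s ∈ invCap p G R) :
    qG0 G ⊔ Subgroup.closure ((fun g => g * qel s * g⁻¹) '' (R : Set GLM)) = G := by
  set Q := Subgroup.closure ((fun g => g * qel s * g⁻¹) '' (R : Set GLM)) with hQ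
  have hQG : Q ≤ G := (Subgroup.closure_le _).2 (by
    rintro _ ⟨g, hg, rfl⟩
    exact invCap_le (conj_mem_invCap (hn hg) (Subgroup.le_normalizer hg) hsP))
  have hsQ : qel s ∈ Q := Subgroup.subset_closure ⟨1, R.one_mem, by simp⟩
  have hNq : R ≤ Subgroup.normalizer (qG0 G : Set GLM) := fun g hg => conjBy_eq_self_iff.1 (conjBy_qG0 (hn hg))
  have hNQ : R ≤ Subgroup.normalizer (Q : Set GLM) := by
    refine le_normalizer_of_conj fun g hg x hx => ?_
    have hle : Q ≤ Q.comap (MulAut.conj g).toMonoidHom := by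
      rw [hQ, Subgroup.closure_le]
      rintro _ ⟨g', hg', rfl⟩
      refine Subgroup.subset_closure ⟨g * g', R.mul_mem hg hg', ?_⟩
      show _ = g * (g' * qel s * g'⁻¹) * g⁻¹
      group
    exact hle hx
  have hnorm : R ≤ Subgroup.normalizer ((qG0 G ⊔ Q : Subgroup GLM) : Set GLM) := by
    intro g hg
    refine conjBy_eq_self_iff.1 ?_
    rw [conjBy, Subgroup.map_sup]
    exact congrArg₂ (· ⊔ ·) (conjBy_eq_self_iff.2 (hNq hg)) (conjBy_eq_self_iff.2 (hNQ hg))
  by_contra hne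
  obtain ⟨N, hNle, hNn, hNp, hsN⟩ := IH _ R (sup_le qG0_le hQG) hne le_rfl hnorm s hs
    (mem_invCap_of_le hRr hnorm (sup_le qG0_le hQG) hcop hsP (Subgroup.mem_sup_right hsQ))
  have hqn : G ≤ Subgroup.normalizer (qG0 G : Set GLM) := fun g hg =>
    conjBy_eq_self_iff.1 (conjBy_qG0 (Subgroup.le_normalizer hg))
  have hG0 : NoPCore p (qG0 G) := NoPCore.normal hG qG0_le hqn
  have hbot : qG0 G ⊓ N = ⊥ := hG0 _ inf_le_left
    (le_normalizer_inf Subgroup.le_normalizer ((le_sup_left).trans hNn)) (hNp.to_le inf_le_right)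
  have hsC : qel s ∈ G ⊓ Subgroup.centralizer (qG0 G : Set GLM) := by
    refine ⟨invCap_le hsP, Subgroup.mem_centralizer_iff.2 fun t ht => ?_⟩
    have h1 : t * qel s * t⁻¹ * (qel s)⁻¹ ∈ qG0 G ⊓ N := by
      refine ⟨?_, N.mul_mem ((Subgroup.mem_normalizer_iff.1 (hNn (Subgroup.mem_sup_left ht)) _).1 hsN)
        (N.inv_mem hsN)⟩
      have h2 : qel s * t⁻¹ * (qel s)⁻¹ ∈ qG0 G :=
        (Subgroup.mem_normalizer_iff.1 (hqn (invCap_le hsP)) _).1 ((qG0 G).inv_mem ht)
      have e : t * qel s * t⁻¹ * (qel s)⁻¹ = t * (qel s * t⁻¹ * (qel s)⁻¹) := by group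
      rw [e]; exact (qG0 G).mul_mem ht h2
    rw [hbot, Subgroup.mem_bot] at h1
    calc t * qel s = t * qel s * t⁻¹ * (qel s)⁻¹ * (qel s * t) := by group
      _ = qel s * t := by rw [h1, one_mul]
  set C := G ⊓ Subgroup.centralizer (qG0 G : Set GLM) with hC
  have hCne : C ≠ G := by
    obtain ⟨a, ha⟩ := exists_qmin (qfam_of_mem hs (invCap_le hsP)) hs0
    obtain ⟨g, hg, g', hg', hgg⟩ := exists_noncommuting_roots hp hG ha
    intro e
    have : g ∈ C := by rw [e]; exact qG0_le hg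
    exact hgg (Subgroup.mem_centralizer_iff.1 this.2 g' hg').symm
  have hCn : R ≤ Subgroup.normalizer (C : Set GLM) := le_normalizer_inf hn (le_normalizer_centralizer hNq)
  have h := IH C R inf_le_left hCne le_rfl hCn s hs (mem_invCap_of_le hRr hCn inf_le_left hcop hsP hsC)
  have h1 := h.eq_one (NoPCore.normal hG inf_le_left
    (le_normalizer_inf Subgroup.le_normalizer (le_normalizer_centralizer hqn)))
  exact qel_ne_one hs hs0 h1

/-- Only zero centralizes the root subgroups. -/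
theorem cent_zero (hs : s * s = 0) (hs0 : s ≠ 0) (hsP : qel s ∈ invCap p G R) :
    ∀ x, QFam G x → (∀ a, QMin G a → a * x = x * a) → x = 0 := by
  intro x hx hxc
  by_contra hx0
  set Q := Subgroup.closure ((fun g => g * qel s * g⁻¹) '' (R : Set GLM)) with hQ
  have hQp : IsPGroup p Q := isPGroup_invCap.to_le ((Subgroup.closure_le _).2 (by
    rintro _ ⟨g, hg, rfl⟩
    exact conj_mem_invCap (hn hg) (Subgroup.le_normalizer hg) hsP))
  have hgen := sup_orbit_eq hp hRr hn hcop hG IH hs hs0 hsP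
  have hqn : G ≤ Subgroup.normalizer (qG0 G : Set GLM) := fun g hg =>
    conjBy_eq_self_iff.1 (conjBy_qG0 (Subgroup.le_normalizer hg))
  set C := G ⊓ Subgroup.centralizer (qG0 G : Set GLM) with hC
  have hpow : ∀ g ∈ G, ∃ m : ℕ, g ^ p ^ m ∈ qG0 G := by
    intro g hg
    have hg' : g ∈ qG0 G ⊔ Q := by rw [hgen]; exact hg
    have hQn : Q ≤ Subgroup.normalizer (qG0 G : Set GLM) := by
      refine le_trans ?_ hqn
      conv_rhs => rw [← hgen]
      exact le_sup_right
    have hg2 : g ∈ ((qG0 G ⊔ Q : Subgroup GLM) : Set GLM) := hg'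
    rw [Subgroup.coe_mul_of_right_le_normalizer_left (qG0 G) Q hQn] at hg2
    obtain ⟨t, ht, u, hu, rfl⟩ := hg2
    have step : ∀ i : ℕ, ∃ t' ∈ qG0 G, (t * u) ^ i = t' * u ^ i := by
      intro i
      induction i with
      | zero => exact ⟨1, one_mem _, by simp⟩
      | succ i ih =>
        obtain ⟨t', ht', e⟩ := ih
        refine ⟨t' * (u ^ i * t * (u ^ i)⁻¹), mul_mem ht'
          ((Subgroup.mem_normalizer_iff.1 (hQn (Q.pow_mem hu i)) t).1 ht), ?_⟩
        rw [pow_succ, e, pow_succ]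
        group
    obtain ⟨m, hm⟩ := hQp ⟨u, hu⟩
    obtain ⟨t', ht', e⟩ := step (p ^ m)
    refine ⟨m, ?_⟩
    have hm' : u ^ p ^ m = 1 := congrArg Subtype.val hm
    rw [e, hm', mul_one]
    exact ht'
  haveI : Group.IsNilpotent C := by
    have hP : IsPGroup p (C ⧸ Subgroup.center C) := by
      intro z
      obtain ⟨c, rfl⟩ := QuotientGroup.mk_surjective z
      obtain ⟨m, hm⟩ := hpow c c.2.1
      refine ⟨m, ?_⟩
      rw [← QuotientGroup.mk_pow, QuotientGroup.eq_one_iff, Subgroup.mem_center_iff]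
      intro d
      refine Subtype.ext ?_
      show (d : GLM) * ((c ^ p ^ m : C) : GLM) = ((c ^ p ^ m : C) : GLM) * (d : GLM)
      rw [Subgroup.coe_pow]
      exact (Subgroup.mem_centralizer_iff.1 d.2.2 _ hm).symm
    exact Group.of_quotient_center_nilpotent hP.isNilpotent
  have hxC : qel x ∈ C := ⟨hx.mem, qel_mem_centralizer_qG0 hx.1 hxc⟩
  obtain ⟨S, hS⟩ : ∃ S : Sylow p C, (⟨qel x, hxC⟩ : C) ∈ (S : Subgroup C) := by
    have hz : IsPGroup p (Subgroup.zpowers (⟨qel x, hxC⟩ : C)) := by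
      have h1 : (⟨qel x, hxC⟩ : C) ^ p = 1 := Subtype.ext (by
        rw [Subgroup.coe_pow, qel_pow hx.1, ZMod.natCast_self, zero_smul, qel_zero, Subgroup.coe_one])
      rintro ⟨y, hy⟩
      obtain ⟨i, rfl⟩ := Subgroup.mem_zpowers_iff.1 hy
      refine ⟨1, Subtype.ext ?_⟩
      show ((⟨qel x, hxC⟩ : C) ^ i) ^ p ^ 1 = 1
      rw [pow_one, ← zpow_natCast, ← zpow_mul, mul_comm, zpow_mul, zpow_natCast, h1, one_zpow]
    obtain ⟨S, hS⟩ := hz.exists_le_sylow
    exact ⟨S, hS (Subgroup.mem_zpowers _)⟩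
  haveI : (S : Subgroup C).Normal := Sylow.normal_of_normalizerCondition Group.normalizerCondition_of_isNilpotent S
  have hCn : C ≤ Subgroup.normalizer ((S : Subgroup C).map C.subtype : Set GLM) := by
    refine le_normalizer_of_conj fun c hc y hy => ?_
    obtain ⟨y', hy', rfl⟩ := hy
    exact ⟨⟨c, hc⟩ * y' * ⟨c, hc⟩⁻¹, Subgroup.Normal.conj_mem ‹_› y' hy' _, rfl⟩
  have h0 := NoPCore.normal hG inf_le_left (le_normalizer_inf Subgroup.le_normalizer
    (le_normalizer_centralizer hqn)) _ (Subgroup.map_subtype_le _) hCn (S.2.map _)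
  have h1 : qel x ∈ (S : Subgroup C).map C.subtype := ⟨_, hS, rfl⟩
  rw [h0, Subgroup.mem_bot] at h1
  exact qel_ne_one hx.1 hx0 h1

/-- Partners exist. -/
theorem exists_partner_min {l : ZMod p} (hl0 : l ≠ 0) (hl1 : l ≠ 1) (hl2 : l * l ≠ 1) {q n : ℕ}
    [Fact q.Prime] (hqp : q ≠ p) (hlq : l ^ q ^ n = 1) (hs : s * s = 0) (hs0 : s ≠ 0)
    (hsP : qel s ∈ invCap p G R) : ∀ z, QFam G z → z ≠ 0 → ∃ w, IsPartner G z w :=
  fun _ hz hz0 => exists_partner (two_ne hp) (card_ne_three hp) hG hl0 hl1 hl2 hqp hlq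
    (cent_zero hp hRr hn hcop hG IH hs hs0 hsP) hz hz0

/-- An invariant quadratic element centralizes no invariant non-central coprime group. -/
theorem not_centralized {l : ZMod p} (hl0 : l ≠ 0) (hl1 : l ≠ 1) (hl2 : l * l ≠ 1) {q₀ n : ℕ}
    [Fact q₀.Prime] (hq₀p : q₀ ≠ p) (hlq : l ^ q₀ ^ n = 1)
    {q : ℕ} [Fact q.Prime] (hqp : q ≠ p) {H : Subgroup GLM} (hHq : IsPGroup q H) (hHG : H ≤ G)
    (hHn : R ≤ Subgroup.normalizer (H : Set GLM)) (hH : ∃ h ∈ H, ∃ g ∈ G, g * h ≠ h * g)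
    (hs : s * s = 0) (hsP : qel s ∈ invCap p G R) (hc : ∀ h ∈ H, h * qel s = qel s * h) : s = 0 := by
  by_contra hs0
  have hsF : QFam G s := qfam_of_mem hs (invCap_le hsP)
  set C := G ⊓ Subgroup.centralizer (H : Set GLM) with hC
  have hsC : qel s ∈ C := ⟨invCap_le hsP, Subgroup.mem_centralizer_iff.2 fun h hh => hc h hh⟩
  have hCne : C ≠ G := by
    obtain ⟨h, hh, g, hg, hgh⟩ := hH
    intro e
    have : g ∈ C := by rw [e]; exact hg
    exact hgh (Subgroup.mem_centralizer_iff.1 this.2 h hh).symm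
  have hCn : R ≤ Subgroup.normalizer (C : Set GLM) := le_normalizer_inf hn (le_normalizer_centralizer hHn)
  obtain ⟨N, hNC, hNn, hNp, hsN⟩ :=
    IH C R inf_le_left hCne le_rfl hCn s hs (mem_invCap_of_le hRr hCn inf_le_left hcop hsP hsC)
  obtain ⟨w, hw⟩ := exists_partner_min hp hRr hn hcop hG IH hl0 hl1 hl2 hq₀p hlq hs hs0 hsP s hsF hs0
  have hfixs : ∀ h ∈ H, eConj h s = s := by
    intro h hh
    have h1 : h * qel s * h⁻¹ = qel s := by rw [hc h hh, mul_inv_cancel_right]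
    rw [qel_conj hs] at h1
    have := congrArg udif h1
    rwa [udif_qel (eConj_sq hs), udif_qel hs] at this
  obtain ⟨y, hy, -, hyH⟩ := exists_fixed_partner (p := p) hsF hl0 hl1 hl2 ∅ (fun t ht => ht.elim) hw
    (fun t ht => ht.elim) hqp (hHq.map (MonoidHom.inl GLM (ZMod p)ˣ)) (by
      rintro _ ⟨h, hh, rfl⟩
      refine ⟨⟨Subgroup.le_normalizer (hHG hh), ?_⟩, fun t ht => ht.elim⟩
      simp [hfixs h hh])
  have hyC : qel y ∈ C := by
    refine ⟨hy.fam.mem, Subgroup.mem_centralizer_iff.2 fun h hh => ?_⟩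
    have h1 := hyH _ ⟨h, hh, rfl⟩
    rw [twPerm_apply] at h1
    simp only [MonoidHom.inl_apply, Units.val_one, one_smul] at h1
    have h2 : h * qel y * h⁻¹ = qel y := by rw [qel_conj hy.yy, h1]
    calc h * qel y = h * qel y * h⁻¹ * h := by group
      _ = qel y * h := by rw [h2]
  have hzp : IsPGroup p (Subgroup.zpowers (qel y)) := by
    rintro ⟨z, hz⟩
    obtain ⟨i, rfl⟩ := Subgroup.mem_zpowers_iff.1 hz
    refine ⟨1, Subtype.ext ?_⟩
    show ((qel y) ^ i) ^ p ^ 1 = 1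
    rw [pow_one, ← zpow_natCast, ← zpow_mul, mul_comm, zpow_mul, zpow_natCast, qel_pow hy.yy,
      ZMod.natCast_self, zero_smul, qel_zero, one_zpow]
  exact hy.not_pgroup hs0 (IsPGroup.to_sup_of_normal_left' hNp hzp ((Subgroup.zpowers_le.2 hyC).trans hNn))
    (Subgroup.mem_sup_left hsN) (Subgroup.mem_sup_right (Subgroup.mem_zpowers _))

/-- An invariant quadratic element fixes every class of root subgroups. -/
theorem class_fixed (hs : s * s = 0) (hsP : qel s ∈ invCap p G R) (ha : QMin G a) :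
    conjBy (eGrp G a ha) (qel s) ∈ rootCls G (eGrp G a ha) := by
  haveI : NeZero p := ⟨(Fact.out : p.Prime).ne_zero⟩
  have h2 := two_ne hp
  have h3 := card_ne_three hp
  have hsF : QFam G s := qfam_of_mem hs (invCap_le hsP)
  by_contra hmove
  let K : Subgroup GLM :=
    { carrier := {g | g ∈ G ∧ conjBy (eGrp G a ha) g ∈ rootCls G (eGrp G a ha)}
      one_mem' := ⟨one_mem G, by rw [conjBy_one]; exact self_mem_rootCls _⟩
      mul_mem' := fun {g g'} hg hg' => ⟨mul_mem hg.1 hg'.1, by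
        rw [conjBy_mul]
        exact rootCls_trans hg.2 (rootCls_conj (Subgroup.le_normalizer hg.1) hg'.2)⟩
      inv_mem' := fun {g} hg => ⟨inv_mem hg.1, by
        have h := rootCls_conj (Subgroup.le_normalizer (inv_mem hg.1)) hg.2
        rw [conjBy_inv_conjBy] at h
        exact rootCls_symm h⟩ }
  have hK : ∀ c : ZMod p, c ≠ 0 → qel (c • s) ∉ K := by
    intro c hc h
    have h1 := smul_mem_of_qel (smul_sq_zero hs c) h c⁻¹
    rw [smul_smul, inv_mul_cancel₀ hc, one_smul] at h1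
    exact hmove h1.2
  set A : ZMod p → EndM := fun t => eConj (qel (t • s)) a with hA
  have hAm : ∀ t, QMin G (A t) := fun t => ha.conj (hsF.2 t)
  have hsep : ∀ t t' : ZMod p, t ≠ t' → eGrp G (A t') (hAm t') ∉ rootCls G (eGrp G (A t) (hAm t)) := by
    intro t t' htt h
    refine hK (t' - t) (sub_ne_zero.2 (Ne.symm htt)) ⟨hsF.2 _, ?_⟩
    have h1 := rootCls_conj (g := qel ((-t) • s)) (Subgroup.le_normalizer (hsF.2 _)) h
    rw [← conjBy_eGrp ha (hsF.2 t'), ← conjBy_eGrp ha (hsF.2 t), ← conjBy_mul, ← conjBy_mul,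
      qel_mul (smul_sq_zero hs _) (smul_sq_zero hs _) (by rw [smul_mul_smul_comm, hs, smul_zero])
        (by rw [smul_mul_smul_comm, hs, smul_zero]),
      qel_mul (smul_sq_zero hs _) (smul_sq_zero hs _) (by rw [smul_mul_smul_comm, hs, smul_zero])
        (by rw [smul_mul_smul_comm, hs, smul_zero]), ← add_smul, ← add_smul, neg_add_cancel, zero_smul,
      qel_zero, conjBy_one] at h1
    rwa [sub_eq_neg_add]
  obtain ⟨g, hg, hl⟩ := exists_linked' h2 h3 hG (hAm 3)
  set f := eConj g (A 3)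
  have hf : QMin G f := (hAm 3).conj hg
  have hcomm : ∀ t : ZMod p, t ≠ 3 → A t * f = f * A t := by
    intro t ht
    rcases cls_or_commute (p := p) h2 h3 hG (hAm t) hf with h | h
    · exfalso
      exact hsep t 3 ht (rootCls_trans h (cls_of_linked h2 h3 hf (hAm 3) hl))
    · exact ((eGrp_bot_iff h2 h3 (hAm t) hf).1 h).2
  have hne : ∀ i : ℕ, i < 3 → ((i : ZMod p)) ≠ 3 := by
    intro i hi h
    have e : ((3 : ℕ) : ZMod p) = ((i : ℕ) : ZMod p) := by rw [h]; norm_num
    rw [ZMod.natCast_eq_natCast_iff' , Nat.mod_eq_of_lt (by omega), Nat.mod_eq_of_lt (by omega)] at e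
    omega
  have c0 := hcomm 0 (by exact_mod_cast hne 0 (by norm_num))
  have c1 := hcomm 1 (by exact_mod_cast hne 1 (by norm_num))
  have c2 := hcomm 2 (by exact_mod_cast hne 2 (by norm_num))
  have hval : ∀ t : ZMod p, A t = a + t • (s * a - a * s) - (t * t) • (s * a * s) := by
    intro t
    simp only [hA]
    rw [eConj_qel_self (smul_sq_zero hs t), smul_mul_assoc, mul_smul_comm, smul_mul_assoc, mul_smul_comm,
      smul_smul, smul_sub]
  have hid : A 3 = (3 : ZMod p) • A 2 - (3 : ZMod p) • A 1 + A 0 := by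
    simp only [hval]; module
  refine not_linked_of_commute h2 (hAm 3) hf.sq ?_ hl.symm
  rw [hid]
  simp only [add_mul, sub_mul, mul_add, mul_sub, smul_mul_assoc, mul_smul_comm, c0, c1, c2]

end Min

end CfsgLib.Flavell
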