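import Mathlib
import Cfsg.Agent.Lib.Flavell.CoreBase

/-!
The commutator of an invariant quadratic element with a fixed root element has its component in the
intersection of the invariant `p`-subgroups of the class group.
-/

set_option autoImplicit false
set_option linter.unusedSectionVars false
set_option linter.unusedSimpArgs false
set_option linter.style.haveILetI false

namespace CfsgLib.Flavell

open Cfsg CfsgLib.ThreeTransp

universe u

variable {p : ℕ} [Fact p.Prime] {V : Type u} [AddCommGroup V] [Module (ZMod p) V]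
  [FiniteDimensional (ZMod p) V] {G R : Subgroup (LinearMap.GeneralLinearGroup (ZMod p) V)}

local notation "GLM" => LinearMap.GeneralLinearGroup (ZMod p) V
local notation "EndM" => Module.End (ZMod p) V

variable {s x a e : Module.End (ZMod p) V}

/-- The group generated by a class of root subgroups. -/
def clsGrp (G A : Subgroup (LinearMap.GeneralLinearGroup (ZMod p) V)) :
    Subgroup (LinearMap.GeneralLinearGroup (ZMod p) V) :=
  ⨆ B : rootCls G A, (B : Subgroup (LinearMap.GeneralLinearGroup (ZMod p) V))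

theorem le_clsGrp {A B : Subgroup GLM} (h : B ∈ rootCls G A) : B ≤ clsGrp G A :=
  le_iSup (fun B : rootCls G A => (B : Subgroup GLM)) ⟨B, h⟩

theorem clsGrp_congr {A B : Subgroup GLM} (h : B ∈ rootCls G A) : clsGrp G B = clsGrp G A := by
  refine le_antisymm (iSup_le fun C => le_clsGrp (rootCls_trans h C.2))
    (iSup_le fun C => le_clsGrp (rootCls_trans (rootCls_symm h) C.2))

theorem mem_cls_root (ha : QMin G a) {B : Subgroup GLM} (hB : B ∈ rootCls G (eGrp G a ha)) :
    ∃ x, ∃ hx : QMin G x, B = eGrp G x hx := by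
  obtain ⟨t, ht, rfl⟩ := hB
  exact ⟨_, _, conjBy_eGrp ha (qG0_le ht)⟩

theorem clsGrp_le (ha : QMin G a) : clsGrp G (eGrp G a ha) ≤ qG0 G := iSup_le fun B => by
  obtain ⟨x, hx, e⟩ := mem_cls_root ha B.2
  rw [e]; exact le_qG0 (mem_quadraticRootSubgroups.2 ⟨_, hx, rfl⟩)

theorem conjBy_clsGrp {A : Subgroup GLM} {g : GLM} (hg : g ∈ Subgroup.normalizer (G : Set GLM)) :
    conjBy (clsGrp G A) g = clsGrp G (conjBy A g) := by
  refine le_antisymm ?_ (iSup_le fun C => ?_)
  · rw [clsGrp, conjBy, Subgroup.map_iSup]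
    exact iSup_le fun B => le_clsGrp (rootCls_conj hg B.2)
  · have h1 : conjBy (C : Subgroup GLM) g⁻¹ ∈ rootCls G A := by
      have := rootCls_conj (inv_mem hg) C.2
      rwa [conjBy_inv_conjBy] at this
    rw [← conjBy_conjBy_inv (C : Subgroup GLM) g]
    exact conjBy_mono g (le_clsGrp h1)

theorem qG0_le_normalizer_clsGrp {A : Subgroup GLM} :
    qG0 G ≤ Subgroup.normalizer (clsGrp G A : Set GLM) := fun t ht => by
  refine conjBy_eq_self_iff.1 ?_
  rw [conjBy_clsGrp (Subgroup.le_normalizer (qG0_le ht))]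
  exact clsGrp_congr ⟨t, ht, rfl⟩

theorem clsGrp_commute (hp : 3 < p) (hG : NoPCore p G) (ha : QMin G a) (hx : QMin G x)
    (h : eGrp G x hx ∉ rootCls G (eGrp G a ha)) :
    ∀ u ∈ clsGrp G (eGrp G a ha), ∀ v ∈ eGrp G x hx, u * v = v * u := by
  have key : ∀ B : rootCls G (eGrp G a ha), (B : Subgroup GLM) ≤
      Subgroup.centralizer (eGrp G x hx : Set GLM) := by
    intro B u hu
    obtain ⟨y, hy, e⟩ := mem_cls_root ha B.2
    rw [e] at hu
    refine Subgroup.mem_centralizer_iff.2 fun v hv => ?_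
    rcases cls_or_commute (p := p) (two_ne hp) (card_ne_three hp) hG hy hx with h1 | h1
    · rw [← e] at h1; exact absurd (rootCls_trans B.2 h1) h
    · exact (comm_of_bot h1 hu hv).symm
  intro u hu v hv
  exact (Subgroup.mem_centralizer_iff.1 ((iSup_le key : clsGrp G (eGrp G a ha) ≤ _) hu) v hv).symm

/-- The operators fixing a class. -/
def classStab (G R : Subgroup (LinearMap.GeneralLinearGroup (ZMod p) V))
    (hn : R ≤ Subgroup.normalizer (G : Set (LinearMap.GeneralLinearGroup (ZMod p) V)))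
    (A : Subgroup (LinearMap.GeneralLinearGroup (ZMod p) V)) :
    Subgroup (LinearMap.GeneralLinearGroup (ZMod p) V) where
  carrier := {g | g ∈ R ∧ conjBy A g ∈ rootCls G A}
  one_mem' := ⟨one_mem R, by rw [conjBy_one]; exact self_mem_rootCls _⟩
  mul_mem' := fun {g g'} hg hg' => ⟨mul_mem hg.1 hg'.1, by
    rw [conjBy_mul]
    exact rootCls_trans hg.2 (rootCls_conj (hn hg.1) hg'.2)⟩
  inv_mem' := fun {g} hg => ⟨inv_mem hg.1, by
    have h := rootCls_conj (hn (inv_mem hg.1)) hg.2
    rw [conjBy_inv_conjBy] at h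
    exact rootCls_symm h⟩

theorem classStab_le {hn : R ≤ Subgroup.normalizer (G : Set GLM)} {A : Subgroup GLM} :
    classStab G R hn A ≤ R := fun _ hg => hg.1

theorem classStab_norm {hn : R ≤ Subgroup.normalizer (G : Set GLM)} {A : Subgroup GLM} :
    classStab G R hn A ≤ Subgroup.normalizer (clsGrp G A : Set GLM) := fun g hg => by
  refine conjBy_eq_self_iff.1 ?_
  rw [conjBy_clsGrp (hn hg.1)]
  exact clsGrp_congr hg.2

theorem clsGrp_conj_commute (hp : 3 < p) (hG : NoPCore p G) (ha : QMin G a) {g : GLM}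
    (hg : g ∈ Subgroup.normalizer (G : Set GLM))
    (h : conjBy (eGrp G a ha) g ∉ rootCls G (eGrp G a ha)) :
    ∀ u ∈ clsGrp G (eGrp G a ha), ∀ v ∈ conjBy (clsGrp G (eGrp G a ha)) g, u * v = v * u := by
  intro u hu v hv
  rw [conjBy_clsGrp hg] at hv
  have key : clsGrp G (conjBy (eGrp G a ha) g) ≤ Subgroup.centralizer ({u} : Set GLM) := iSup_le fun B => by
    obtain ⟨t, ht, e⟩ := B.2
    intro w hw
    refine Subgroup.mem_centralizer_iff.2 fun z hz => ?_
    rw [Set.mem_singleton_iff] at hz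
    subst hz
    rw [e, conjBy_eGrpN ha hg, conjBy_eGrp (qmin_conjN ha hg) (qG0_le ht)] at hw
    refine clsGrp_commute hp hG ha _ (fun h1 => h ?_) _ hu w hw
    rw [← conjBy_eGrp (qmin_conjN ha hg) (qG0_le ht), ← conjBy_eGrpN ha hg, ← e] at h1
    exact rootCls_trans h1 (rootCls_symm B.2)
  exact (Subgroup.mem_centralizer_iff.1 (key hv) u rfl)

section Min

variable [Finite (LinearMap.GeneralLinearGroup (ZMod p) V)] {r : ℕ} [Fact r.Prime] (hp : 3 < p)
  (hRr : IsPGroup r R)
  (hn : R ≤ Subgroup.normalizer (G : Set (LinearMap.GeneralLinearGroup (ZMod p) V)))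
  (hcop : (Nat.card G).Coprime r) (hG : NoPCore p G) (IH : SubgroupHyp p G R)

include hp hRr hn hcop hG IH

theorem class_fixed_normalizer (hs : s * s = 0) (hsP : qel s ∈ invCap p G R) (ha : QMin G a) :
    qel s ∈ Subgroup.normalizer (clsGrp G (eGrp G a ha) : Set GLM) := by
  refine conjBy_eq_self_iff.1 ?_
  rw [conjBy_clsGrp (Subgroup.le_normalizer (invCap_le hsP))]
  exact clsGrp_congr (class_fixed hp hRr hn hcop hG IH hs hsP ha)

theorem commutator_component (he : QMin G e)
    (hfix : ∀ g ∈ classStab G R hn (eGrp G e he), eConj g e = e)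
    (hs : s * s = 0) (hsP : qel s ∈ invCap p G R) :
    qel s * qel e * (qel s)⁻¹ * (qel e)⁻¹ ∈
        invCap p (clsGrp G (eGrp G e he)) (classStab G R hn (eGrp G e he)) ∧
      e * s * e = 0 := by
  classical
  set A := eGrp G e he with hA
  set T := clsGrp G A with hT
  set R₁ := classStab G R hn A with hR₁
  have h2 := two_ne hp
  have h3 := card_ne_three hp
  have hTG : T ≤ G := (clsGrp_le he).trans qG0_le
  have hsT : qel s ∈ Subgroup.normalizer (T : Set GLM) := class_fixed_normalizer hp hRr hn hcop hG IH hs hsP he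
  have heT : qel e ∈ T := le_clsGrp (self_mem_rootCls A) (qel_self_mem_eGrp he)
  have hext : ∀ U : Subgroup GLM, U ≤ T → IsPGroup p U → R₁ ≤ Subgroup.normalizer (U : Set GLM) →
      ∃ Q, IsInvP p G R Q ∧ U ≤ Q := by
    intro U hUT hUp hUn
    obtain ⟨Q, hQp, hQR, hUQ, hQmin⟩ := orbit_sup_isPGroup R U hUp fun g hg => by
      by_cases h : conjBy A g ∈ rootCls G A
      · exact Or.inl (conjBy_eq_self_iff.2 (hUn ⟨hg, h⟩))
      · exact Or.inr fun u hu v hv =>
          clsGrp_conj_commute hp hG he (hn hg) h u (hUT hu) v (conjBy_mono g hUT hv)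
    exact ⟨Q, ⟨hQmin G (hUT.trans hTG) hn, hQp, hQR⟩, hUQ⟩
  -- the root element and `s` generate a `p`-group
  have hzp : IsPGroup p (Subgroup.zpowers (qel e)) := by
    rintro ⟨z, hz⟩
    obtain ⟨i, rfl⟩ := Subgroup.mem_zpowers_iff.1 hz
    refine ⟨1, Subtype.ext ?_⟩
    show ((qel e) ^ i) ^ p ^ 1 = 1
    rw [pow_one, ← zpow_natCast, ← zpow_mul, mul_comm, zpow_mul, zpow_natCast, qel_pow he.sq,
      ZMod.natCast_self, zero_smul, qel_zero, one_zpow]
  obtain ⟨Qe, hQe, heQe⟩ := hext (Subgroup.zpowers (qel e)) (Subgroup.zpowers_le.2 heT) hzp (by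
    refine le_normalizer_of_conj fun g hg b hb => ?_
    obtain ⟨i, rfl⟩ := Subgroup.mem_zpowers_iff.1 hb
    refine ⟨i, ?_⟩
    show qel e ^ i = g * qel e ^ i * g⁻¹
    rw [← conj_zpow, qel_conj he.sq, hfix g hg])
  have hW := isPGroup_sup_of_mem hQe hsP
  have hσ : qel s ∈ Qe ⊔ Subgroup.zpowers (qel s) := Subgroup.mem_sup_right (Subgroup.mem_zpowers _)
  have hε : qel e ∈ Qe ⊔ Subgroup.zpowers (qel s) := Subgroup.mem_sup_left (heQe (Subgroup.mem_zpowers _))
  refine ⟨?_, sandwich_zero h2 h3 (qfam_of_mem hs (invCap_le hsP)) he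
    (nilpotent_of_pgroup hW he.sq hs hε hσ)⟩
  set z₁ := qel s * qel e * (qel s)⁻¹ * (qel e)⁻¹ with hz₁
  have hz₁T : z₁ ∈ T := T.mul_mem ((Subgroup.mem_normalizer_iff.1 hsT _).1 heT) (T.inv_mem heT)
  -- the product over the orbit
  let O : Set EndM := (fun g : GLM => eConj g e) '' (R : Set GLM)
  haveI : Finite EndM := by
    haveI : Finite V := Module.finite_of_finite (ZMod p)
    exact Finite.of_injective (fun f => (f : V → V)) DFunLike.coe_injective
  haveI : Fintype O := Fintype.ofFinite _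
  have hOq : ∀ o : O, QMin G (o : EndM) := by
    rintro ⟨_, g, hg, rfl⟩; exact qmin_conjN he (hn hg)
  have hsame : ∀ o o' : O, eGrp G (o' : EndM) (hOq o') ∈ rootCls G (eGrp G (o : EndM) (hOq o)) → o = o' := by
    rintro ⟨_, g, hg, rfl⟩ ⟨_, g', hg', rfl⟩ h
    refine Subtype.ext ?_
    show eConj g e = eConj g' e
    rw [← conjBy_eGrpN he (hn hg), ← conjBy_eGrpN he (hn hg')] at h
    have h1 := rootCls_conj (hn (R.inv_mem hg)) h
    rw [← conjBy_mul, ← conjBy_mul, inv_mul_cancel, conjBy_one] at h1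
    have h4 := hfix (g⁻¹ * g') ⟨R.mul_mem (R.inv_mem hg) hg', h1⟩
    have := congrArg (eConj g) h4
    rw [eConj_comp, mul_inv_cancel_left] at this
    exact this.symm
  have hcommO : ∀ o o' : O, qel (o : EndM) * qel (o' : EndM) = qel (o' : EndM) * qel (o : EndM) := by
    intro o o'
    by_cases h : o = o'
    · rw [h]
    rcases cls_or_commute (p := p) h2 h3 hG (hOq o) (hOq o') with h1 | h1
    · exact absurd (hsame o o' h1) h
    · exact comm_of_bot h1 (qel_self_mem_eGrp _) (qel_self_mem_eGrp _)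
  let B : Subgroup GLM := Subgroup.closure (Set.range fun o : O => qel (o : EndM))
  have hBc : ∀ u ∈ B, ∀ v ∈ B, u * v = v * u := by
    have h1 : B ≤ Subgroup.centralizer (Set.range fun o : O => qel (o : EndM)) := (Subgroup.closure_le _).2 (by
      rintro _ ⟨o, rfl⟩
      refine Subgroup.mem_centralizer_iff.2 ?_
      rintro _ ⟨o', rfl⟩
      exact hcommO o' o)
    intro u hu v hv
    have h4 : B ≤ Subgroup.centralizer ({u} : Set GLM) := (Subgroup.closure_le _).2 (by
      rintro _ ⟨o, rfl⟩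
      refine Subgroup.mem_centralizer_iff.2 ?_
      intro z hz
      rw [Set.mem_singleton_iff] at hz
      subst hz
      exact (Subgroup.mem_centralizer_iff.1 (h1 hu) _ ⟨o, rfl⟩).symm)
    exact Subgroup.mem_centralizer_iff.1 (h4 hv) u rfl
  letI : CommGroup B :=
    { (inferInstance : Group B) with mul_comm := fun u v => Subtype.ext (hBc u u.2 v v.2) }
  let φ : O → B := fun o => ⟨qel (o : EndM), Subgroup.subset_closure ⟨o, rfl⟩⟩
  let E : GLM := ((∏ o, φ o : B) : GLM)
  let o₀ : O := ⟨e, 1, R.one_mem, eConj_one e⟩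
  let E' : GLM := ((∏ o ∈ Finset.univ.erase o₀, φ o : B) : GLM)
  have hEE' : E = qel e * E' := by
    show ((∏ o, φ o : B) : GLM) = _
    rw [← Finset.mul_prod_erase Finset.univ φ (Finset.mem_univ o₀), Subgroup.coe_mul]
  have hBG : B ≤ G := (Subgroup.closure_le _).2 (by rintro _ ⟨o, rfl⟩; exact (hOq o).1.mem)
  have hE'T : E' ∈ Subgroup.centralizer (T : Set GLM) := by
    have : (∏ o ∈ Finset.univ.erase o₀, φ o : B) ∈
        (Subgroup.centralizer (T : Set GLM)).comap B.subtype := by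
      refine Subgroup.prod_mem _ fun o ho => ?_
      refine Subgroup.mem_comap.2 (Subgroup.mem_centralizer_iff.2 fun t ht => ?_)
      refine clsGrp_commute hp hG he (hOq o) (fun h1 => ?_) t ht _ (qel_self_mem_eGrp (hOq o))
      exact (Finset.mem_erase.1 ho).1 (hsame o₀ o h1).symm
    exact this
  have hER : ∀ g ∈ R, g * E * g⁻¹ = E := by
    intro g hg
    have hgO : ∀ x ∈ O, eConj g x ∈ O := by
      rintro _ ⟨g', hg', rfl⟩; exact ⟨g * g', R.mul_mem hg hg', (eConj_comp g g' e).symm⟩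
    have hgO' : ∀ x ∈ O, eConj g⁻¹ x ∈ O := by
      rintro _ ⟨g', hg', rfl⟩
      exact ⟨g⁻¹ * g', R.mul_mem (R.inv_mem hg) hg', (eConj_comp g⁻¹ g' e).symm⟩
    let π : O ≃ O := ⟨fun o => ⟨_, hgO o o.2⟩, fun o => ⟨_, hgO' o o.2⟩,
      fun o => Subtype.ext (by simp [eConj_comp, eConj_one]),
      fun o => Subtype.ext (by simp [eConj_comp, eConj_one])⟩
    have hgB : g ∈ Subgroup.normalizer (B : Set GLM) := by
      refine conjBy_eq_self_iff.1 ?_
      show conjBy (Subgroup.closure _) g = Subgroup.closure _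
      rw [conjBy, MonoidHom.map_closure]
      congr 1
      ext x
      constructor
      · rintro ⟨_, ⟨o, rfl⟩, rfl⟩
        exact ⟨π o, (qel_conj (hOq o).sq).symm⟩
      · rintro ⟨o, rfl⟩
        refine ⟨_, ⟨π.symm o, rfl⟩, ?_⟩
        show g * qel (eConj g⁻¹ (o : EndM)) * g⁻¹ = _
        rw [qel_conj (eConj_sq (hOq o).sq), eConj_comp, mul_inv_cancel, eConj_one]
    let c : B →* B :=
      { toFun := fun b => ⟨g * b * g⁻¹, (Subgroup.mem_normalizer_iff.1 hgB _).1 b.2⟩
        map_one' := Subtype.ext (by simp)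
        map_mul' := fun b b' => Subtype.ext (by simp [mul_assoc]) }
    have h1 : c (∏ o, φ o) = ∏ o, φ o := by
      rw [map_prod, ← Equiv.prod_comp π φ]
      exact Finset.prod_congr rfl fun o _ => Subtype.ext (qel_conj (hOq o).sq)
    exact congrArg Subtype.val h1
  have hEG : E ∈ G := hBG (∏ o, φ o : B).2
  have hENR : E ∈ Subgroup.normalizer (R : Set GLM) := by
    rw [Subgroup.mem_normalizer_iff]
    intro g
    constructor
    · intro hg
      have h1 := hER g hg
      have : E * g * E⁻¹ = g := by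
        nth_rewrite 1 [← h1]; group
      rwa [this]
    · intro hg
      have h1 := hER _ hg
      have e2 : E * g * E⁻¹ = g := by
        have h4 : E * g * E⁻¹ * E = E * (E * g * E⁻¹) := by
          calc E * g * E⁻¹ * E = E * g * E⁻¹ * E * (E * g * E⁻¹)⁻¹ * (E * g * E⁻¹) := by group
            _ = E * (E * g * E⁻¹) := by rw [h1]
        calc E * g * E⁻¹ = E⁻¹ * (E * (E * g * E⁻¹)) := by group
          _ = E⁻¹ * (E * g * E⁻¹ * E) := by rw [h4]
          _ = g := by group
      rwa [e2] at hg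
  set z := qel s * E * (qel s)⁻¹ * E⁻¹ with hz
  have hzP : z ∈ invCap p G R := by
    rw [hz, show qel s * E * (qel s)⁻¹ * E⁻¹ = qel s * (E * (qel s)⁻¹ * E⁻¹) by group]
    exact mul_mem hsP (conj_mem_invCap (Subgroup.le_normalizer hEG) hENR (inv_mem hsP))
  set z' := qel e * (qel s * E' * (qel s)⁻¹ * E'⁻¹) * (qel e)⁻¹ with hz'
  have hzz : z = z₁ * z' := by
    have hc : E'⁻¹ * (qel e)⁻¹ = (qel e)⁻¹ * E'⁻¹ := by
      have h1 := Subgroup.mem_centralizer_iff.1 hE'T _ heT
      rw [← mul_inv_rev, ← mul_inv_rev, h1]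
    simp only [hz, hz₁, hz', hEE', mul_inv_rev, hc, mul_assoc, inv_mul_cancel_left]
  have hz'T : z' ∈ Subgroup.centralizer (T : Set GLM) := by
    have hsc : qel s * E' * (qel s)⁻¹ ∈ Subgroup.centralizer (T : Set GLM) :=
      (Subgroup.mem_normalizer_iff.1 ((le_normalizer_centralizer (A := Subgroup.zpowers (qel s))
        (Subgroup.zpowers_le.2 hsT)) (Subgroup.mem_zpowers _)) _).1 hE'T
    exact (Subgroup.mem_normalizer_iff.1 ((le_normalizer_centralizer (A := T) Subgroup.le_normalizer) heT) _).1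
      (Subgroup.mul_mem _ hsc (Subgroup.inv_mem _ hE'T))
  refine mem_invCap.2 ⟨hz₁T, fun S hS => ?_⟩
  obtain ⟨Q, hQ, hSQ⟩ := hext S hS.1.1 hS.1.2.1 hS.1.2.2
  set W := S ⊔ Subgroup.zpowers z with hWd
  have hWp : IsPGroup p W := (isPGroup_sup_of_mem hQ hzP).to_le (sup_le_sup_right hSQ _)
  have hzT : z ∈ Subgroup.normalizer (T : Set GLM) := by
    rw [hzz]
    refine mul_mem (Subgroup.le_normalizer hz₁T) ?_
    rw [Subgroup.mem_normalizer_iff]
    intro t
    constructor
    · intro ht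
      rw [← Subgroup.mem_centralizer_iff.1 hz'T t ht, mul_inv_cancel_right]; exact ht
    · intro ht
      have h1 := Subgroup.mem_centralizer_iff.1 hz'T _ ht
      have : t = z' * t * z'⁻¹ := by
        calc t = z'⁻¹ * (z' * t * z'⁻¹ * z') := by group
          _ = z'⁻¹ * (z' * (z' * t * z'⁻¹)) := by rw [h1]
          _ = z' * t * z'⁻¹ := by group
      rw [this]; exact ht
  have hR₁p : IsPGroup r R₁ := hRr.to_le classStab_le
  have hcopT : (Nat.card T).Coprime r := hcop.coprime_dvd_left (Subgroup.card_dvd_of_le hTG)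
  have hWT : W ⊓ T = S := hS.eq_of_le hR₁p classStab_norm hcopT inf_le_right (hWp.to_le inf_le_left)
    (le_inf le_sup_left hS.1.1)
  have hzS : z ∈ Subgroup.normalizer (S : Set GLM) := by
    have h1 : Subgroup.zpowers z ≤ Subgroup.normalizer ((W ⊓ T : Subgroup GLM) : Set GLM) :=
      le_normalizer_inf (le_sup_right.trans Subgroup.le_normalizer) (Subgroup.zpowers_le.2 hzT)
    rw [hWT] at h1
    exact h1 (Subgroup.mem_zpowers z)
  have hz₁S : z₁ ∈ Subgroup.normalizer (S : Set GLM) := by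
    have h1 : z'⁻¹ ∈ Subgroup.normalizer (S : Set GLM) := by
      have hc : ∀ t ∈ S, z'⁻¹ * t = t * z'⁻¹ := fun t ht =>
        (Subgroup.mem_centralizer_iff.1 (Subgroup.inv_mem _ hz'T) t (hS.1.1 ht)).symm
      rw [Subgroup.mem_normalizer_iff]
      intro t
      constructor
      · intro ht; rw [hc t ht, mul_inv_cancel_right]; exact ht
      · intro ht
        have h4 := hc _ ht
        have : t = z'⁻¹ * t * z'⁻¹⁻¹ := by
          calc t = z' * (z'⁻¹ * t * z'⁻¹⁻¹ * z'⁻¹) := by group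
            _ = z' * (z'⁻¹ * (z'⁻¹ * t * z'⁻¹⁻¹)) := by rw [h4]
            _ = z'⁻¹ * t * z'⁻¹⁻¹ := by group
        rw [this]; exact ht
    have : z₁ = z * z'⁻¹ := by rw [hzz]; group
    rw [this]
    exact mul_mem hzS h1
  have hz₁p : IsPGroup p (Subgroup.zpowers z₁) := by
    refine hW.to_le (Subgroup.zpowers_le.2 ?_)
    exact Subgroup.mul_mem _ (Subgroup.mul_mem _ (Subgroup.mul_mem _ hσ hε) (Subgroup.inv_mem _ hσ))
      (Subgroup.inv_mem _ hε)
  have hp' : IsPGroup p (S ⊔ Subgroup.zpowers z₁ : Subgroup GLM) :=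
    IsPGroup.to_sup_of_normal_left' hS.1.2.1 hz₁p (Subgroup.zpowers_le.2 hz₁S)
  have := hS.eq_of_le hR₁p classStab_norm hcopT (sup_le hS.1.1 (Subgroup.zpowers_le.2 hz₁T)) hp' le_sup_left
  rw [← this]
  exact Subgroup.mem_sup_right (Subgroup.mem_zpowers z₁)

/-- The two parts of the commutator with a fixed root element. -/
theorem commutator_parts (he : QMin G e)
    (hfix : ∀ g ∈ classStab G R hn (eGrp G e he), eConj g e = e)
    (hs : s * s = 0) (hsP : qel s ∈ invCap p G R) :
    e * s * e = 0 ∧ (s * e * s) * (s * e * s) = 0 ∧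
      qel (s * e * s) ∈ invCap p (clsGrp G (eGrp G e he)) (classStab G R hn (eGrp G e he)) ∧
      (s * e * s = 0 → (s * e - e * s) * (s * e - e * s) = 0 ∧
        qel (s * e - e * s) ∈ invCap p (clsGrp G (eGrp G e he)) (classStab G R hn (eGrp G e he))) := by
  haveI : NeZero p := ⟨(Fact.out : p.Prime).ne_zero⟩
  set W := invCap p (clsGrp G (eGrp G e he)) (classStab G R hn (eGrp G e he)) with hWd
  obtain ⟨-, hese⟩ := commutator_component hp hRr hn hcop hG IH he hfix hs hsP
  have hee : e * e = 0 := he.sq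
  have hese' : ∀ w : EndM, e * (s * (e * w)) = 0 := fun w => by
    have := congrArg (· * w) hese; simpa [mul_assoc] using this
  have hese'' : e * (s * e) = 0 := by rw [← mul_assoc]; exact hese
  have hee' : ∀ w : EndM, e * (e * w) = 0 := fun w => by rw [← mul_assoc, hee, zero_mul]
  have hss' : ∀ w : EndM, s * (s * w) = 0 := fun w => by rw [← mul_assoc, hs, zero_mul]
  set C := s * e - e * s with hC
  set D := s * e * s with hD
  have z0 : ∀ u ∈ ({C, D} : Set EndM), ∀ v ∈ ({C, D} : Set EndM), u * v = 0 := by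
    intro u hu v hv
    rcases hu with rfl | rfl <;> rcases hv with rfl | rfl <;>
      simp only [hC, hD, sub_mul, mul_sub, mul_assoc, hee, hee', hs, hss', hese', hese'', mul_zero,
        sub_zero, sub_self]
  have hCC := z0 C (by simp) C (by simp)
  have hDD := z0 D (by simp) D (by simp)
  have hCD := z0 C (by simp) D (by simp)
  have hDC := z0 D (by simp) C (by simp)
  have hsq : ∀ t : ZMod p, (t • C - (t * t) • D) * (t • C - (t * t) • D) = 0 := fun t => by
    simp only [sub_mul, mul_sub, smul_mul_smul_comm, hCC, hDD, hCD, hDC, smul_zero, sub_zero]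
  have hmem : ∀ t : ZMod p, qel (t • C - (t * t) • D) ∈ W := by
    intro t
    have h1 := (commutator_component hp hRr hn hcop hG IH he hfix (smul_sq_zero hs t)
      (smul_mem_of_qel hs hsP t)).1
    refine (qel_eq_of_val (hsq t) ?_).symm ▸ h1
    rw [qel_conj he.sq, qel_inv he.sq, Units.val_mul, qel_val (eConj_sq he.sq),
      qel_val (by rw [neg_mul_neg, hee]), eConj_qel_self (smul_sq_zero hs t)]
    simp only [hC, hD, smul_mul_assoc, mul_smul_comm, smul_smul, add_mul, mul_add, sub_mul, mul_sub,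
      one_mul, mul_one, mul_neg, smul_add, smul_sub, smul_neg, mul_assoc, hee, hee', hese', hese'', hs,
      hss', mul_zero, smul_zero, neg_zero, add_zero, sub_zero]
    module
  have h1 := hmem 1
  have h2' := hmem (-1)
  have hDW : qel D ∈ W := by
    have h4 := smul_mem_of_qel (hsq 1) h1 (-2⁻¹)
    have h5 := smul_mem_of_qel (hsq (-1)) h2' (-2⁻¹)
    have h6 := add_mem_of_qel (smul_sq_zero (hsq 1) _) (smul_sq_zero (hsq (-1)) _)
      (by simp only [smul_mul_smul_comm, sub_mul, mul_sub, hCC, hDD, hCD, hDC, smul_zero, sub_zero])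
      (by simp only [smul_mul_smul_comm, sub_mul, mul_sub, hCC, hDD, hCD, hDC, smul_zero, sub_zero]) h4 h5
    have e1 : (-2⁻¹ : ZMod p) • ((1 : ZMod p) • C - ((1 : ZMod p) * 1) • D) +
        (-2⁻¹ : ZMod p) • ((-1 : ZMod p) • C - ((-1 : ZMod p) * -1) • D) = ((2 : ZMod p)⁻¹ * 2) • D := by
      module
    rw [e1, inv_mul_cancel₀ (two_ne hp), one_smul] at h6
    exact h6
  refine ⟨hese, hDD, hDW, fun hD0 => ⟨hCC, ?_⟩⟩
  rwa [one_smul, hD0, smul_zero, sub_zero] at h1

end Min

end CfsgLib.Flavell
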