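import Mathlib
import Cfsg.Agent.Lib.Flavell.InvCap
import Cfsg.Agent.Lib.Flavell.Roots

/-!
A pair of opposite root elements fixed by a coprime `r`-group which fixes their classes.
-/

set_option autoImplicit false
set_option linter.unusedSectionVars false
set_option linter.style.haveILetI false

namespace CfsgLib.Flavell

open Cfsg CfsgLib.ThreeTransp

variable {k : Type*} [Field k] {M : Type*} [AddCommGroup M] [Module k M] [FiniteDimensional k M]
variable {G : Subgroup (LinearMap.GeneralLinearGroup k M)}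

local notation "GLM" => LinearMap.GeneralLinearGroup k M
local notation "EndM" => Module.End k M

/-- The endomorphisms permuted by conjugation. -/
def eConjPerm : LinearMap.GeneralLinearGroup k M →* Equiv.Perm (Module.End k M) where
  toFun g := ⟨eConj g, eConj g⁻¹, fun x => by rw [eConj_comp, inv_mul_cancel, eConj_one],
    fun x => by rw [eConj_comp, mul_inv_cancel, eConj_one]⟩
  map_one' := Equiv.ext fun x => eConj_one x
  map_mul' g h := Equiv.ext fun x => (eConj_comp g h x).symm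

@[simp] theorem eConjPerm_apply (g : GLM) (x : EndM) : eConjPerm g x = eConj g x := rfl

section pair

variable {a f : Module.End k M} (ha : QMin G a) (hf : QMin G f) (hl : Linked a f)

include hl

/-- The middle factor of a sandwich is determined. -/
theorem sandwich_inj {x y : EndM} (hx : x ∈ eSpace G a ha.sq) (hx0 : x ≠ 0)
    (hy : y ∈ eSpace G f hf.sq) (h : x * y * x = 0) : y = 0 := by
  obtain ⟨-, xr, xk⟩ := eSpace_data ha hx hx0
  have hyx : ∀ m, y (x m) = 0 := fun m => by
    have hm : y (x m) ∈ LinearMap.range f ⊓ LinearMap.ker a :=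
      ⟨hy.2.1 ⟨_, rfl⟩, xk ▸ LinearMap.mem_ker.2 (LinearMap.congr_fun h m)⟩
    rwa [hl.2, Submodule.mem_bot] at hm
  have htop : LinearMap.range a ⊔ LinearMap.ker f = ⊤ := by
    refine Submodule.eq_top_of_finrank_eq ?_
    have h1 := Submodule.finrank_sup_add_finrank_inf_eq (LinearMap.range a) (LinearMap.ker f)
    have h4 := LinearMap.finrank_range_add_finrank_ker f
    have h5 := erk_eq_of_qmin ha hf
    rw [hl.1, finrank_bot] at h1
    simp only [erk] at h5
    omega
  refine LinearMap.ext fun m => ?_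
  obtain ⟨p, hp, q, hq, rfl⟩ := Submodule.mem_sup.1
    (show m ∈ LinearMap.range a ⊔ LinearMap.ker f by rw [htop]; trivial)
  rw [← xr] at hp
  obtain ⟨n, rfl⟩ := hp
  rw [map_add, hyx, LinearMap.mem_ker.1 (hy.2.2 hq), add_zero]
  rfl

/-- Every root element has a partner in an opposite class. -/
theorem exists_partner_elt (h2 : (2 : k) ≠ 0) (h3 : Nat.card k ≠ 3) {x : EndM}
    (hx : x ∈ eSpace G a ha.sq) (hx0 : x ≠ 0) :
    ∃ y ∈ eSpace G f hf.sq, y ≠ 0 ∧ x * y * x = x ∧ y * x * y = y := by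
  obtain ⟨hxm, hxr, hxk⟩ := eSpace_data ha hx hx0
  have hl' : Linked x f := (linked_congr hxr hxk rfl rfl).2 hl
  obtain ⟨D⟩ := exists_pairData hxm.sq hf.sq
  obtain ⟨-, hA, -, htop, hmap⟩ := pair_structure h2 h3 hxm hf D (not_nilpotent_of_linked hxm hl')
  rw [mul_sub, mul_one, sub_eq_zero] at hA
  obtain ⟨-, hy, -, -⟩ := phi_mem_eSpace hxm hf D htop hmap D.rinv
  have e1 : x * (f * D.phi D.rinv) * x = x := by
    rw [mul_assoc x, mul_assoc f, (D.comm_phi_a D.rinv).eq, ← mul_assoc f, ← mul_assoc x, ← mul_assoc x,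
      D.aba, mul_assoc, D.z_phi, D.root_rinv, D.phi_one, ← hA]
  refine ⟨f * D.phi D.rinv, hy, fun e => hx0 ?_, e1, ?_⟩
  · rw [← e1, e, mul_zero, zero_mul]
  · calc f * D.phi D.rinv * x * (f * D.phi D.rinv)
        = f * x * f * (D.phi D.rinv * D.phi D.rinv) := by
          rw [mul_assoc f, (D.comm_phi_a D.rinv).eq, ← mul_assoc f x,
            mul_assoc (f * x) (D.phi D.rinv), ← mul_assoc (D.phi D.rinv) f, (D.comm_phi_b D.rinv).eq,
            mul_assoc f (D.phi D.rinv), ← mul_assoc (f * x) f]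
      _ = f * D.phi D.rinv := by
          rw [D.bab, mul_assoc, ← mul_assoc D.z, D.z_phi, D.root_rinv, D.phi_one, D.pi_phi]

theorem partner_unique {x y y' : EndM} (hx : x ∈ eSpace G a ha.sq) (hx0 : x ≠ 0)
    (hy : y ∈ eSpace G f hf.sq) (hy' : y' ∈ eSpace G f hf.sq) (e : x * y * x = x)
    (e' : x * y' * x = x) : y = y' := by
  refine sub_eq_zero.1 (sandwich_inj ha hf hl hx hx0 (sub_mem hy hy') ?_)
  rw [mul_sub, sub_mul, e, e', sub_self]

omit hl in
/-- The element of the rank one group exchanging the two classes. -/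
theorem swap_conj {x y : EndM} (hx : x ∈ eSpace G a ha.sq) (hy : y ∈ eSpace G f hf.sq)
    (e1 : x * y * x = x) (e2 : y * x * y = y) (hx0 : x ≠ 0) (hy0 : y ≠ 0) :
    (∀ u ∈ eSpace G f hf.sq, eConj (qel x * qel (-y) * qel x) u = -(x * u * x)) ∧
      (∀ z ∈ eSpace G a ha.sq, eConj (qel x * qel (-y) * qel x) z = -(y * z * y)) ∧
      qel x * qel (-y) * qel x ∈ G := by
  have sx : x * x = 0 := hx.1.1
  have sy : y * y = 0 := hy.1.1
  have sy' : (-y) * (-y) = 0 := by rw [neg_mul_neg, sy]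
  have sx' : (-x) * (-x) = 0 := by rw [neg_mul_neg, sx]
  set w := qel x * qel (-y) * qel x with hwdef
  have hw : (w : EndM) = 1 + x - y - x * y - y * x := by
    rw [hwdef, Units.val_mul, Units.val_mul, qel_val sx, qel_val sy']
    have e : (1 + x) * (1 + -y) * (1 + x) = 1 + x + x + x * x - y - x * y - y * x - x * y * x := by
      noncomm_ring
    rw [e, sx, e1]; abel
  have hw' : ((w⁻¹ : GLM) : EndM) = 1 - x + y - x * y - y * x := by
    have e : w⁻¹ = qel (-x) * qel y * qel (-x) := by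
      rw [hwdef, mul_inv_rev, mul_inv_rev, qel_inv sx, qel_inv sy', neg_neg, mul_assoc]
    rw [e, Units.val_mul, Units.val_mul, qel_val sx', qel_val sy]
    have e : (1 + -x) * (1 + y) * (1 + -x) = 1 - x - x + x * x + y - x * y - y * x + x * y * x := by
      noncomm_ring
    rw [e, sx, e1]; abel
  obtain ⟨-, xr, xk⟩ := eSpace_data ha hx hx0
  obtain ⟨-, yr, yk⟩ := eSpace_data hf hy hy0
  refine ⟨fun u hu => ?_, fun z hz => ?_, mul_mem (mul_mem hx.1.mem (neg_mem hy).1.mem) hx.1.mem⟩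
  · have p1 : y * u = 0 := eSpace_prod hf hy hu
    have p2 : u * y = 0 := eSpace_prod hf hu hy
    have p3 : y * x * u = u := LinearMap.ext fun m => by
      obtain ⟨n, hn⟩ : u m ∈ LinearMap.range y := yr ▸ hu.2.1 ⟨m, rfl⟩
      show y (x (u m)) = u m
      rw [← hn]
      exact LinearMap.congr_fun e2 n
    have p4 : u * (x * y) = u := LinearMap.ext fun m => by
      have h : x (y m) - m ∈ LinearMap.ker y := by
        have := LinearMap.congr_fun e2 m
        rw [Module.End.mul_apply, Module.End.mul_apply] at this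
        rw [LinearMap.mem_ker, map_sub, this, sub_self]
      have h' := hu.2.2 (yk ▸ h)
      rwa [LinearMap.mem_ker, map_sub, sub_eq_zero] at h'
    have c1 : (w : EndM) * u = x * u := by
      rw [hw, sub_mul, sub_mul, sub_mul, add_mul, one_mul, p1, p3, mul_assoc x y, p1, mul_zero]; abel
    rw [eConj, c1, hw', mul_sub, mul_sub, mul_add, mul_sub, mul_one, mul_assoc x u y, p2, mul_zero,
      mul_assoc x u (x * y), p4, mul_assoc x u (y * x), ← mul_assoc u y x, p2, zero_mul, mul_zero]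
    abel
  · have p1 : x * z = 0 := eSpace_prod ha hx hz
    have p2 : z * x = 0 := eSpace_prod ha hz hx
    have p3 : x * y * z = z := LinearMap.ext fun m => by
      obtain ⟨n, hn⟩ : z m ∈ LinearMap.range x := xr ▸ hz.2.1 ⟨m, rfl⟩
      show x (y (z m)) = z m
      rw [← hn]
      exact LinearMap.congr_fun e1 n
    have p4 : z * (y * x) = z := LinearMap.ext fun m => by
      have h : y (x m) - m ∈ LinearMap.ker x := by
        have := LinearMap.congr_fun e1 m
        rw [Module.End.mul_apply, Module.End.mul_apply] at this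
        rw [LinearMap.mem_ker, map_sub, this, sub_self]
      have h' := hz.2.2 (xk ▸ h)
      rwa [LinearMap.mem_ker, map_sub, sub_eq_zero] at h'
    have c1 : (w : EndM) * z = -(y * z) := by
      rw [hw, sub_mul, sub_mul, sub_mul, add_mul, one_mul, p1, p3, mul_assoc y x, p1, mul_zero]; abel
    rw [eConj, c1, hw', neg_mul, mul_sub, mul_sub, mul_add, mul_sub, mul_one, mul_assoc y z x, p2,
      mul_zero, mul_assoc y z (y * x), p4, mul_assoc y z (x * y), ← mul_assoc z x y, p2, zero_mul,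
      mul_zero]
    abel

/-- The sandwich of two opposite root elements is a root element. -/
theorem sandwich_mem (h2 : (2 : k) ≠ 0) (h3 : Nat.card k ≠ 3) {x u : EndM}
    (hx : x ∈ eSpace G a ha.sq) (hu : u ∈ eSpace G f hf.sq) : x * u * x ∈ eSpace G a ha.sq := by
  rcases eq_or_ne x 0 with rfl | hx0
  · rw [mul_zero]; exact zero_mem _
  obtain ⟨y, hy, hy0, e1, e2⟩ := exists_partner_elt ha hf hl h2 h3 hx hx0
  obtain ⟨h1, -, hwG⟩ := swap_conj ha hf hx hy e1 e2 hx0 hy0
  have h := (eConj_mem_eSpace hwG hu).1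
  rw [h1 u hu] at h
  have h' := h.smul (-1 : k)
  rw [neg_smul, one_smul, neg_neg] at h'
  refine ⟨h', ?_, ?_⟩
  · rintro _ ⟨m, rfl⟩
    exact hx.2.1 ⟨_, rfl⟩
  · intro m hm
    rw [LinearMap.mem_ker, Module.End.mul_apply, LinearMap.mem_ker.1 (hx.2.2 hm), map_zero]

/-- The quadratic map of a class has fibres of size at most two. -/
theorem sandwich_two_to_one [Finite EndM] (h2 : (2 : k) ≠ 0) (h3 : Nat.card k ≠ 3) {x x' u : EndM}
    (hx : x ∈ eSpace G a ha.sq) (hx' : x' ∈ eSpace G a ha.sq) (hu : u ∈ eSpace G f hf.sq) (hu0 : u ≠ 0)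
    (h : x * u * x = x' * u * x') : x = x' ∨ x = -x' := by
  classical
  haveI := Fintype.ofFinite (Module.End k M)
  obtain ⟨z, hz, -, ez, ez'⟩ := exists_partner_elt hf ha hl.symm h2 h3 hu hu0
  set A := eSpace G a ha.sq with hA
  -- the corner
  let S : Submodule k EndM := A.map (LinearMap.mulRight k u)
  have hS : ∀ {s : EndM}, s ∈ S ↔ ∃ v ∈ A, v * u = s := fun {s} => by
    simp [S, Submodule.mem_map]
  have hright : ∀ v ∈ A, v * u * z = v := by
    intro v hv
    rcases eq_or_ne z 0 with rfl | hz0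
    · exact absurd (by rw [← ez, mul_zero, zero_mul]) hu0
    refine LinearMap.ext fun m => ?_
    obtain ⟨-, -, zk⟩ := eSpace_data ha hz hz0
    have hh : u (z m) - m ∈ LinearMap.ker z := by
      have := LinearMap.congr_fun ez' m
      rw [Module.End.mul_apply, Module.End.mul_apply] at this
      rw [LinearMap.mem_ker, map_sub, this, sub_self]
    have h' := hv.2.2 (zk ▸ hh)
    rwa [LinearMap.mem_ker, map_sub, sub_eq_zero] at h'
  have hleft : ∀ v ∈ A, z * u * v = v := by
    intro v hv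
    rcases eq_or_ne z 0 with rfl | hz0
    · exact absurd (by rw [← ez, mul_zero, zero_mul]) hu0
    refine LinearMap.ext fun m => ?_
    obtain ⟨-, zr, -⟩ := eSpace_data ha hz hz0
    obtain ⟨n, hn⟩ : v m ∈ LinearMap.range z := zr ▸ hv.2.1 ⟨m, rfl⟩
    show z (u (v m)) = v m
    rw [← hn]
    exact LinearMap.congr_fun ez' n
  set e := z * u with he
  have heS : e ∈ S := hS.2 ⟨z, hz, rfl⟩
  have he1 : ∀ s ∈ S, e * s = s ∧ s * e = s := by
    intro s hs
    obtain ⟨v, hv, rfl⟩ := hS.1 hs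
    exact ⟨by rw [← mul_assoc, hleft v hv], by rw [he, ← mul_assoc, hright v hv]⟩
  have hsq : ∀ s ∈ S, s * s ∈ S := by
    intro s hs
    obtain ⟨v, hv, rfl⟩ := hS.1 hs
    exact hS.2 ⟨v * u * v, sandwich_mem ha hf hl h2 h3 hv hu, by simp only [mul_assoc]⟩
  have hjor : ∀ s ∈ S, ∀ t ∈ S, s * t + t * s ∈ S := by
    intro s hs t ht
    have e : s * t + t * s = (s + t) * (s + t) - s * s - t * t := by noncomm_ring
    rw [e]
    exact sub_mem (sub_mem (hsq _ (add_mem hs ht)) (hsq _ hs)) (hsq _ ht)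
  have hmul : ∀ s ∈ S, ∀ t ∈ S, Commute s t → s * t ∈ S := by
    intro s hs t ht hc
    have h1 := hjor s hs t ht
    rw [← hc.eq, ← two_smul k (s * t)] at h1
    have h4 := S.smul_mem (2 : k)⁻¹ h1
    rwa [smul_smul, inv_mul_cancel₀ h2, one_smul] at h4
  have hinj : ∀ s ∈ S, s ≠ 0 → ∀ t, e * t = t → s * t = 0 → t = 0 := by
    intro s hs hs0 t het hst
    obtain ⟨v, hv, rfl⟩ := hS.1 hs
    have hv0 : v ≠ 0 := fun e => hs0 (by rw [e, zero_mul])
    obtain ⟨-, -, vk⟩ := eSpace_data ha hv hv0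
    refine LinearMap.ext fun m => ?_
    have h1 : t m ∈ LinearMap.range a := by
      rw [← het, he, mul_assoc]
      exact hz.2.1 ⟨_, rfl⟩
    have h4 : u (t m) ∈ LinearMap.range f ⊓ LinearMap.ker a :=
      ⟨hu.2.1 ⟨_, rfl⟩, vk ▸ LinearMap.mem_ker.2 (LinearMap.congr_fun hst m)⟩
    rw [hl.2, Submodule.mem_bot] at h4
    have hu' := (eSpace_data hf hu hu0).2.2
    have h5 : t m ∈ LinearMap.range a ⊓ LinearMap.ker f := ⟨h1, hu' ▸ LinearMap.mem_ker.2 h4⟩
    rw [hl.1, Submodule.mem_bot] at h5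
    exact h5
  have hpm : ∀ s ∈ S, ∀ t ∈ S, Commute s t → s * s = t * t → s = t ∨ s = -t := by
    intro s hs t ht hc hst
    refine or_iff_not_imp_left.2 fun hne => eq_neg_of_add_eq_zero_left ?_
    refine hinj _ (sub_mem hs ht) (sub_ne_zero.2 hne) _ (he1 _ (add_mem hs ht)).1 ?_
    rw [← hc.mul_self_sub_mul_self_eq', hst, sub_self]
  clear_value e
  set θ := x * u with hθ
  set η := x' * u with hη
  have hθS : θ ∈ S := hS.2 ⟨x, hx, rfl⟩
  have hηS : η ∈ S := hS.2 ⟨x', hx', rfl⟩
  have hμ : θ * θ = η * η := by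
    rw [hθ, hη, ← mul_assoc, ← mul_assoc, h]
  suffices hcomm : Commute θ η by
    rcases hpm θ hθS η hηS hcomm hμ with e | e
    · left; rw [← hright x hx, ← hright x' hx', ← hθ, ← hη, e]
    · right; rw [← hright x hx, ← hright x' hx', ← hθ, ← hη, e, neg_mul]
  rcases eq_or_ne θ 0 with hθ0 | hθ0
  · rw [hθ0]; exact Commute.zero_left η
  set μ := θ * θ with hμdef
  set Z := θ * η + η * θ with hZ
  have hμS : μ ∈ S := hsq _ hθS
  have hμ0 : μ ≠ 0 := fun e => hθ0 (hinj θ hθS hθ0 θ (he1 θ hθS).1 e)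
  have hZS : Z ∈ S := hjor _ hθS _ hηS
  have cμθ : Commute μ θ := (Commute.refl θ).mul_left (Commute.refl θ)
  have cμη : Commute μ η := by
    rw [hμ]; exact (Commute.refl η).mul_left (Commute.refl η)
  have cZθ : Commute Z θ := by
    show (θ * η + η * θ) * θ = θ * (θ * η + η * θ)
    rw [add_mul, mul_add, ← mul_assoc θ θ η, mul_assoc η θ θ, ← hμdef, cμη.eq, mul_assoc θ η θ]
    abel
  have cZη : Commute Z η := by
    show (θ * η + η * θ) * η = η * (θ * η + η * θ)
    rw [add_mul, mul_add, mul_assoc θ η η, ← mul_assoc η η θ, ← hμ, cμθ.eq, mul_assoc η θ η]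
    abel
  have cμZ : Commute μ Z := (cμθ.mul_right cμη).add_right (cμη.mul_right cμθ)
  -- the field
  let T : Subalgebra k EndM := Algebra.adjoin k {μ, Z}
  have hgen : ∀ g ∈ ({μ, Z} : Set EndM), g ∈ S ∧ Commute g θ ∧ Commute g η := by
    rintro g (rfl | rfl)
    · exact ⟨hμS, cμθ, cμη⟩
    · exact ⟨hZS, cZθ, cZη⟩
  have hTc : ∀ g ∈ T, ∀ g' ∈ T, Commute g g' := by
    intro g hg g' hg'
    refine Algebra.commute_of_mem_adjoin_of_forall_mem_commute hg' fun c hc => ?_
    refine (Algebra.commute_of_mem_adjoin_of_forall_mem_commute hg fun d hd => ?_).symm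
    rcases hc with rfl | rfl <;> rcases hd with rfl | rfl
    · exact Commute.refl _
    · exact cμZ
    · exact cμZ.symm
    · exact Commute.refl _
  have hTθ : ∀ g ∈ T, Commute g θ ∧ Commute g η ∧ Commute g e := by
    intro g hg
    refine ⟨(Algebra.commute_of_mem_adjoin_of_forall_mem_commute hg fun c hc => (hgen c hc).2.1.symm).symm,
      (Algebra.commute_of_mem_adjoin_of_forall_mem_commute hg fun c hc => (hgen c hc).2.2.symm).symm,
      (Algebra.commute_of_mem_adjoin_of_forall_mem_commute hg fun c hc => ?_).symm⟩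
    obtain ⟨h1, h4⟩ := he1 c (hgen c hc).1
    show e * c = c * e
    rw [h1, h4]
  have hTS : ∀ g ∈ T, e * g ∈ S := by
    intro g hg
    induction hg using Algebra.adjoin_induction with
    | mem g hg => rw [(he1 g (hgen g hg).1).1]; exact (hgen g hg).1
    | algebraMap c =>
      rw [Algebra.algebraMap_eq_smul_one, mul_smul_comm, mul_one]
      exact S.smul_mem c heS
    | add g g' _ _ i1 i2 => rw [mul_add]; exact add_mem i1 i2
    | mul g g' hg hg' i1 i2 =>
      have hee : e * e = e := (he1 e heS).1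
      have e' : e * (g * g') = (e * g) * (e * g') := by
        rw [← mul_assoc (e * g), mul_assoc e g e, (hTθ g hg).2.2.eq, ← mul_assoc e e g, hee, mul_assoc]
      rw [e']
      refine hmul _ i1 _ i2 ?_
      show (e * g) * (e * g') = (e * g') * (e * g)
      rw [← mul_assoc (e * g), mul_assoc e g e, (hTθ g hg).2.2.eq, ← mul_assoc e e g, hee,
        ← mul_assoc (e * g'), mul_assoc e g' e, (hTθ g' hg').2.2.eq, ← mul_assoc e e g', hee, mul_assoc,
        mul_assoc, (hTc g hg g' hg').eq]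
  let K : Finset EndM := Finset.univ.filter fun s => ∃ g ∈ T, e * g = s
  have hK : ∀ {s : EndM}, s ∈ K ↔ ∃ g ∈ T, e * g = s := by simp [K]
  have hKS : ∀ {s}, s ∈ K → s ∈ S := fun hs => by
    obtain ⟨g, hg, rfl⟩ := hK.1 hs; exact hTS g hg
  have hcl : ∀ g ∈ T, ∀ g' ∈ T, (e * g) * (e * g') = e * (g * g') := by
    intro g hg g' _
    rw [← mul_assoc (e * g), mul_assoc e g e, (hTθ g hg).2.2.eq, ← mul_assoc e e g, (he1 e heS).1,
      mul_assoc]
  have hKc : ∀ {s t}, s ∈ K → t ∈ K → Commute s t := fun {s t} hs ht => by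
    obtain ⟨g, hg, rfl⟩ := hK.1 hs
    obtain ⟨g', hg', rfl⟩ := hK.1 ht
    show (e * g) * (e * g') = (e * g') * (e * g)
    rw [hcl g hg g' hg', hcl g' hg' g hg, (hTc g hg g' hg').eq]
  have hKθ : ∀ {s}, s ∈ K → Commute s θ ∧ Commute s η := fun {s} hs => by
    obtain ⟨g, hg, rfl⟩ := hK.1 hs
    have c1 : Commute e θ := (he1 θ hθS).1.trans (he1 θ hθS).2.symm
    have c2 : Commute e η := (he1 η hηS).1.trans (he1 η hηS).2.symm
    exact ⟨c1.mul_left (hTθ g hg).1, c2.mul_left (hTθ g hg).2.1⟩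
  have hμK : μ ∈ K := hK.2 ⟨μ, Algebra.subset_adjoin (Or.inl rfl), (he1 μ hμS).1⟩
  have hZK : Z ∈ K := hK.2 ⟨Z, Algebra.subset_adjoin (Or.inr rfl), (he1 Z hZS).1⟩
  have hKadd : ∀ {s t}, s ∈ K → t ∈ K → s + t ∈ K := fun {s t} hs ht => by
    obtain ⟨g, hg, rfl⟩ := hK.1 hs
    obtain ⟨g', hg', rfl⟩ := hK.1 ht
    exact hK.2 ⟨g + g', add_mem hg hg', mul_add e g g'⟩
  have hKmul : ∀ {s t}, s ∈ K → t ∈ K → s * t ∈ K := fun {s t} hs ht => by
    obtain ⟨g, hg, rfl⟩ := hK.1 hs
    obtain ⟨g', hg', rfl⟩ := hK.1 ht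
    exact hK.2 ⟨g * g', mul_mem hg hg', (hcl g hg g' hg').symm⟩
  have h0K : (0 : EndM) ∈ K := hK.2 ⟨0, zero_mem _, mul_zero e⟩
  -- squares
  let Q : Finset EndM := K.image fun s => s * s
  let P : Finset EndM := K.image fun s => μ * (s * s) + Z * s + μ
  have hQ : K.card + 1 ≤ 2 * Q.card := by
    set Q' := (K.erase 0).image fun s => s * s with hQ'
    have h1 : (K.erase 0).card ≤ 2 * Q'.card := by
      refine Finset.card_le_mul_card_image _ 2 fun v hv => ?_
      obtain ⟨s, hs, rfl⟩ := Finset.mem_image.1 hv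
      refine le_trans (Finset.card_le_card (t := {s, -s}) fun t ht => ?_) Finset.card_le_two
      rw [Finset.mem_filter] at ht
      obtain ⟨-, hsK⟩ := Finset.mem_erase.1 hs
      obtain ⟨-, htK⟩ := Finset.mem_erase.1 ht.1
      simpa using hpm t (hKS htK) s (hKS hsK) (hKc htK hsK) ht.2
    have h4 : (0 : EndM) ∉ Q' := by
      intro h0
      obtain ⟨s, hs, hs'⟩ := Finset.mem_image.1 h0
      obtain ⟨hs0, hsK⟩ := Finset.mem_erase.1 hs
      exact hs0 (hinj s (hKS hsK) hs0 s (he1 s (hKS hsK)).1 hs')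
    have h5 : insert 0 Q' ⊆ Q := by
      refine Finset.insert_subset (Finset.mem_image.2 ⟨0, h0K, mul_zero 0⟩) ?_
      exact Finset.image_subset_image (Finset.erase_subset _ _)
    have h6 := Finset.card_le_card h5
    rw [Finset.card_insert_of_notMem h4] at h6
    rw [Finset.card_erase_of_mem h0K] at h1
    have h7 : 0 < K.card := Finset.card_pos.2 ⟨0, h0K⟩
    omega
  have hP : K.card ≤ 2 * P.card := by
    refine Finset.card_le_mul_card_image _ 2 fun v hv => ?_
    obtain ⟨s, hsK, rfl⟩ := Finset.mem_image.1 hv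
    by_cases hex : ∃ t ∈ K, t ≠ s ∧ μ * (t * t) + Z * t + μ = μ * (s * s) + Z * s + μ
    · obtain ⟨t₀, ht₀K, ht₀, e₀⟩ := hex
      refine le_trans (Finset.card_le_card (t := {s, t₀}) fun t ht => ?_) Finset.card_le_two
      rw [Finset.mem_filter] at ht
      obtain ⟨htK, et⟩ := ht
      simp only [Finset.mem_insert, Finset.mem_singleton]
      refine or_iff_not_imp_left.2 fun hts => ?_
      have key : ∀ {t}, t ∈ K → t ≠ s → μ * (t * t) + Z * t + μ = μ * (s * s) + Z * s + μ →
          μ * (t + s) + Z = 0 := by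
        intro t htK hts et
        refine hinj _ (sub_mem (hKS htK) (hKS hsK)) (sub_ne_zero.2 hts) _
          (he1 _ (hKS (hKadd (hKmul hμK (hKadd htK hsK)) hZK))).1 ?_
        have c := hKc htK hsK
        have c1 := hKc htK hμK
        have c2 := hKc hsK hμK
        have c3 := hKc htK hZK
        have c4 := hKc hsK hZK
        have e1 : μ * (t * t) + Z * t - (μ * (s * s) + Z * s) = 0 :=
          sub_eq_zero.2 (add_right_cancel et)
        rw [← e1]
        simp only [sub_mul, mul_add, ← mul_assoc, c1.eq, c2.eq, c3.eq, c4.eq]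
        rw [mul_assoc μ t s, c.eq, mul_assoc μ s t]
        abel
      have e1 := key htK hts et
      have e2 := key ht₀K ht₀ e₀
      have e3 : μ * (t - t₀) = 0 := by
        calc μ * (t - t₀) = (μ * (t + s) + Z) - (μ * (t₀ + s) + Z) := by noncomm_ring
          _ = 0 := by rw [e1, e2, sub_zero]
      exact sub_eq_zero.1 (hinj μ hμS hμ0 _ (he1 _ (sub_mem (hKS htK) (hKS ht₀K))).1 e3)
    · refine le_trans (Finset.card_le_card (t := {s}) fun t ht => ?_) (by simp)
      rw [Finset.mem_filter] at ht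
      push Not at hex
      simp only [Finset.mem_singleton]
      by_contra hts
      exact hex t ht.1 hts ht.2
  obtain ⟨v, hvQ, hvP⟩ : ∃ v, v ∈ Q ∧ v ∈ P := by
    by_contra hcon
    push Not at hcon
    have hd : Disjoint Q P := Finset.disjoint_left.2 hcon
    have h1 : Q ∪ P ⊆ K := by
      refine Finset.union_subset ?_ ?_ <;> intro v hv <;> obtain ⟨s, hs, rfl⟩ := Finset.mem_image.1 hv
      · exact hKmul hs hs
      · exact hKadd (hKadd (hKmul hμK (hKmul hs hs)) (hKmul hZK hs)) hμK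
    have h4 := Finset.card_le_card h1
    rw [Finset.card_union_of_disjoint hd] at h4
    omega
  obtain ⟨w, hwK, rfl⟩ := Finset.mem_image.1 hvQ
  obtain ⟨s, hsK, hs⟩ := Finset.mem_image.1 hvP
  obtain ⟨csθ, csη⟩ := hKθ hsK
  obtain ⟨cwθ, cwη⟩ := hKθ hwK
  set σ := θ * s + η with hσ
  have hσS : σ ∈ S := add_mem (hmul _ hθS _ (hKS hsK) csθ.symm) hηS
  have hσsq : σ * σ = w * w := by
    rw [← hs, hσ]
    calc (θ * s + η) * (θ * s + η)
        = θ * (s * θ) * s + (θ * (s * η) + η * θ * s) + η * η := by noncomm_ring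
      _ = μ * (s * s) + Z * s + μ := by
        rw [csθ.eq, csη.eq, ← hμ, hμdef, hZ]; noncomm_ring
  have cσw : Commute σ w := ((cwθ.symm).mul_left (hKc hsK hwK)).add_left cwη.symm
  have hηval : η = σ - θ * s := by rw [hσ]; abel
  have cθσ : Commute θ σ := by
    rcases hpm σ hσS w (hKS hwK) cσw hσsq with e | e <;> rw [e]
    · exact cwθ.symm
    · exact cwθ.symm.neg_right
  rw [hηval]
  exact cθσ.sub_right ((Commute.refl θ).mul_right csθ.symm)

end pair

variable [Finite k] {r : ℕ} [Fact r.Prime] {R₁ : Subgroup (LinearMap.GeneralLinearGroup k M)}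

/-- An `r`-group of odd order which fixes two opposite classes fixes a pair of partners in them. -/
theorem exists_fixed_elements' (h2 : (2 : k) ≠ 0) (h3 : Nat.card k ≠ 3) {a f : EndM}
    (ha : QMin G a) (hf : QMin G f) (hl : Linked a f)
    (hR : IsPGroup r R₁) (hn : R₁ ≤ Subgroup.normalizer (G : Set GLM))
    (hcop : (Nat.card G).Coprime r)
    (hA : ∀ g ∈ R₁, conjBy (eGrp G a ha) g = eGrp G a ha)
    (hF : ∀ g ∈ R₁, conjBy (eGrp G f hf) g = eGrp G f hf) :
    ∃ e ∈ eSpace G a ha.sq, ∃ f' ∈ eSpace G f hf.sq, e ≠ 0 ∧ e * f' * e = e ∧ f' * e * f' = f' ∧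
      ∀ g ∈ R₁, eConj g e = e ∧ eConj g f' = f' := by
  classical
  haveI : Finite M := Module.finite_of_finite k
  haveI : Finite EndM := Finite.of_injective (DFunLike.coe : (M →ₗ[k] M) → M → M) DFunLike.coe_injective
  haveI : Finite GLM := Finite.of_injective (fun g : GLM => (g : EndM)) Units.val_injective
  haveI := Fintype.ofFinite (Module.End k M)
  -- elements fixing a class act on its space
  have act : ∀ {b : EndM} (hb : QMin G b) {g : GLM}, conjBy (eGrp G b hb) g = eGrp G b hb →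
      ∀ x ∈ eSpace G b hb.sq, eConj g x ∈ eSpace G b hb.sq := by
    intro b hb g hg x hx
    have h : g * qel x * g⁻¹ ∈ eGrp G b hb := hg ▸ ⟨qel x, qel_mem_eGrp hb hx, rfl⟩
    rw [qel_conj hx.1.1] at h
    have := (udif_mem_eSpace hb h).1
    rwa [udif_qel (eConj_sq hx.1.1)] at this
  set A := eGrp G a ha with hAdef
  set N := G ⊓ Subgroup.normalizer (A : Set GLM) with hN
  let O : EndM → Set EndM := fun z => {v | ∃ g ∈ N, v = eConj g z}
  have hNfix : ∀ g ∈ N, conjBy A g = A := fun g hg => conjBy_eq_self_iff.2 hg.2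
  -- sizes
  have hOdvd : ∀ z, Nat.card (O z) ∣ Nat.card G := by
    intro z
    let N' : Subgroup (Equiv.Perm EndM) := N.map eConjPerm
    have h : O z = MulAction.orbit N' z := by
      ext v
      constructor
      · rintro ⟨g, hg, rfl⟩; exact ⟨⟨eConjPerm g, g, hg, rfl⟩, rfl⟩
      · rintro ⟨⟨_, g, hg, rfl⟩, rfl⟩; exact ⟨g, hg, rfl⟩
    rw [h, Nat.card_coe_set_eq, ← MulAction.index_stabilizer]
    exact ((Subgroup.index_dvd_card _).trans (Subgroup.card_map_dvd _ _)).trans
      (Subgroup.card_dvd_of_le inf_le_left)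
  obtain ⟨f₀, hf₀, hf₀0, c1, c2⟩ := exists_partner_elt ha hf hl h2 h3 (self_mem_eSpace ha) ha.2.1
  obtain ⟨-, wa, wG⟩ := swap_conj ha hf (self_mem_eSpace ha) hf₀ c1 c2 ha.2.1 hf₀0
  let A' : Finset EndM := Finset.univ.filter fun z => z ∈ eSpace G a ha.sq ∧ z ≠ 0
  have hA' : ∀ {z}, z ∈ A' ↔ z ∈ eSpace G a ha.sq ∧ z ≠ 0 := by simp [A']
  have hOsub : ∀ z ∈ A', ∀ v ∈ O z, v ∈ A' := by
    rintro z hz v ⟨g, hg, rfl⟩
    exact hA'.2 ⟨act ha (hNfix g hg) z (hA'.1 hz).1, fun e => (hA'.1 hz).2 (eConj_eq_zero e)⟩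
  have hlarge : ∀ z ∈ A', A'.card ≤ 2 * Nat.card (O z) := by
    intro z hz
    obtain ⟨hzA, hz0⟩ := hA'.1 hz
    set u := f₀ * z * f₀ with hu
    have hu' : u ∈ eSpace G f hf.sq := sandwich_mem hf ha hl.symm h2 h3 hf₀ hzA
    have hu0 : u ≠ 0 := fun e => hz0 (sandwich_inj hf ha hl.symm hf₀ hf₀0 hzA e)
    have hmem : ∀ x ∈ A', x * u * x ∈ (O z).toFinite.toFinset := by
      intro x hx
      obtain ⟨hxA, hx0⟩ := hA'.1 hx
      obtain ⟨y, hy, hy0, e1, e2⟩ := exists_partner_elt ha hf hl h2 h3 hxA hx0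
      obtain ⟨xa, -, xG⟩ := swap_conj ha hf hxA hy e1 e2 hx0 hy0
      refine (Set.Finite.mem_toFinset _).2 ⟨qel x * qel (-y) * qel x * (qel a * qel (-f₀) * qel a),
        ⟨mul_mem xG wG, ?_⟩, ?_⟩
      · have hval : ∀ v ∈ eSpace G a ha.sq, eConj (qel x * qel (-y) * qel x * (qel a * qel (-f₀) * qel a)) v =
            x * (f₀ * v * f₀) * x := by
          intro v hv
          rw [← eConj_comp, wa v hv, eConj_neg, xa _ (sandwich_mem hf ha hl.symm h2 h3 hf₀ hv), neg_neg]
        have h0 := hval a (self_mem_eSpace ha)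
        refine conjBy_eq_self_iff.1 ?_
        rw [hAdef, conjBy_eGrp ha (mul_mem xG wG)]
        have hm : eConj (qel x * qel (-y) * qel x * (qel a * qel (-f₀) * qel a)) a ∈ eSpace G a ha.sq := by
          rw [h0]
          exact sandwich_mem ha hf hl h2 h3 hxA (sandwich_mem hf ha hl.symm h2 h3 hf₀ (self_mem_eSpace ha))
        obtain ⟨-, r1, r2⟩ := eSpace_data ha hm fun e => ha.2.1 (eConj_eq_zero e)
        exact eGrp_congr r1 r2
      · rw [← eConj_comp, wa z hzA, eConj_neg, xa _ hu', neg_neg]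
    have h1 : A'.card ≤ 2 * (A'.image fun x => x * u * x).card := by
      refine Finset.card_le_mul_card_image _ 2 fun v hv => ?_
      obtain ⟨x, hx, rfl⟩ := Finset.mem_image.1 hv
      refine le_trans (Finset.card_le_card (t := {x, -x}) fun t ht => ?_) Finset.card_le_two
      rw [Finset.mem_filter] at ht
      simpa using sandwich_two_to_one ha hf hl h2 h3 (hA'.1 ht.1).1 (hA'.1 hx).1 hu' hu0 ht.2
    have h4 : (A'.image fun x => x * u * x).card ≤ (O z).toFinite.toFinset.card :=
      Finset.card_le_card fun v hv => by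
        obtain ⟨x, hx, rfl⟩ := Finset.mem_image.1 hv
        exact hmem x hx
    rw [Nat.card_coe_set_eq, Set.ncard_eq_toFinset_card _ (O z).toFinite]
    omega
  have hrefl : ∀ z, z ∈ O z := fun z => ⟨1, one_mem _, (eConj_one z).symm⟩
  have hOeq : ∀ {z v}, v ∈ O z → O v = O z := by
    rintro z v ⟨g, hg, rfl⟩
    ext w
    constructor
    · rintro ⟨h, hh, rfl⟩; exact ⟨h * g, mul_mem hh hg, eConj_comp h g z⟩
    · rintro ⟨h, hh, rfl⟩
      exact ⟨h * g⁻¹, mul_mem hh (inv_mem hg), by rw [eConj_comp, inv_mul_cancel_right]⟩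
  have hOconj : ∀ {g : GLM}, g ∈ R₁ → ∀ {z v}, v ∈ O z → eConj g v ∈ O (eConj g z) := by
    rintro g hg z v ⟨h, ⟨hh1, hh2⟩, rfl⟩
    have hgA : g ∈ Subgroup.normalizer (A : Set GLM) := conjBy_eq_self_iff.1 (hA g hg)
    refine ⟨g * h * g⁻¹, ⟨(Subgroup.mem_normalizer_iff.1 (hn hg) h).1 hh1,
      mul_mem (mul_mem hgA hh2) (Subgroup.inv_mem _ hgA)⟩, ?_⟩
    rw [eConj_comp, eConj_comp, inv_mul_cancel_right]
  -- `r` is odd
  have hr2 : r ≠ 2 := by
    obtain ⟨i, ⟨hi, hi1, hi2, -⟩, -⟩ := linked_involution h2 h3 ha hf hl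
    intro e
    subst e
    have hiG : i ∈ G := sup_le (eGrp_le ha) (eGrp_le hf) hi
    have hord : orderOf (⟨i, hiG⟩ : G) = 2 :=
      orderOf_eq_prime (Subtype.ext (by rw [sq]; exact hi2)) fun e => hi1 (congrArg Subtype.val e)
    have := Nat.eq_one_of_dvd_coprimes hcop (hord ▸ orderOf_dvd_natCard _) dvd_rfl
    omega
  have haA : a ∈ A' := hA'.2 ⟨self_mem_eSpace ha, ha.2.1⟩
  -- each orbit is fixed
  have hinv : ∀ g ∈ R₁, eConj g a ∈ O a := by
    intro g hg
    by_contra hne
    have hA'g : ∀ z ∈ A', eConj g z ∈ A' := fun z hz =>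
      hA'.2 ⟨act ha (hA g hg) z (hA'.1 hz).1, fun e => (hA'.1 hz).2 (eConj_eq_zero e)⟩
    set b := eConj g a
    set c := eConj g b
    have hbA : b ∈ A' := hA'g a haA
    have hcA : c ∈ A' := hA'g b hbA
    have hc : c ∈ O a := by
      by_contra hca
      have hcb : c ∉ O b := by
        intro h
        have h' := hOconj (inv_mem hg) h
        simp only [c, b, eConj_comp, inv_mul_cancel, eConj_one, inv_mul_cancel_left] at h'
        exact hne h'
      have hd : ∀ {z v}, v ∉ O z → Disjoint (O z).toFinite.toFinset (O v).toFinite.toFinset := by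
        intro z v h
        refine Finset.disjoint_left.2 fun w h1 h4 => h ?_
        rw [Set.Finite.mem_toFinset] at h1 h4
        rw [← hOeq h1, hOeq h4]
        exact hrefl v
      have hu : (O a).toFinite.toFinset ∪ (O b).toFinite.toFinset ∪ (O c).toFinite.toFinset ⊆ A' := by
        refine Finset.union_subset (Finset.union_subset ?_ ?_) ?_ <;> intro v hv <;>
          rw [Set.Finite.mem_toFinset] at hv
        · exact hOsub a haA v hv
        · exact hOsub b hbA v hv
        · exact hOsub c hcA v hv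
      have hcard := Finset.card_le_card hu
      rw [Finset.card_union_of_disjoint (Finset.disjoint_union_left.2 ⟨hd hca, hd hcb⟩),
        Finset.card_union_of_disjoint (hd hne)] at hcard
      have l1 := hlarge a haA
      have l2 := hlarge b hbA
      have l3 := hlarge c hcA
      rw [Nat.card_coe_set_eq, Set.ncard_eq_toFinset_card _ (Set.toFinite _)] at l1 l2 l3
      have : 0 < A'.card := Finset.card_pos.2 ⟨a, haA⟩
      omega
    -- the square fixes the orbit, and `g` is a power of it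
    have hpow : ∀ m : ℕ, eConj ((g * g) ^ m) a ∈ O a := by
      intro m
      induction m with
      | zero => rw [pow_zero, eConj_one]; exact hrefl a
      | succ m ih =>
        have h := hOconj (g := g * g) (mul_mem hg hg) ih
        rw [eConj_comp, ← pow_succ'] at h
        have : O (eConj (g * g) a) = O a := hOeq (by simpa [c, b, eConj_comp] using hc)
        rwa [this] at h
    obtain ⟨n, hn'⟩ := hR ⟨g, hg⟩
    have hn1 : g ^ (r ^ n) = 1 := by simpa using congrArg Subtype.val hn'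
    obtain ⟨m, hm⟩ : Odd (r ^ n) := ((Fact.out : r.Prime).odd_of_ne_two hr2).pow
    have h := hpow (m + 1)
    rw [← pow_two, ← pow_mul, show 2 * (m + 1) = r ^ n + 1 by omega, pow_succ, hn1, one_mul] at h
    exact hne h
  obtain ⟨e, heO, hefix⟩ := exists_fixed_in_set eConjPerm hR (O a)
    (fun g hg x hx => by
      have h := hOconj hg hx
      rw [hOeq (hinv g hg)] at h
      exact h)
    (fun h => (Fact.out : r.Prime).ne_one (Nat.eq_one_of_dvd_coprimes hcop (h.trans (hOdvd a)) dvd_rfl))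
  obtain ⟨heA, he0⟩ := hA'.1 (hOsub a haA e heO)
  obtain ⟨f', hf', -, e1, e2⟩ := exists_partner_elt ha hf hl h2 h3 heA he0
  refine ⟨e, heA, f', hf', he0, e1, e2, fun g hg => ⟨hefix g hg, ?_⟩⟩
  have he' : eConj g e = e := hefix g hg
  refine (partner_unique ha hf hl heA he0 hf' (act hf (hF g hg) f' hf') e1 ?_).symm
  conv_lhs => rw [← he', eConj_mul, eConj_mul, e1, he']

/-- The form over a prime field of characteristic greater than three. -/
theorem exists_fixed_elements {p : ℕ} [Fact p.Prime] (hp : 3 < p) {V : Type*} [AddCommGroup V]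
    [Module (ZMod p) V] [FiniteDimensional (ZMod p) V]
    {G R₁ : Subgroup (LinearMap.GeneralLinearGroup (ZMod p) V)} {r : ℕ} [Fact r.Prime]
    (hR : IsPGroup r R₁)
    (hn : R₁ ≤ Subgroup.normalizer (G : Set (LinearMap.GeneralLinearGroup (ZMod p) V)))
    (hcop : (Nat.card G).Coprime r) {a f : Module.End (ZMod p) V}
    (ha : QMin G a) (hf : QMin G f) (hl : Linked a f)
    (hA : ∀ g ∈ R₁, conjBy (eGrp G a ha) g = eGrp G a ha)
    (hF : ∀ g ∈ R₁, conjBy (eGrp G f hf) g = eGrp G f hf) :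
    ∃ e ∈ eSpace G a ha.sq, ∃ f' ∈ eSpace G f hf.sq, e ≠ 0 ∧ e * f' * e = e ∧ f' * e * f' = f' ∧
      ∀ g ∈ R₁, eConj g e = e ∧ eConj g f' = f' := by
  refine exists_fixed_elements' ?_ (by rw [Nat.card_zmod]; omega) ha hf hl hR hn hcop hA hF
  intro h
  have h' : ((2 : ℕ) : ZMod p) = 0 := by exact_mod_cast h
  rw [ZMod.natCast_eq_zero_iff] at h'
  have := Nat.le_of_dvd two_pos h'
  omega

end CfsgLib.Flavell
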