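import Mathlib
import Cfsg.Agent.Lib.Flavell.InvCap

/-!
Reduction of the invariant quadratic lemma to modules on which the group has no normal
`p`-subgroup: restriction to an invariant subspace and to its quotient.
-/

set_option autoImplicit false
set_option linter.style.haveILetI false
set_option linter.unusedSectionVars false

universe u

namespace CfsgLib.Flavell

open Cfsg Subgroup CfsgLib.ThreeTransp

variable {X : Type*} [Group X] {Y : Type*} [Group Y] {p r : ℕ}

theorem mem_invCap_map [Finite X] [Finite Y] [Fact p.Prime] [Fact r.Prime] {G R : Subgroup X}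
    (f : X →* Y) (hR : IsPGroup r R) (hn : R ≤ Subgroup.normalizer (G : Set X))
    (hcop : (Nat.card G).Coprime r) {g : X} (hg : g ∈ invCap p G R) :
    f g ∈ invCap p (G.map f) (R.map f) := by
  obtain ⟨hgG, hgS⟩ := mem_invCap.1 hg
  refine mem_invCap.2 ⟨mem_map_of_mem f hgG, fun Sb hSb => ?_⟩
  obtain ⟨hle, hSp, hSR⟩ := hSb.1
  set H := G ⊓ Sb.comap f with hH
  have hnH : R ≤ Subgroup.normalizer (H : Set X) := by
    intro a ha
    rw [Subgroup.mem_normalizer_iff]
    intro x
    have e1 := Subgroup.mem_normalizer_iff.1 (hn ha) x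
    have e2 := Subgroup.mem_normalizer_iff.1 (hSR (mem_map_of_mem f ha)) (f x)
    rw [hH, Subgroup.mem_inf, Subgroup.mem_inf, Subgroup.mem_comap, Subgroup.mem_comap, map_mul,
      map_mul, map_inv, e1, e2]
  obtain ⟨n, hcard⟩ := IsPGroup.iff_card.1 hR
  obtain ⟨P, -, hPR⟩ := CfsgLib.Coprime.exists_invariant_sylow_ge (p := p) hnH
    (by rw [hcard]; exact ((hcop.coprime_dvd_left
      (Subgroup.card_dvd_of_le inf_le_left)).symm.pow_left n))
    (Or.inl (haveI := hR.isNilpotent; inferInstance)) (bot_le : (⊥ : Subgroup X) ≤ H) IsPGroup.of_bot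
    (isInvP_bot (p := p) (G := G) (R := R)).2.2
  obtain ⟨S, hS, hPS⟩ := exists_invSyl_ge (p := p) (G := G) (R := R)
    (U := (P : Subgroup H).map H.subtype) ⟨(map_subtype_le _).trans inf_le_left, P.2.map _, hPR⟩
  -- the image of `P` is all of `Sb`
  let φ : H →* Sb := (f.comp H.subtype).codRestrict Sb fun x => x.2.2
  have hφ : Function.Surjective φ := by
    rintro ⟨y, hy⟩
    obtain ⟨x, hx, rfl⟩ := hle hy
    exact ⟨⟨x, hx, hy⟩, rfl⟩
  have htop : (P : Subgroup H).map φ = ⊤ :=
    ((P.mapSurjective hφ).3 (hSp.of_injective (⊤ : Subgroup Sb).subtype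
      (⊤ : Subgroup Sb).subtype_injective) le_top).symm
  have hle2 : Sb ≤ S.map f := by
    intro y hy
    obtain ⟨x, hx, e⟩ := (htop.ge (Subgroup.mem_top (⟨y, hy⟩ : Sb)))
    exact ⟨x, hPS (mem_map_of_mem H.subtype hx), congrArg Subtype.val e⟩
  exact hSb.2 ⟨map_mono hS.1.1, hS.1.2.1.map f,
    (map_mono hS.1.2.2).trans (le_normalizer_map f)⟩ hle2 (mem_map_of_mem f (hgS S hS))

theorem mem_invCap_of_map [Finite X] [Finite Y] {G R : Subgroup X} (f : X →* Y)
    (hf : Function.Injective f) {g : X} (hgG : g ∈ G)
    (hg : f g ∈ invCap p (G.map f) (R.map f)) : g ∈ invCap p G R := by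
  refine mem_invCap.2 ⟨hgG, fun S hS => ?_⟩
  obtain ⟨T, hT, hST⟩ := exists_invSyl_ge (p := p) (G := G.map f) (R := R.map f) (U := S.map f)
    ⟨map_mono hS.1.1, hS.1.2.1.map f, (map_mono hS.1.2.2).trans (le_normalizer_map f)⟩
  have hcom : T.comap f ≤ G := by
    intro x hx
    obtain ⟨y, hy, e⟩ := hT.1.1 hx
    exact hf e ▸ hy
  have h1 := hS.2 ⟨hcom, hT.1.2.1.comap_of_injective f hf, fun a ha => ?_⟩
    (map_le_iff_le_comap.1 hST)
  · exact h1 (invCap_le_invSyl hT hg)
  · rw [Subgroup.mem_normalizer_iff]
    intro x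
    rw [Subgroup.mem_comap, Subgroup.mem_comap, map_mul, map_mul, map_inv]
    exact Subgroup.mem_normalizer_iff.1 (hT.1.2.2 (mem_map_of_mem f ha)) (f x)

variable {V : Type u} [AddCommGroup V] [Module (ZMod p) V]

local notation "GLV" => LinearMap.GeneralLinearGroup (ZMod p) V

/-- The automorphisms mapping a subspace into itself, as a subgroup. -/
def subStab (W : Submodule (ZMod p) V) : Subgroup GLV where
  carrier := {g | (∀ w ∈ W, (g : Module.End (ZMod p) V) w ∈ W) ∧
    ∀ w ∈ W, ((g⁻¹ : GLV) : Module.End (ZMod p) V) w ∈ W}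
  one_mem' := ⟨fun w hw => hw, fun w hw => by rw [inv_one]; exact hw⟩
  mul_mem' {a b} ha hb := ⟨fun w hw => ha.1 _ (hb.1 w hw), fun w hw => by
    rw [mul_inv_rev]; exact hb.2 _ (ha.2 w hw)⟩
  inv_mem' {a} ha := ⟨ha.2, fun w hw => by rw [inv_inv]; exact ha.1 w hw⟩

/-- Restriction to the subspace. -/
def subRes (W : Submodule (ZMod p) V) :
    subStab W →* LinearMap.GeneralLinearGroup (ZMod p) W :=
  MonoidHom.toHomUnits
    { toFun := fun g => ((g : GLV) : Module.End (ZMod p) V).restrict g.2.1
      map_one' := LinearMap.ext fun _ => rfl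
      map_mul' := fun _ _ => LinearMap.ext fun _ => rfl }

/-- The action on the quotient. -/
def quotRes (W : Submodule (ZMod p) V) :
    subStab W →* LinearMap.GeneralLinearGroup (ZMod p) (V ⧸ W) :=
  MonoidHom.toHomUnits
    { toFun := fun g => W.mapQ W ((g : GLV) : Module.End (ZMod p) V) g.2.1
      map_one' := Submodule.linearMap_qext _ (LinearMap.ext fun _ => rfl)
      map_mul' := fun _ _ => Submodule.linearMap_qext _ (LinearMap.ext fun _ => rfl) }

theorem subRes_apply {W : Submodule (ZMod p) V} (g : subStab W) (w : W) :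
    (((subRes W g : LinearMap.GeneralLinearGroup (ZMod p) W) : Module.End (ZMod p) W) w : V) =
      ((g : GLV) : Module.End (ZMod p) V) w := rfl

theorem quotRes_apply {W : Submodule (ZMod p) V} (g : subStab W) (v : V) :
    ((quotRes W g : LinearMap.GeneralLinearGroup (ZMod p) (V ⧸ W)) : Module.End (ZMod p) (V ⧸ W))
      (Submodule.Quotient.mk v) =
      Submodule.Quotient.mk (((g : GLV) : Module.End (ZMod p) V) v) := rfl

theorem finite_gl [Fact p.Prime] [FiniteDimensional (ZMod p) V] : Finite GLV := by
  haveI : Finite V := Module.finite_of_finite (ZMod p)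
  haveI : Finite (Module.End (ZMod p) V) := Finite.of_injective _ DFunLike.coe_injective
  infer_instance

/-- The conclusion of the reduced quadratic lemma. -/
def QuadCore (p r : ℕ) [Fact p.Prime] : Prop :=
  ∀ (V : Type u) [AddCommGroup V] [Module (ZMod p) V] [FiniteDimensional (ZMod p) V]
    (G R : Subgroup (LinearMap.GeneralLinearGroup (ZMod p) V)),
    IsPGroup r R → R ≤ Subgroup.normalizer (G : Set (LinearMap.GeneralLinearGroup (ZMod p) V)) →
    (Nat.card G).Coprime r → NoPCore p G →
    (∀ (H R₁ : Subgroup (LinearMap.GeneralLinearGroup (ZMod p) V)), H ≤ G → H ≠ G → R₁ ≤ R →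
      R₁ ≤ Subgroup.normalizer (H : Set (LinearMap.GeneralLinearGroup (ZMod p) V)) →
      ∀ x : Module.End (ZMod p) V, x * x = 0 → qel x ∈ invCap p H R₁ → InPCore p H (qel x)) →
    ∀ s : Module.End (ZMod p) V, s * s = 0 → qel s ∈ invCap p G R → s = 0

/-- The fixed vectors of a subgroup. -/
def fixVec (Q : Subgroup GLV) : Submodule (ZMod p) V where
  carrier := {v | ∀ q ∈ Q, ((q : GLV) : Module.End (ZMod p) V) v = v}
  zero_mem' := fun q _ => map_zero _
  add_mem' {a b} ha hb q hq := by rw [map_add, ha q hq, hb q hq]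
  smul_mem' c {a} ha q hq := by rw [map_smul, ha q hq]

theorem fixVec_ne_bot [Fact p.Prime] [FiniteDimensional (ZMod p) V] [Nontrivial V] {Q : Subgroup GLV}
    (hQ : IsPGroup p Q) : fixVec Q ≠ ⊥ := by
  haveI : Finite V := Module.finite_of_finite (ZMod p)
  have hdvd : p ∣ Nat.card V := by
    rw [Module.natCard_eq_pow_finrank (K := ZMod p), Nat.card_zmod]
    exact dvd_pow_self _ (Module.finrank_pos (R := ZMod p) (M := V)).ne'
  obtain ⟨b, hb, hb0⟩ := hQ.exists_fixed_point_of_prime_dvd_card_of_fixed_point V hdvd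
    (a := 0) (fun q => smul_zero q)
  intro h
  have : b ∈ fixVec Q := fun q hq => hb ⟨q, hq⟩
  rw [h, Submodule.mem_bot] at this
  exact hb0 this.symm

variable [Fact p.Prime] [Fact r.Prime]

theorem quad_inPCore_aux (hcore : QuadCore.{u} p r) (n : ℕ) :
    ∀ (V : Type u) [AddCommGroup V] [Module (ZMod p) V] [FiniteDimensional (ZMod p) V]
      (G R : Subgroup (LinearMap.GeneralLinearGroup (ZMod p) V)),
      Nat.card G + Module.finrank (ZMod p) V = n →
      IsPGroup r R → R ≤ Subgroup.normalizer (G : Set (LinearMap.GeneralLinearGroup (ZMod p) V)) →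
      (Nat.card G).Coprime r →
      ∀ s : Module.End (ZMod p) V, s * s = 0 → qel s ∈ invCap p G R → InPCore p G (qel s) := by
  induction n using Nat.strong_induction_on with
  | _ n ih =>
    intro V _ _ _ G R hn hR hRG hcop s hs hmem
    haveI := finite_gl (p := p) (V := V)
    by_cases hW : ∃ W : Submodule (ZMod p) V, W ≠ ⊥ ∧ W ≠ ⊤ ∧
        ∀ g ∈ G ⊔ R, ∀ w ∈ W, ((g : LinearMap.GeneralLinearGroup (ZMod p) V) : Module.End (ZMod p) V) w ∈ W
    · obtain ⟨W, hW0, hW1, hWi⟩ := hW
      have hT : G ⊔ R ≤ subStab W := fun g hg => ⟨hWi g hg, hWi _ (inv_mem hg)⟩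
      set T := subStab W with hTdef
      haveI := finite_gl (p := p) (V := W)
      haveI := finite_gl (p := p) (V := V ⧸ W)
      have eG : (G.subgroupOf T).map T.subtype = G :=
        map_subgroupOf_eq_of_le (le_sup_left.trans hT)
      have eR : (R.subgroupOf T).map T.subtype = R :=
        map_subgroupOf_eq_of_le (le_sup_right.trans hT)
      have hR' : IsPGroup r (R.subgroupOf T) := hR.comap_of_injective T.subtype T.subtype_injective
      have hcard : Nat.card (G.subgroupOf T) = Nat.card G :=
        Nat.card_congr (subgroupOfEquivOfLe (le_sup_left.trans hT)).toEquiv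
      have hn' : R.subgroupOf T ≤ Subgroup.normalizer (G.subgroupOf T : Set T) := by
        intro a ha
        rw [Subgroup.mem_normalizer_iff]
        intro x
        simp only [Subgroup.mem_subgroupOf, Subgroup.coe_mul, Subgroup.coe_inv]
        exact Subgroup.mem_normalizer_iff.1 (hRG ha) x
      have hcop' : (Nat.card (G.subgroupOf T)).Coprime r := hcard.symm ▸ hcop
      have hsG : qel s ∈ G := invCap_le hmem
      set x : T := ⟨qel s, hT (mem_sup_left hsG)⟩ with hx
      have hx' : x ∈ invCap p (G.subgroupOf T) (R.subgroupOf T) :=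
        mem_invCap_of_map T.subtype T.subtype_injective hsG (by rw [eG, eR]; exact hmem)
      have hsW : ∀ w ∈ W, s w ∈ W := fun w hw => by
        have h1 := x.2.1 w hw
        rw [hx, qel_val hs, LinearMap.add_apply, Module.End.one_apply] at h1
        simpa using sub_mem h1 hw
      have hd := Submodule.finrank_quotient_add_finrank W
      have hWpos : 0 < Module.finrank (ZMod p) W := by
        rw [Nat.pos_iff_ne_zero, Ne, Submodule.finrank_eq_zero]
        exact hW0
      have hWlt : Module.finrank (ZMod p) W < Module.finrank (ZMod p) V := Submodule.finrank_lt hW1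
      -- the restriction
      set f₁ := subRes W
      have h₁ : InPCore p ((G.subgroupOf T).map f₁) (f₁ x) := by
        have e : f₁ x = qel (s.restrict hsW) := by
          refine (qel_eq_of_val (LinearMap.ext fun w => Subtype.ext ?_) ?_).symm
          · exact LinearMap.congr_fun hs (w : V)
          · refine LinearMap.ext fun w => Subtype.ext ?_
            rw [subRes_apply, hx, qel_val hs]
            rfl
        have hle : Nat.card ((G.subgroupOf T).map f₁) ≤ Nat.card G :=
          hcard ▸ Nat.le_of_dvd Nat.card_pos (Subgroup.card_map_dvd _ f₁)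
        rw [e]
        refine ih _ (by omega) W _ _ rfl (hR'.map f₁)
          ((map_mono hn').trans (le_normalizer_map f₁))
          (hcop'.coprime_dvd_left (Subgroup.card_map_dvd _ f₁)) _ ?_ (e ▸ mem_invCap_map f₁ hR' hn' hcop' hx')
        exact LinearMap.ext fun w => Subtype.ext (LinearMap.congr_fun hs (w : V))
      -- the quotient
      set f₂ := quotRes W
      have h₂ : InPCore p ((G.subgroupOf T).map f₂) (f₂ x) := by
        have hsq : W.mapQ W s hsW * W.mapQ W s hsW = 0 :=
          Submodule.linearMap_qext _ (LinearMap.ext fun v => by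
            show Submodule.Quotient.mk (s (s v)) = 0
            rw [← Module.End.mul_apply, hs]
            rfl)
        have e : f₂ x = qel (W.mapQ W s hsW) := by
          refine (qel_eq_of_val hsq (Submodule.linearMap_qext _ (LinearMap.ext fun v => ?_))).symm
          show ((f₂ x : LinearMap.GeneralLinearGroup (ZMod p) (V ⧸ W)) : Module.End (ZMod p) (V ⧸ W))
            (Submodule.Quotient.mk v) = _
          rw [quotRes_apply, hx, qel_val hs]
          rfl
        have hle : Nat.card ((G.subgroupOf T).map f₂) ≤ Nat.card G :=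
          hcard ▸ Nat.le_of_dvd Nat.card_pos (Subgroup.card_map_dvd _ f₂)
        rw [e]
        exact ih _ (by omega) (V ⧸ W) _ _ rfl (hR'.map f₂)
          ((map_mono hn').trans (le_normalizer_map f₂))
          (hcop'.coprime_dvd_left (Subgroup.card_map_dvd _ f₂)) _ hsq
          (e ▸ mem_invCap_map f₂ hR' hn' hcop' hx')
      -- the preimage of both
      obtain ⟨N₁, hN₁G, hN₁n, hN₁p, hx₁⟩ := h₁
      obtain ⟨N₂, hN₂G, hN₂n, hN₂p, hx₂⟩ := h₂
      set N' := G.subgroupOf T ⊓ N₁.comap f₁ ⊓ N₂.comap f₂ with hN'
      refine ⟨N'.map T.subtype, (map_mono (inf_le_left.trans inf_le_left)).trans eG.le, ?_, ?_,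
        ⟨x, ⟨⟨hsG, hx₁⟩, hx₂⟩, rfl⟩⟩
      · refine eG.ge.trans ((map_mono ?_).trans (le_normalizer_map T.subtype))
        intro g hg
        rw [Subgroup.mem_normalizer_iff]
        intro y
        simp only [hN', Subgroup.mem_inf, Subgroup.mem_comap, map_mul, map_inv]
        rw [Subgroup.mem_normalizer_iff.1 (hN₁n (mem_map_of_mem f₁ hg)) (f₁ y),
          Subgroup.mem_normalizer_iff.1 (hN₂n (mem_map_of_mem f₂ hg)) (f₂ y),
          Subgroup.mem_normalizer_iff.1 (Subgroup.le_normalizer hg) y]
      · rintro ⟨_, y, hy, rfl⟩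
        obtain ⟨a, ha⟩ := hN₁p ⟨f₁ y, hy.1.2⟩
        obtain ⟨b, hb⟩ := hN₂p ⟨f₂ y, hy.2⟩
        refine ⟨a + b + 1, Subtype.ext ?_⟩
        set z := y ^ (p ^ (a + b)) with hz
        have z1 : f₁ z = 1 := by
          have ha' : f₁ y ^ (p ^ a) = 1 := congrArg Subtype.val ha
          rw [hz, map_pow, pow_add, pow_mul, ha', one_pow]
        have z2 : f₂ z = 1 := by
          have hb' : f₂ y ^ (p ^ b) = 1 := congrArg Subtype.val hb
          rw [hz, map_pow, pow_add, mul_comm, pow_mul, hb', one_pow]
        set e : Module.End (ZMod p) V := ((z : LinearMap.GeneralLinearGroup (ZMod p) V) : Module.End (ZMod p) V) - 1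
          with he
        have hmemW : ∀ v, e v ∈ W := by
          intro v
          have h3 := quotRes_apply z v
          rw [show quotRes W z = 1 from z2] at h3
          exact (Submodule.Quotient.eq W).1 h3.symm
        have hzero : ∀ w ∈ W, e w = 0 := by
          intro w hw
          have h3 := subRes_apply z ⟨w, hw⟩
          rw [show subRes W z = 1 from z1] at h3
          rw [he, LinearMap.sub_apply, ← h3]
          exact sub_self _
        have he2 : e * e = 0 := LinearMap.ext fun v => hzero _ (hmemW v)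
        have hp0 : (p : Module.End (ZMod p) V) = 0 := by
          rw [← map_natCast (algebraMap (ZMod p) (Module.End (ZMod p) V)), ZMod.natCast_self, map_zero]
        have hpp : ∀ m : ℕ, (1 + e) ^ m = 1 + m • e := by
          intro m
          induction m with
          | zero => simp
          | succ m ihm => rw [pow_succ, ihm, add_mul, one_mul, mul_add, mul_one, smul_mul_assoc, he2,
              smul_zero, add_zero, succ_nsmul]; abel
        have h4 : ((z : LinearMap.GeneralLinearGroup (ZMod p) V) : Module.End (ZMod p) V) ^ p = 1 := by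
          have : ((z : LinearMap.GeneralLinearGroup (ZMod p) V) : Module.End (ZMod p) V) = 1 + e := by
            rw [he, add_sub_cancel]
          rw [this, hpp, nsmul_eq_mul, hp0, zero_mul, add_zero]
        refine Units.ext ?_
        rw [Subgroup.coe_pow, pow_succ, pow_mul]
        rw [← Subgroup.coe_subtype, hz, map_pow] at h4
        simpa using h4
    · push Not at hW
      rcases subsingleton_or_nontrivial V with hV | hV
      · have : qel s = 1 := Units.ext (Subsingleton.elim _ _)
        exact ⟨⊥, bot_le, fun g _ => conjBy_eq_self_iff.1 (Subgroup.map_bot _), IsPGroup.of_bot,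
          Subgroup.mem_bot.2 this⟩
      have hno : NoPCore p G := by
        intro N hNG hGN hNp
        set Q := ⨆ a : R, conjBy N (a : LinearMap.GeneralLinearGroup (ZMod p) V) with hQ
        have hconj : ∀ a : R, conjBy N (a : LinearMap.GeneralLinearGroup (ZMod p) V) ≤ G :=
          fun a => (conjBy_mono _ hNG).trans (conjBy_eq_of_mem_normalizer (hRG a.2)).le
        have hnc : ∀ a : R, G ≤ Subgroup.normalizer
            (conjBy N (a : LinearMap.GeneralLinearGroup (ZMod p) V) : Set _) := by
          intro a g hg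
          refine conjBy_eq_self_iff.1 ?_
          set c := (a : LinearMap.GeneralLinearGroup (ZMod p) V)
          have hg' : c⁻¹ * g * c ∈ G := by
            have := (Subgroup.mem_normalizer_iff.1 (inv_mem (hRG a.2)) g).1 hg
            simpa using this
          rw [← conjBy_mul, show g * c = c * (c⁻¹ * g * c) by group, conjBy_mul,
            conjBy_eq_self_iff.2 (hGN hg')]
        have hQG : Q ≤ G := iSup_le hconj
        have hQp : IsPGroup p Q := isPGroup_iSup_of_normalizing _ (fun a => isPGroup_conjBy hNp _)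
          fun i j => (hconj i).trans (hnc j)
        have hnorm : G ⊔ R ≤ Subgroup.normalizer (Q : Set _) := by
          refine sup_le (le_normalizer_iSup _ G fun g hg i => ⟨i, conjBy_eq_of_mem_normalizer (hnc i hg)⟩)
            (le_normalizer_iSup _ R fun a ha i => ⟨⟨a, ha⟩ * i, ?_⟩)
          rw [← conjBy_mul]
          rfl
        have hinv : ∀ g ∈ G ⊔ R, ∀ w ∈ fixVec Q, ((g : LinearMap.GeneralLinearGroup (ZMod p) V) :
            Module.End (ZMod p) V) w ∈ fixVec Q := by
          intro g hg w hw q hq
          have h1 : g⁻¹ * q * g ∈ Q := by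
            have := (Subgroup.mem_normalizer_iff.1 (inv_mem (hnorm hg)) q).1 hq
            simpa using this
          have h2 := congrArg ((g : LinearMap.GeneralLinearGroup (ZMod p) V) : Module.End (ZMod p) V)
            (hw _ h1)
          rw [← Module.End.mul_apply, ← Units.val_mul] at h2
          rwa [show g * (g⁻¹ * q * g) = q * g by group, Units.val_mul, Module.End.mul_apply] at h2
        have htop : fixVec Q = ⊤ := by
          by_contra htop
          obtain ⟨g, hg, w, hw, hbad⟩ := hW _ (fixVec_ne_bot hQp) htop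
          exact hbad (hinv g hg w hw)
        refine le_bot_iff.1 fun y hy => ?_
        have hyQ : y ∈ Q := (le_iSup (fun a : R => conjBy N (a : LinearMap.GeneralLinearGroup (ZMod p) V)) 1)
          (by rw [Subgroup.coe_one, conjBy_one]; exact hy)
        refine Subgroup.mem_bot.2 (Units.ext (LinearMap.ext fun v => ?_))
        exact (htop.ge Submodule.mem_top : v ∈ fixVec Q) y hyQ
      have h0 : s = 0 := hcore V G R hR hRG hcop hno (fun H R₁ hH hne hR₁ hn₁ y hy hymem => by
        have hlt : Nat.card H < Nat.card G :=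
          Nat.lt_of_le_of_ne (Nat.le_of_dvd Nat.card_pos (card_dvd_of_le hH))
            fun e => hne (eq_of_le_of_card_ge hH e.ge)
        exact ih _ (by omega) V H R₁ rfl (hR.to_le hR₁) hn₁
          (hcop.coprime_dvd_left (card_dvd_of_le hH)) y hy hymem) s hs hmem
      refine ⟨⊥, bot_le, fun g _ => conjBy_eq_self_iff.1 (Subgroup.map_bot _), IsPGroup.of_bot, ?_⟩
      rw [h0, qel_zero]
      exact one_mem _

/-- The quadratic lemma follows from its core case. -/
theorem quad_inPCore (hcore : QuadCore.{u} p r) (V : Type u) [AddCommGroup V] [Module (ZMod p) V]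
    [FiniteDimensional (ZMod p) V] (G R : Subgroup (LinearMap.GeneralLinearGroup (ZMod p) V))
    (hR : IsPGroup r R)
    (hn : R ≤ Subgroup.normalizer (G : Set (LinearMap.GeneralLinearGroup (ZMod p) V)))
    (hcop : (Nat.card G).Coprime r) :
    ∀ s : Module.End (ZMod p) V, s * s = 0 → qel s ∈ invCap p G R → InPCore p G (qel s) :=
  quad_inPCore_aux hcore _ V G R rfl hR hn hcop

end CfsgLib.Flavell
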