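import Mathlib
import Cfsg.Agent.Lib.Flavell.Component
import Cfsg.Agent.Lib.Flavell.FixedElt
import Cfsg.Agent.Lib.Flavell.Reduce
import Cfsg.Agent.Lib.Flavell.Chief

/-!
Quadratic elements in the intersection of the invariant Sylow subgroups of a linear group are trivial
when there is no normal `p`-subgroup.
-/

set_option autoImplicit false
set_option linter.unusedSectionVars false
set_option linter.unusedSimpArgs false
set_option linter.style.haveILetI false

namespace CfsgLib.Flavell

open Cfsg CfsgLib.ThreeTransp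

universe u

variable {p : ℕ} [Fact p.Prime] {V : Type u} [AddCommGroup V] [Module (ZMod p) V]
  [FiniteDimensional (ZMod p) V] {G R : Subgroup (LinearMap.GeneralLinearGroup (ZMod p) V)}

local notation "GLM" => LinearMap.GeneralLinearGroup (ZMod p) V
local notation "EndM" => Module.End (ZMod p) V

variable {s : Module.End (ZMod p) V}

theorem noncommute_hEl {e f : EndM} {l : ZMod p} {h : GLM} (he : QMin G e) (hef : IsPartner G e f)
    (hl0 : l ≠ 0) (hl2 : l * l ≠ 1) (hh : (h : EndM) = hEl e f l) : qel e * h ≠ h * qel e := by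
  intro hc
  have h4 : e * (h : EndM) = (h : EndM) * e := by
    have := congrArg (fun u : GLM => (u : EndM)) hc
    simp only [Units.val_mul, qel_val he.sq, add_mul, mul_add, one_mul, mul_one] at this
    exact add_left_cancel this
  rw [hh, self_mul_hEl hef, hEl_mul_self hef] at h4
  have := sub_eq_zero.2 h4
  rw [← sub_smul, smul_eq_zero] at this
  rcases this with h5 | h5
  · rw [sub_eq_zero] at h5
    exact hl2 (by nth_rewrite 2 [← h5]; exact mul_inv_cancel₀ hl0)
  · exact he.2.1 h5

theorem isPGroup_zpowers_fst {e f : EndM} {l : ZMod p} {h : GLM} (hef : IsPartner G e f) {q n : ℕ}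
    [Fact q.Prime] (hlq : l ^ q ^ n = 1) (hh : (h : EndM) = hEl e f l) :
    IsPGroup q (Subgroup.zpowers h) := by
  have h4 := (isPGroup_zpowers_hEl hef hlq hh).map (MonoidHom.fst GLM (ZMod p)ˣ)
  rwa [MonoidHom.map_zpowers] at h4

/-- The irreducible case. -/
theorem core_zero (hp : 3 < p) {r : ℕ} [Fact r.Prime] (hRr : IsPGroup r R)
    (hn : R ≤ Subgroup.normalizer (G : Set GLM)) (hcop : (Nat.card G).Coprime r) (hG : NoPCore p G)
    (IH : SubgroupHyp p G R) (hs : s * s = 0) (hsP : qel s ∈ invCap p G R) : s = 0 := by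
  haveI : Finite GLM := finite_GLM
  haveI : NeZero p := ⟨(Fact.out : p.Prime).ne_zero⟩
  by_contra hs0
  have h2 := two_ne hp
  have h3 := card_ne_three hp
  obtain ⟨l, q, n, hq, hqp, hl0, hl1, hl2, hlq⟩ := exists_scalar (p := p) hp
  haveI : Fact q.Prime := ⟨hq⟩
  obtain ⟨a, ha⟩ := exists_qmin (qfam_of_mem hs (invCap_le hsP)) hs0
  obtain ⟨a0, f0, ha0, hf0, hl, hcls, hfix⟩ := exists_fixed_pair h2 h3 hl0 hl1 hl2 hG hRr hn hcop ha
  set A := eGrp G a0 ha0 with hA
  set R₁ := classStab G R hn A with hR₁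
  have hR₁fix : ∀ g ∈ R₁, conjBy A g = A ∧ conjBy (eGrp G f0 hf0) g = eGrp G f0 hf0 := fun g hg =>
    hfix g hg.1 (rootCls_trans (rootCls_trans hcls hg.2) (rootCls_symm (rootCls_conj (hn hg.1) hcls)))
  obtain ⟨e, hea, f, hff, he0, hefe, hfef, hef_fix⟩ := exists_fixed_elements hp (hRr.to_le classStab_le)
    (classStab_le.trans hn) hcop ha0 hf0 hl (fun g hg => (hR₁fix g hg).1) (fun g hg => (hR₁fix g hg).2)
  have hf0' : f ≠ 0 := fun h => he0 (by rw [← hefe, h, mul_zero, zero_mul])
  obtain ⟨hem, her, hek⟩ := eSpace_data ha0 hea he0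
  obtain ⟨hfm, hfr, hfk⟩ := eSpace_data hf0 hff hf0'
  have hlink : Linked e f := (linked_congr her hek hfr hfk).2 hl
  have heA : eGrp G e hem = A := eGrp_congr her hek
  have hef : IsPartner G e f := ⟨hem.sq, hfm.1, hefe, hfef⟩
  have hfe : IsPartner G f e := ⟨hfm.sq, hem.1, hfef, hefe⟩
  have hfcls : eGrp G f hfm ∈ rootCls G A := by
    rw [← heA]; exact cls_of_linked h2 h3 hem hfm hlink
  have hfstab : ∀ g ∈ classStab G R hn (eGrp G f hfm), g ∈ R₁ := fun g hg => ⟨hg.1,
    rootCls_trans (rootCls_trans hfcls hg.2) (rootCls_symm (rootCls_conj (hn hg.1) hfcls))⟩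
  have hfR₁ : classStab G R hn (eGrp G f hfm) = R₁ := by
    refine le_antisymm hfstab fun g hg => ⟨hg.1, ?_⟩
    exact rootCls_trans (rootCls_trans (rootCls_symm hfcls) hg.2) (rootCls_conj (hn hg.1) hfcls)
  set T := clsGrp G A with hT
  have hfT : clsGrp G (eGrp G f hfm) = T := clsGrp_congr hfcls
  have hTG : T ≤ G := (clsGrp_le ha0).trans qG0_le
  have hTn : G ≤ Subgroup.normalizer (T : Set GLM) := by
    rw [← sup_orbit_eq hp hRr hn hcop hG IH hs hs0 hsP]
    refine sup_le qG0_le_normalizer_clsGrp ((Subgroup.closure_le _).2 ?_)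
    rintro _ ⟨g, hg, rfl⟩
    obtain ⟨c1, c2⟩ := conj_quad hn hs hsP hg
    show g * qel s * g⁻¹ ∈ Subgroup.normalizer (T : Set GLM)
    rw [qel_conj hs]
    exact class_fixed_normalizer hp hRr hn hcop hG IH c1 c2 ha0
  have parts : ∀ x, x * x = 0 → qel x ∈ invCap p G R →
      (e * x * e = 0 ∧ (x * e * x) * (x * e * x) = 0 ∧ qel (x * e * x) ∈ invCap p T R₁ ∧
        (x * e * x = 0 → (x * e - e * x) * (x * e - e * x) = 0 ∧ qel (x * e - e * x) ∈ invCap p T R₁)) ∧
      (f * x * f = 0 ∧ (x * f * x) * (x * f * x) = 0 ∧ qel (x * f * x) ∈ invCap p T R₁ ∧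
        (x * f * x = 0 → (x * f - f * x) * (x * f - f * x) = 0 ∧ qel (x * f - f * x) ∈ invCap p T R₁)) := by
    intro x hx hxP
    constructor
    · have := commutator_parts hp hRr hn hcop hG IH hem
        (fun g hg => (hef_fix g (by rw [heA] at hg; exact hg)).1) hx hxP
      rw [heA] at this; exact this
    · have := commutator_parts hp hRr hn hcop hG IH hfm (fun g hg => (hef_fix g (hfstab g hg)).2) hx hxP
      rw [hfT, hfR₁] at this; exact this
  obtain ⟨h, hhG, hh⟩ := exists_hEl hem.1 hef hl0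
  have hnc := noncommute_hEl hem hef hl0 hl2 hh
  have hhT : h ∈ T := by
    have heT : ∀ c : ZMod p, qel (c • e) ∈ T := fun c => le_clsGrp (self_mem_rootCls A)
      (heA ▸ qel_mem_eGrp hem (Submodule.smul_mem _ c (self_mem_eSpace hem)))
    have hfTm : ∀ c : ZMod p, qel (c • f) ∈ T := fun c =>
      le_clsGrp hfcls (qel_mem_eGrp hfm (Submodule.smul_mem _ c (self_mem_eSpace hfm)))
    have heQ : QFam T e := ⟨hem.sq, heT⟩
    obtain ⟨h', hh'T, hh'⟩ := exists_hEl (G := T) heQ ⟨hem.sq, ⟨hfm.sq, hfTm⟩, hefe, hfef⟩ hl0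
    rwa [show h = h' from Units.ext (hh.trans hh'.symm)]
  by_cases hTG' : T = G
  · -- one class
    have hR : R₁ = R := by
      refine le_antisymm classStab_le fun g hg => ?_
      by_contra hgn
      have hc : conjBy A g ∉ rootCls G A := fun h1 => hgn ⟨hg, h1⟩
      have hcomm := clsGrp_conj_commute hp hG ha0 (hn hg) hc
      rw [← hA, ← hT, hTG', conjBy_eq_self_iff.2 (hn hg)] at hcomm
      exact hnc (hcomm _ hem.1.mem _ hhG)
    rw [hTG', hR] at parts
    rw [← hR₁, hR] at hef_fix
    have hfixh : ∀ g ∈ R, g * h = h * g := by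
      intro g hg
      obtain ⟨h1, h1'⟩ := hef_fix g hg
      have k1 : (g : EndM) * e = e * g := by
        have := congrArg (· * (g : EndM)) h1
        simpa [eConj, mul_assoc] using this
      have k2 : (g : EndM) * f = f * g := by
        have := congrArg (· * (g : EndM)) h1'
        simpa [eConj, mul_assoc] using this
      refine Units.ext ?_
      rw [Units.val_mul, Units.val_mul, hh]
      exact commute_hEl k1 k2 l
    have hA0 : ∀ u ∈ G, (∀ g ∈ R, g * u = u * g) → IsPGroup q (Subgroup.zpowers u) →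
        (∃ g ∈ G, g * u ≠ u * g) → ∀ z, z * z = 0 → qel z ∈ invCap p G R →
        u * qel z = qel z * u → z = 0 := by
      intro u hu hur huq hunc z hz hzP hzu
      refine not_centralized hp hRr hn hcop hG IH hl0 hl1 hl2 hqp hlq hqp huq (Subgroup.zpowers_le.2 hu)
        (le_normalizer_of_conj fun g hg b hb => ?_) ⟨u, Subgroup.mem_zpowers _, hunc⟩ hz hzP ?_
      · obtain ⟨i, rfl⟩ := Subgroup.mem_zpowers_iff.1 hb
        refine ⟨i, ?_⟩
        show u ^ i = g * u ^ i * g⁻¹
        rw [← conj_zpow, hur g hg, mul_inv_cancel_right]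
      · intro b hb
        obtain ⟨i, rfl⟩ := Subgroup.mem_zpowers_iff.1 hb
        exact ((show Commute u (qel z) from hzu).zpow_left i).eq
    have hJM := exists_partner_min hp hRr hn hcop hG IH hl0 hl1 hl2 hqp hlq hs hs0 hsP
    have hee : ∀ w : EndM, e * (e * w) = 0 := fun w => by rw [← mul_assoc, hem.sq, zero_mul]
    have fin : ∀ {e f : EndM}, QMin G e → QMin G f → Linked e f → IsPartner G e f →
        (∀ g ∈ R, eConj g e = e) → (∀ g ∈ R, eConj g f = f) →
        (e * s * e = 0 ∧ (s * e * s) * (s * e * s) = 0 ∧ qel (s * e * s) ∈ invCap p G R ∧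
          (s * e * s = 0 → (s * e - e * s) * (s * e - e * s) = 0 ∧ qel (s * e - e * s) ∈ invCap p G R)) →
        s * e = e * s := by
      intro e f he hf hl hp' hfe hff hparts
      obtain ⟨p1, p2, p3, p4⟩ := hparts
      have p1' : ∀ w : EndM, e * (s * (e * w)) = 0 := fun w => by
        have := congrArg (· * w) p1; simpa [mul_assoc] using this
      have p1'' : e * (s * e) = 0 := by rw [← mul_assoc]; exact p1
      by_cases hD : s * e * s = 0
      · obtain ⟨p5, p6⟩ := p4 hD
        by_contra hne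
        refine false_of_annihilated hp hn hqp hl0 hl1 hl2 hlq hJM he hf hl hp' hfe hff hA0 p5 p6
          (fun h0 => hne (sub_eq_zero.1 h0)) ?_ ?_
        · simp only [mul_sub, p1'', ← mul_assoc e e, he.sq, zero_mul, sub_zero]
        · simp only [sub_mul, mul_assoc, he.sq, mul_zero, p1'', sub_zero]
      · exfalso
        refine false_of_annihilated hp hn hqp hl0 hl1 hl2 hlq hJM he hf hl hp' hfe hff hA0 p2 p3 hD ?_ ?_
        · simp only [mul_assoc, p1', mul_zero]
        · simp only [mul_assoc, p1'', mul_zero]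
    have c1 := fin hem hfm hlink hef (fun g hg => (hef_fix g hg).1) (fun g hg => (hef_fix g hg).2) (parts s hs hsP).1
    have c2 := fin hfm hem hlink.symm hfe (fun g hg => (hef_fix g hg).2) (fun g hg => (hef_fix g hg).1)
      (parts s hs hsP).2
    refine hs0 (hA0 h hhG hfixh (isPGroup_zpowers_fst hef hlq hh) ⟨qel e, hem.1.mem, hnc⟩ s hs hsP
      (qel_commute_of hs ?_))
    rw [hh]; exact commute_hEl c1 c2 l
  · -- several classes: the element centralizes all the fixed tori
    have hTp : NoPCore p T := NoPCore.normal hG hTG hTn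
    have kill : ∀ x, x * x = 0 → qel x ∈ invCap p T R₁ → x = 0 := by
      intro x hx hxT
      by_contra hx0
      exact qel_ne_one hx hx0 ((IH T R₁ hTG hTG' classStab_le classStab_norm x hx hxT).eq_one hTp)
    have comm : ∀ x, x * x = 0 → qel x ∈ invCap p G R → h * qel x = qel x * h := by
      intro x hx hxP
      obtain ⟨⟨-, a2, a3, a4⟩, -, b2, b3, b4⟩ := parts x hx hxP
      obtain ⟨a5, a6⟩ := a4 (kill _ a2 a3)
      obtain ⟨b5, b6⟩ := b4 (kill _ b2 b3)
      refine qel_commute_of hx ?_
      rw [hh]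
      exact commute_hEl (sub_eq_zero.1 (kill _ a5 a6)) (sub_eq_zero.1 (kill _ b5 b6)) l
    set H : Subgroup GLM := ⨆ g : R, conjBy (Subgroup.zpowers h) (g : GLM) with hH
    have hzG : Subgroup.zpowers h ≤ G := Subgroup.zpowers_le.2 hhG
    have hHG : H ≤ G := iSup_le fun g => (conjBy_mono _ hzG).trans (le_of_eq (conjBy_eq_self_iff.2 (hn g.2)))
    have hHn : R ≤ Subgroup.normalizer (H : Set GLM) :=
      le_normalizer_iSup _ R fun g hg i => ⟨⟨g, hg⟩ * i, by rw [← conjBy_mul]; rfl⟩
    have hzc : ∀ g ∈ R, conjBy (Subgroup.zpowers h) g = Subgroup.zpowers h ∨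
        ∀ u ∈ Subgroup.zpowers h, ∀ v ∈ conjBy (Subgroup.zpowers h) g, u * v = v * u := by
      intro g hg
      by_cases hc : conjBy A g ∈ rootCls G A
      · left
        obtain ⟨h1, h1'⟩ := hef_fix g ⟨hg, hc⟩
        have k1 : (g : EndM) * e = e * g := by
          have := congrArg (· * (g : EndM)) h1
          simpa [eConj, mul_assoc] using this
        have k2 : (g : EndM) * f = f * g := by
          have := congrArg (· * (g : EndM)) h1'
          simpa [eConj, mul_assoc] using this
        have hgh : g * h = h * g := by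
          refine Units.ext ?_
          rw [Units.val_mul, Units.val_mul, hh]
          exact commute_hEl k1 k2 l
        rw [conjBy, MonoidHom.map_zpowers]
        congr 1
        show g * h * g⁻¹ = h
        rw [hgh, mul_inv_cancel_right]
      · right
        intro u hu v hv
        exact clsGrp_conj_commute hp hG ha0 (hn hg) hc u ((Subgroup.zpowers_le.2 hhT) hu) v
          (conjBy_mono g (Subgroup.zpowers_le.2 hhT) hv)
    have hHq : IsPGroup q H := by
      refine isPGroup_iSup_of_normalizing _ (fun g => (isPGroup_zpowers_fst hef hlq hh).map _) fun i j => ?_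
      rcases hzc _ (R.mul_mem (R.inv_mem j.2) i.2) with e1 | e1
      · have : conjBy (Subgroup.zpowers h) (i : GLM) = conjBy (Subgroup.zpowers h) (j : GLM) := by
          conv_rhs => rw [← e1]
          rw [← conjBy_mul, mul_inv_cancel_left]
        rw [this]
        exact Subgroup.le_normalizer
      · have e' := conjBy_centralize (j : GLM) e1
        rw [← conjBy_mul, mul_inv_cancel_left] at e'
        exact le_normalizer_of_commute fun a ha b hb => (e' b hb a ha).symm
    refine hs0 (not_centralized hp hRr hn hcop hG IH hl0 hl1 hl2 hqp hlq hqp hHq hHG hHn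
      ⟨h, (le_iSup_of_le (f := fun g : R => conjBy (Subgroup.zpowers h) (g : GLM)) 1
        (le_of_eq (conjBy_one _).symm)) (Subgroup.mem_zpowers h), qel e, hem.1.mem, hnc⟩ hs hsP ?_)
    have hle : H ≤ Subgroup.centralizer ({qel s} : Set GLM) := by
      refine iSup_le fun g => ?_
      rw [conjBy, MonoidHom.map_zpowers, Subgroup.zpowers_le]
      refine Subgroup.mem_centralizer_iff.2 fun z hz => ?_
      rw [Set.mem_singleton_iff] at hz
      subst hz
      obtain ⟨c1, c2⟩ := conj_quad hn hs hsP (R.inv_mem g.2)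
      have h1 := comm _ c1 c2
      rw [← qel_conj hs, inv_inv] at h1
      show qel s * ((g : GLM) * h * (g : GLM)⁻¹) = (g : GLM) * h * (g : GLM)⁻¹ * qel s
      calc qel s * ((g : GLM) * h * (g : GLM)⁻¹)
          = (g : GLM) * ((g : GLM)⁻¹ * qel s * (g : GLM) * h) * (g : GLM)⁻¹ := by group
        _ = (g : GLM) * (h * ((g : GLM)⁻¹ * qel s * (g : GLM))) * (g : GLM)⁻¹ := by rw [h1]
        _ = (g : GLM) * h * (g : GLM)⁻¹ * qel s := by group
    exact fun b hb => (Subgroup.mem_centralizer_iff.1 (hle hb) _ rfl).symm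

theorem quadCore (hp : 3 < p) (r : ℕ) [Fact r.Prime] : QuadCore.{u} p r :=
  fun _ _ _ _ _ _ hRr hn hcop hG IH _ hs hsP => core_zero hp hRr hn hcop hG IH hs hsP

theorem quadInPCore (hp : 3 < p) (r : ℕ) [Fact r.Prime] : QuadInPCore.{u} p r :=
  fun V _ _ _ G R hR hn hcop => quad_inPCore (quadCore hp r) V G R hR hn hcop

end CfsgLib.Flavell
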